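import Cfsg.Agent.UFourType.SLThree
import Cfsg.Agent.Linear.Perfect
import Mathlib.LinearAlgebra.Matrix.GeneralLinearGroup.Card

/-!
Finite facts about `SL(2, 3)` and about triples of independent vectors over the field of two
elements, for the frame of the recognition of `G₂(3)`.
-/

set_option autoImplicit false
set_option maxRecDepth 20000
set_option maxHeartbeats 1000000
set_option synthInstance.maxHeartbeats 200000
set_option synthInstance.maxSize 2000
set_option linter.style.haveILetI false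

namespace CfsgLib.G2Rec

open CfsgLib.UFourType.Frame

theorem card_SL : Nat.card SL = 24 := by
  rw [Nat.card_eq_fintype_card]; decide +kernel

theorem center_SL : ∀ a : SL, (∀ b : SL, a * b = b * a) → a = 1 ∨ a = N := by decide +kernel

theorem sq_quat : ∀ a : SL, a ^ 4 = 1 → a = 1 ∨ a = N ∨ a * a = N := by decide +kernel

theorem four_of_sq : ∀ a : SL, a * a = N → a ^ 4 = 1 := by decide +kernel

theorem four_of_eight : ∀ a : SL, (a * a) ^ 4 = 1 → a ^ 4 = 1 := by decide +kernel

/-- Two elements of order four in general position. -/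
def Pair2 (i j : SL) : Prop := i * i = N ∧ j * j = N ∧ i * j * (i * j) = N

/-- An element of order three rotating `i`, `j`, `i * j`. -/
def Rot (i j s : SL) : Prop := s ^ 3 = 1 ∧ s * i * s⁻¹ = j ∧ s * j * s⁻¹ = i * j

theorem exists_rot : ∀ i : SL, i * i = N → ∀ j : SL, j * j = N → i * j * (i * j) = N →
    ∃ s : SL, s ^ 3 = 1 ∧ s * i * s⁻¹ = j ∧ s * j * s⁻¹ = i * j := by decide +kernel

theorem anti : ∀ i : SL, i * i = N → ∀ j : SL, j * j = N → i * j * (i * j) = N →
    i * j * i⁻¹ = j * N ∧ j * i * j⁻¹ = i * N ∧ i * j * i⁻¹ * i = j * i * N := by decide +kernel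

theorem no_swap : ∀ i : SL, i * i = N → ∀ j : SL, j * j = N → i * j * (i * j) = N →
    ∀ u : SL, ¬ ((u * i * u⁻¹ = j ∨ u * i * u⁻¹ = j * N) ∧ (u * j * u⁻¹ = i ∨ u * j * u⁻¹ = i * N)) := by
  decide +kernel

theorem four_of_fix : ∀ i : SL, i * i = N → ∀ j : SL, j * j = N → i * j * (i * j) = N →
    ∀ u : SL, (u * i * u⁻¹ = i ∨ u * i * u⁻¹ = i * N) → (u * j * u⁻¹ = j ∨ u * j * u⁻¹ = j * N) →
      u ^ 4 = 1 := by
  decide +kernel

theorem eq_of_fix : ∀ i : SL, i * i = N → ∀ j : SL, j * j = N → i * j * (i * j) = N →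
    ∀ u : SL, u * i * u⁻¹ = i → u * j * u⁻¹ = j → u = 1 ∨ u = N := by decide +kernel

theorem exists_sign : ∀ i : SL, i * i = N → ∀ j : SL, j * j = N → i * j * (i * j) = N →
    ∀ a : SL, (a = i ∨ a = i * N) → ∀ b : SL, (b = j ∨ b = j * N) →
      ∃ q : SL, q ^ 4 = 1 ∧ q * a * q⁻¹ = i ∧ q * b * q⁻¹ = j := by decide +kernel

theorem inverted_rot : ∀ i : SL, i * i = N → ∀ j : SL, j * j = N → i * j * (i * j) = N →
    ∀ s : SL, s ^ 3 = 1 → s * i * s⁻¹ = j → s * j * s⁻¹ = i * j →
      ∀ u : SL, u ^ 3 = 1 → u * i * u⁻¹ = j * i → u * j * u⁻¹ = i → u = i * s⁻¹ := by decide +kernel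

/-- Vectors of length three over the field of two elements. -/
abbrev Bits := Bool × Bool × Bool

/-- The sum of two vectors. -/
def bxor (a b : Bits) : Bits := (a.1 ^^ b.1, a.2.1 ^^ b.2.1, a.2.2 ^^ b.2.2)

theorem bits_cases : ∀ a : Bits, a = (false, false, false) ∨ a.1 = true ∨ a.2.1 = true ∨ a.2.2 = true := by
  decide

theorem bxor_eq : ∀ u w : Bits, bxor u w = (false, false, false) → u = w := by decide

/-- Three independent vectors. -/
def Indep (v : Bits × Bits × Bits) : Prop :=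
  v.1 ≠ (false, false, false) ∧ v.2.1 ≠ (false, false, false) ∧ v.2.1 ≠ v.1 ∧
    v.2.2 ≠ (false, false, false) ∧ v.2.2 ≠ v.1 ∧ v.2.2 ≠ v.2.1 ∧ v.2.2 ≠ bxor v.1 v.2.1

instance : DecidablePred Indep := fun v => inferInstanceAs (Decidable (_ ∧ _))

theorem card_indep : Nat.card {v : Bits × Bits × Bits // Indep v} = 168 := by
  rw [Nat.card_eq_fintype_card]; decide +kernel

theorem indep_first : ∀ a : Bits, a ≠ (false, false, false) →
    ∃ v : Bits × Bits × Bits, Indep v ∧ v.1 = a := by decide +kernel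

theorem card_indep_first : ∀ a : Bits, a ≠ (false, false, false) →
    Fintype.card {v : {v : Bits × Bits × Bits // Indep v} // v.1.1 = a} = 24 := by decide +kernel

theorem card_SL32 : Nat.card (Matrix.SpecialLinearGroup (Fin 3) (ZMod 2)) = 168 := by
  rw [Nat.card_eq_fintype_card]; decide +kernel

theorem isSimple_SL32 : IsSimpleGroup (Matrix.SpecialLinearGroup (Fin 3) (ZMod 2)) := by
  haveI := CfsgLib.Linear.isSimpleGroup_PSL (F := ZMod 2) (ι := Fin 3) (by simp)
  have hc : Subgroup.center (Matrix.SpecialLinearGroup (Fin 3) (ZMod 2)) = ⊥ := by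
    refine (Subgroup.eq_bot_iff_forall _).2 fun A hA => ?_
    obtain ⟨r, hr, hAr⟩ := Matrix.SpecialLinearGroup.mem_center_iff.1 hA
    have h1 : ∀ r : ZMod 2, r ^ 3 = 1 → r = 1 := by decide
    refine Subtype.ext ?_
    rw [← hAr, h1 r (by simpa using hr), map_one]
    rfl
  exact ((QuotientGroup.quotientMulEquivOfEq hc).trans QuotientGroup.quotientBot).symm.isSimpleGroup

end CfsgLib.G2Rec
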