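import Cfsg.Agent.G2Rec.MTable

/-!
The element `s` is not in the second local subgroup, as it moves the elementary group of order
eight.
-/

set_option autoImplicit false

namespace CfsgLib.G2Rec

open CfsgLib.CosetEnum CfsgLib.MTwelveUnique
open CfsgLib.UFourType (Tab invW pathOf)

noncomputable section

/-- The elements of the normal subgroup of order eight, as words in the generators of the second
local subgroup. -/
def eWords : List (List ℕ) := [[], [0, 0], [0, 2], [0, 0, 0, 2], [4, 0, 2, 5],
  [0, 0, 4, 0, 2, 5], [0, 2, 4, 0, 2, 5], [0, 0, 0, 2, 4, 0, 2, 5]]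

theorem e_normal : (List.range 1344).all (fun i =>
    eWords.any (fun t => mSame (mWord i ++ e1W ++ invW (mWord i)) t)) = true := by decide +kernel

theorem e_moved : eWords.all (fun t => (mSubst t).all (fun x => Nat.blt x 10) &&
    !(sameB ([4] ++ e1W ++ [5]) (mSubst t))) = true := by decide +kernel

namespace Fr

variable {G : Type*} [Group G] (f : Fr G)

theorem s_not_mem : prodw f.γ [4] ∉ mGroup f.γ := by
  intro hs
  obtain ⟨i, hi, he⟩ := mem_mGroup f.sat hs
  obtain ⟨t, ht, h⟩ := List.any_eq_true.1 (List.all_eq_true.1 e_normal i (List.mem_range.2 hi))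
  have hl := (m_closed.word_spec hi).2
  have hm := sat_mVal f.sat
  have h1 : prodw f.γ ([4] ++ e1W ++ [5]) = prodw f.γ (mSubst t) := by
    rw [← prodw_eq_of_mSame f.sat h, ← prodw_mVal f.sat, prodw_append, prodw_append, prodw_append,
      prodw_append, prodw_invW_of_sat hm _ (fun x hx => by have := hl x hx; omega),
      show prodw (mVal f.γ) (mWord i) = prodw f.γ [4] from he, prodw_mVal f.sat,
      show mSubst e1W = e1W from rfl,
      show prodw f.γ [5] = (prodw f.γ [4])⁻¹ from prodw_invW_of_sat f.sat [4] (by decide)]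
  have h2 := List.all_eq_true.1 e_moved t ht
  simp only [Bool.and_eq_true, List.all_eq_true, Nat.blt_eq, Bool.not_eq_true'] at h2
  have hu : ∀ x ∈ [4] ++ e1W ++ [5], x < 10 := by decide
  have h3 : idx ([4] ++ e1W ++ [5]) = idx (mSubst t) :=
    el_inj f.satH f.z_ne (idx_lt hu) (idx_lt h2.1)
      (by rw [← prodw_eq_el f.satH hu, ← prodw_eq_el f.satH h2.1]; exact h1)
  have h4 : sameB ([4] ++ e1W ++ [5]) (mSubst t) = true := by
    simp only [sameB, Bool.and_eq_true, List.all_eq_true, Nat.blt_eq, Nat.beq_eq]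
    exact ⟨hu, h2.1, h3⟩
  rw [h2.2] at h4
  exact Bool.false_ne_true h4

theorem not_sat {R : List (List ℕ)} {C : Cert} {S : ℕ} (hok : C.ok R mSub = true)
    (hr : C.reads [4] 0 0 S = true) (h : Sat f.γ R) : False :=
  f.s_not_mem (mem_of_cert hok hr h fun w hw => Subgroup.subset_closure ⟨w, hw, rfl⟩)

end Fr

end

end CfsgLib.G2Rec
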