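import Cfsg.Agent.G2Rec.Split
import Cfsg.Agent.G2Rec.NotMem
import Cfsg.Agent.G2Rec.Data.Col0
import Cfsg.Agent.G2Rec.Data.Col1
import Cfsg.Agent.G2Rec.Data.Col2
import Cfsg.Agent.G2Rec.Data.Col3
import Cfsg.Agent.G2Rec.Data.Col4
import Cfsg.Agent.G2Rec.Data.Col5
import Cfsg.Agent.G2Rec.Data.Col6
import Cfsg.Agent.G2Rec.Data.ColC0
import Cfsg.Agent.G2Rec.Data.ColC1
import Cfsg.Agent.G2Rec.Data.ColC2
import Cfsg.Agent.G2Rec.Data.ColD1
import Cfsg.Agent.G2Rec.Data.ColD2
import Cfsg.Agent.G2Rec.Data.ColE1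
import Cfsg.Agent.G2Rec.Data.ColE2

/-!
Of the cases of the transported element four survive.
-/

set_option autoImplicit false

namespace CfsgLib.G2Rec

/-- The surviving systems of relators. -/
def tableRels : List (List (List ℕ)) :=
  [caseRels [2, 4, 7, 3], caseRels [2, 6, 3], splitRels [5] [4, 1, 5, 7] 0,
    splitRels [2, 4, 6, 3] [4, 6] 0]

namespace Fr

variable {G : Type*} [Group G] (f : Fr G)

theorem exists_tableRels [Finite G]
    (hq : ¬ Subgroup.centralizer ({f.γ 6} : Set G) ≤ hGroup f.γ) :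
    ∃ R ∈ tableRels, Sat f.γ R := by
  obtain ⟨o, ho, hc, hs⟩ := f.exists_transported hq
  have h1 : Sat f.γ (caseRels o) := f.sat.append fun w hw => by
    rw [List.mem_singleton.1 hw]
    exact hc
  have h2 : ∀ h : List ℕ, (∀ x ∈ h, x < 10) → sameB (h ++ [6]) ([6] ++ h) = true →
      ∃ e < 3, Sat f.γ (splitRels o h e) := fun h hl hh => by
    obtain ⟨e, he, hw⟩ := hs h hl hh
    exact ⟨e, he, h1.append fun w hw' => by rw [List.mem_singleton.1 hw']; exact hw⟩
  simp only [opts, List.mem_cons, List.not_mem_nil, or_false] at ho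
  rcases ho with rfl | rfl | rfl | rfl | rfl | rfl | rfl | rfl | rfl | rfl | rfl | rfl
  · exact (f.not_sat col0_ok col0_reads h1).elim
  · exact (f.not_sat col1_ok col1_reads h1).elim
  · exact (f.not_sat col2_ok col2_reads h1).elim
  · exact (f.not_sat col3_ok col3_reads h1).elim
  · exact (f.not_sat col4_ok col4_reads h1).elim
  · exact (f.not_sat col5_ok col5_reads h1).elim
  · exact (f.not_sat col6_ok col6_reads h1).elim
  · exact ⟨_, by simp [tableRels], h1⟩
  · exact ⟨_, by simp [tableRels], h1⟩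
  · obtain ⟨e, he, h⟩ := h2 [0, 4] (by decide) (by decide +kernel)
    interval_cases e
    exacts [(f.not_sat colC0_ok colC0_reads h).elim, (f.not_sat colC1_ok colC1_reads h).elim,
      (f.not_sat colC2_ok colC2_reads h).elim]
  · obtain ⟨e, he, h⟩ := h2 [4, 1, 5, 7] (by decide) (by decide +kernel)
    interval_cases e
    exacts [⟨_, by simp [tableRels], h⟩, (f.not_sat colD1_ok colD1_reads h).elim,
      (f.not_sat colD2_ok colD2_reads h).elim]
  · obtain ⟨e, he, h⟩ := h2 [4, 6] (by decide) (by decide +kernel)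
    interval_cases e
    exacts [⟨_, by simp [tableRels], h⟩, (f.not_sat colE1_ok colE1_reads h).elim,
      (f.not_sat colE2_ok colE2_reads h).elim]

end Fr

end CfsgLib.G2Rec
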