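import Cfsg.Agent.G2Rec.Words

/-!
Valuations of the letters for the recognition of `G₂(3)` and the configuration the recognition
reduces to.
-/

set_option autoImplicit false

namespace CfsgLib.G2Rec

open CfsgLib.CosetEnum CfsgLib.UFourType

variable {G : Type*} [Group G]

/-- The values of the letters for generators `i, a, s, q, x, g`. -/
def gens (i a s q x g : G) : ℕ → G
  | 0 => i
  | 1 => i⁻¹
  | 2 => a
  | 3 => a⁻¹
  | 4 => s
  | 5 => s⁻¹
  | 6 => q
  | 7 => q⁻¹
  | 8 => x
  | 9 => x⁻¹
  | 10 => g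
  | 11 => g⁻¹
  | _ => 1

/-- A valuation of the letters satisfying the relators. -/
structure Sat (γ : ℕ → G) (R : List (List ℕ)) : Prop where
  iv : ∀ v, v < 12 → γ (Nat.xor v 1) = (γ v)⁻¹
  eps : γ 12 = 1
  rel : ∀ w ∈ R, prodw γ w = 1

theorem Sat.mono {γ : ℕ → G} {R R' : List (List ℕ)} (h : Sat γ R) (hR : ∀ w ∈ R', w ∈ R) :
    Sat γ R' :=
  ⟨h.iv, h.eps, fun w hw => h.rel w (hR w hw)⟩

theorem Sat.append {γ : ℕ → G} {R R' : List (List ℕ)} (h : Sat γ R)
    (h' : ∀ w ∈ R', prodw γ w = 1) : Sat γ (R ++ R') :=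
  ⟨h.iv, h.eps, fun w hw => (List.mem_append.1 hw).elim (h.rel w) (h' w)⟩

theorem gens_iv (i a s q x g : G) :
    ∀ v, v < 12 → gens i a s q x g (Nat.xor v 1) = (gens i a s q x g v)⁻¹ := by
  intro v hv
  interval_cases v
  exacts [rfl, (inv_inv i).symm, rfl, (inv_inv a).symm, rfl, (inv_inv s).symm, rfl, (inv_inv q).symm,
    rfl, (inv_inv x).symm, rfl, (inv_inv g).symm]

theorem gens_sat {i a s q x g : G} {R : List (List ℕ)}
    (h : ∀ v ∈ R, prodw (gens i a s q x g) v = 1) : Sat (gens i a s q x g) R :=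
  ⟨gens_iv i a s q x g, rfl, h⟩

/-- The subgroup generated by the letters of the centralizer. -/
def hGroup (γ : ℕ → G) : Subgroup G := Subgroup.closure (γ '' {v | v < 10})

/-- The subgroup generated by all letters. -/
def fullGroup (γ : ℕ → G) : Subgroup G := Subgroup.closure (γ '' {v | v < 12})

/-- The generators of the second local subgroup. -/
def mGroup (γ : ℕ → G) : Subgroup G := Subgroup.closure {h | ∃ w ∈ mSub, h = prodw γ w}

/-- The relators of all the surviving cases at once. -/
def modelRels : List (List ℕ) :=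
  hRels ++ gRels ++ [qComm [2, 4, 7, 3], qComm [2, 6, 3], qComm [5], qComm [2, 4, 6, 3],
    splitW [5] [4, 1, 5, 7] 0, splitW [2, 4, 6, 3] [4, 6] 0]

/-- The configuration: generators satisfying the relators, the centralizer of `z = i²` being
generated by the letters `0 … 9`. -/
structure Fr (G : Type*) [Group G] where
  γ : ℕ → G
  sat : Sat γ (hRels ++ gRels)
  z_ne : prodw γ zW ≠ 1
  cent : Subgroup.centralizer ({prodw γ zW} : Set G) = hGroup γ

namespace Fr

variable (f : Fr G)

/-- The central involution. -/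
def z : G := prodw f.γ zW

theorem satH : Sat f.γ hRels := Sat.mono f.sat fun _ hw => List.mem_append_left _ hw

theorem satG : Sat f.γ gRels := Sat.mono f.sat fun _ hw => List.mem_append_right _ hw

end Fr

end CfsgLib.G2Rec
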