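import Mathlib.Tactic

/-!
The numerical end of the escape argument: the degree equation leaves three numbers of involutions.
-/

set_option autoImplicit false
set_option maxRecDepth 20000

namespace CfsgLib.G2Rec.Escape

/-- One case of the search. -/
def numOK (V e : ℤ) : Bool :=
  let C := V + 144 * e
  let p := C * (C + 1)
  let q := 2 * e * e
  e == 0 || (p % q != 0 || (C % 3 == 0 || ((C + 1) % 3 == 0 ||
    (decide (p / q ≤ 0) || (p / q % 2 == 0 || (p / q % 3 == 0 || (p / q % 7 != 0 ||
      (p / q == 8911 || (p / q == 9835 || p / q == 11935)))))))))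

theorem num_table : (List.range 34).all (fun i => (List.range 545).all fun j =>
    numOK ((i : ℤ) - 17) ((j : ℤ) - 272)) = true := by
  decide +kernel

theorem res_two : (List.range 128).all (fun r => !(r * r % 128 == 0) || r % 16 == 0) = true := by
  decide +kernel

theorem res_three : (List.range 81).all (fun r => !(r * r % 81 == 0) || r % 9 == 0) = true := by
  decide +kernel

theorem dvd_of_dvd_sq {D : ℕ} (h2 : 128 ∣ D * D) (h3 : 81 ∣ D * D) : 144 ∣ D := by
  have e2 := List.all_eq_true.1 res_two (D % 128) (List.mem_range.2 (Nat.mod_lt _ (by norm_num)))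
  have e3 := List.all_eq_true.1 res_three (D % 81) (List.mem_range.2 (Nat.mod_lt _ (by norm_num)))
  simp only [← Nat.mul_mod, Nat.mod_eq_zero_of_dvd h2, Nat.mod_eq_zero_of_dvd h3, beq_self_eq_true,
    Bool.not_true, Bool.false_or, beq_iff_eq] at e2 e3
  omega

theorem num_solve {N : ℕ} {C V : ℤ} (hN : Odd N) (hN3 : ¬ 3 ∣ N) (hN7 : 7 ∣ N) (hNpos : 0 < N)
    (heq : (N : ℤ) * (C - V) ^ 2 = 10368 * (C * (C + 1))) (hb : 1 + V ^ 2 + (1 + V) ^ 2 ≤ 576)
    (hC : ¬ (3 : ℤ) ∣ C) (hC' : ¬ (3 : ℤ) ∣ C + 1) : N = 8911 ∨ N = 9835 ∨ N = 11935 := by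
  have hV1 : -17 ≤ V := by nlinarith
  have hV2 : V ≤ 16 := by nlinarith
  have hdvd : (144 : ℤ) ∣ C - V := by
    rw [← Int.natAbs_dvd_natAbs]
    set D := (C - V).natAbs
    have h1 : 10368 ∣ N * (D * D) := by
      have := congrArg Int.natAbs heq
      rw [Int.natAbs_mul, Int.natAbs_pow, Int.natAbs_natCast, sq, Int.natAbs_mul] at this
      exact ⟨_, this⟩
    have h2 : 128 ∣ D * D := by
      refine Nat.Coprime.dvd_of_dvd_mul_left ?_ ((show 128 ∣ 10368 by norm_num).trans h1)
      rw [show (128 : ℕ) = 2 ^ 7 by norm_num]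
      exact Nat.Coprime.pow_left _ (Nat.coprime_two_left.2 hN)
    have h3 : 81 ∣ D * D := by
      refine Nat.Coprime.dvd_of_dvd_mul_left ?_ ((show 81 ∣ 10368 by norm_num).trans h1)
      rw [show (81 : ℕ) = 3 ^ 4 by norm_num]
      exact Nat.Coprime.pow_left _ ((Nat.prime_three.coprime_iff_not_dvd).2 hN3)
    exact dvd_of_dvd_sq h2 h3
  obtain ⟨e, he⟩ := hdvd
  have hCe : C = V + 144 * e := by linarith
  have h2 : C * (C + 1) = 2 * (N : ℤ) * (e * e) := by
    rw [he] at heq
    nlinarith
  have he0 : e ≠ 0 := by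
    rintro rfl
    rcases mul_eq_zero.1 (show C * (C + 1) = 0 by rw [h2]; ring) with h | h 
    · exact hC (by rw [h]; exact dvd_zero _)
    · exact hC' (by rw [h]; exact dvd_zero _)
  have hk : V * (V + 1) = e * (2 * N * e - 144 * (2 * V + 1) - 20736 * e) := by
    rw [hCe] at h2
    linear_combination h2
  have hVV : 0 ≤ V * (V + 1) ∧ V * (V + 1) ≤ 272 := by
    constructor
    · rcases le_or_gt 0 V with h | h <;> nlinarith
    · nlinarith
  have hle : e.natAbs ≤ 272 := by
    by_cases hz : V * (V + 1) = 0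
    · have h3 : e * (2 * N - 20736) = 144 * (2 * V + 1) := by
        apply mul_left_cancel₀ he0
        rw [hz] at hk
        linear_combination -hk
      have h4 : e.natAbs ∣ (144 * (2 * V + 1)).natAbs :=
        Int.natAbs_dvd_natAbs.2 ⟨_, h3.symm⟩
      have h5 : (144 * (2 * V + 1)).natAbs = 144 := by
        rcases mul_eq_zero.1 hz with rfl | h
        · rfl
        · obtain rfl : V = -1 := by linarith
          rfl
      have := Nat.le_of_dvd (by norm_num) (h5 ▸ h4)
      omega
    · have h4 : e.natAbs ∣ (V * (V + 1)).natAbs := Int.natAbs_dvd_natAbs.2 ⟨_, hk⟩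
      have := Nat.le_of_dvd (by omega) h4
      omega
  have hm := List.all_eq_true.1 (List.all_eq_true.1 num_table (V + 17).toNat
    (List.mem_range.2 (by omega))) (e + 272).toNat (List.mem_range.2 (by omega))
  rw [Int.toNat_of_nonneg (by omega), Int.toNat_of_nonneg (by omega), add_sub_cancel_right,
    add_sub_cancel_right] at hm
  have hq : 2 * e * e ≠ 0 := by simp [he0]
  have hp : C * (C + 1) / (2 * e * e) = (N : ℤ) := by
    rw [h2, show 2 * (N : ℤ) * (e * e) = N * (2 * e * e) by ring, Int.mul_ediv_cancel _ hq]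
  have hp' : C * (C + 1) % (2 * e * e) = 0 := by
    rw [h2, show 2 * (N : ℤ) * (e * e) = N * (2 * e * e) by ring, Int.mul_emod_left]
  simp only [numOK, ← hCe, hp, hp', Bool.or_eq_true, beq_iff_eq, bne_iff_ne, decide_eq_true_eq,
    ne_eq, not_true_eq_false, false_or] at hm
  obtain ⟨j, hj⟩ := hN
  omega

/-- No Sylow subgroup of the critical prime fits. -/
def sylOK (N r : ℕ) : Bool :=
  ((List.range (N / r + 1)).filter fun c => N / r % c == 0).all fun c =>
    ((List.range r).filter fun j => (r - 1) % j == 0).all fun j =>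
      !(576 * N % (r * c * j) == 0) || !(576 * N / (r * c * j) % r == 1)

theorem syl_table : (sylOK 8911 67 && (sylOK 9835 281 && sylOK 11935 11)) = true := by
  decide +kernel

theorem syl_false {N r c j n : ℕ} (h : sylOK N r = true) (hr : 1 < r) (hrN : r ∣ N) (hN : 0 < N)
    (hc : c ∣ N / r) (hj : j ∣ r - 1) (he : n * (r * c * j) = 576 * N) (hn : n % r = 1) : False := by
  have hpos : 0 < N / r := Nat.div_pos (Nat.le_of_dvd hN hrN) (by omega)
  have hc' := Nat.le_of_dvd hpos hc
  have hj' := Nat.le_of_dvd (by omega) hj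
  simp only [sylOK, List.all_eq_true, List.mem_filter, List.mem_range, beq_iff_eq,
    Bool.or_eq_true, Bool.not_eq_true', beq_eq_false_iff_ne] at h
  have hp : 0 < r * c * j := Nat.pos_of_ne_zero fun e => by rw [e, mul_zero] at he; omega
  rcases h c ⟨by omega, Nat.mod_eq_zero_of_dvd hc⟩ j ⟨by omega, Nat.mod_eq_zero_of_dvd hj⟩ with
    e | e
  · exact e (by rw [← he]; exact Nat.mul_mod_left _ _)
  · exact e (by rw [← he, Nat.mul_div_cancel _ hp]; exact hn)

end CfsgLib.G2Rec.Escape
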