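import Cfsg.Agent.G2Rec.EscapeChar
import Cfsg.Agent.G2Rec.EscapeNum
import Cfsg.Agent.Small.SimpleTools

/-!
Some centralizer of an element of order three of `H` leaves `H`.
-/

set_option autoImplicit false
set_option linter.style.haveILetI false
set_option linter.unusedSectionVars false

namespace CfsgLib.G2Rec

open Escape
open CfsgLib.NineTwoQ (Ctx)

namespace Escape

variable {G : Type*} [Group G] {f : Fr G}

theorem not_mem_H {r : ℕ} (hr576 : ¬ r ∣ 576) {x : G} (hx : orderOf x = r) :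
    x ∉ hGroup f.γ := fun hm => hr576 (by
  haveI := finite_hGroup f.satH
  have := orderOf_dvd_natCard (⟨x, hm⟩ : hGroup f.γ)
  rwa [card_hGroup f.satH f.z_ne, ← Subgroup.orderOf_coe, hx] at this)

variable [Finite G]

/-- An element of large prime order is centralized by no element of order two or three. -/
theorem coprime_six (h : Hyp f) {r : ℕ} (hr : r.Prime) (hrN : r ∣ cN f)
    (hr2 : ¬ r ^ 2 ∣ Nat.card G) (hr576 : ¬ r ∣ 576) {x : G} (hx : orderOf x = r) :
    Nat.Coprime (Nat.card (Subgroup.centralizer ({x} : Set G))) 576 := by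
  haveI : Fact r.Prime := ⟨hr⟩
  have hconj : ∀ {a v : G}, v * x = x * v → a * v * a⁻¹ * (a * x * a⁻¹) =
      a * x * a⁻¹ * (a * v * a⁻¹) := fun {a v} e =>
    ((show Commute v x from e).map (MulAut.conj a).toMonoidHom).eq
  have two : ¬ 2 ∣ Nat.card (Subgroup.centralizer ({x} : Set G)) := by
    intro h2
    haveI : Fact (Nat.Prime 2) := ⟨Nat.prime_two⟩
    obtain ⟨⟨v, hv⟩, ho⟩ := exists_prime_orderOf_dvd_card' 2 h2
    rw [Subgroup.orderOf_mk] at ho
    have hv1 : v ≠ 1 := fun e => by rw [e, orderOf_one] at ho; omega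
    obtain ⟨a, ha⟩ := isConj_iff.1 (isConj_z f hv1 (by rw [← sq, ← ho, pow_orderOf_eq_one]))
    have hc := hconj (a := a⁻¹) (Subgroup.mem_centralizer_singleton_iff.1 hv)
    rw [show a⁻¹ * v * a⁻¹⁻¹ = E f 2 by rw [← ha]; group] at hc
    exact not_mem_H (f := f) hr576 (by rw [orderOf_conj, hx]) ((mem_H_iff f).2 hc.symm)
  have three : ¬ 3 ∣ Nat.card (Subgroup.centralizer ({x} : Set G)) := by
    intro h3
    haveI : Fact (Nat.Prime 3) := ⟨Nat.prime_three⟩
    obtain ⟨⟨y, hy⟩, ho⟩ := exists_prime_orderOf_dvd_card' 3 h3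
    rw [Subgroup.orderOf_mk] at ho
    have hy9 : y ^ 9 = 1 := by
      rw [show 9 = 3 * 3 from rfl, pow_mul, ← ho, pow_orderOf_eq_one, one_pow]
    obtain ⟨k, hk, hyk⟩ := (ctx h).exists_mem_isConj hy9
    obtain ⟨a, rfl⟩ := isConj_iff.1 hyk
    obtain ⟨d, hd, hdk⟩ := (mem_R f).1 hk
    have hc := hconj (a := a) (Subgroup.mem_centralizer_singleton_iff.1 hy)
    rw [← hdk] at hc
    set x' := a * x * a⁻¹
    have hx' : orderOf x' = r := by rw [orderOf_conj, hx]
    rcases rS_cases hd with rfl | hd' | hd'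
    · rw [E_zero, eq_comm, conj_eq_one_iff] at hdk
      rw [hdk, orderOf_one] at ho
      omega
    · exact not_mem_H (f := f) hr576 hx' (h.cent_sT hd' hc.symm)
    obtain ⟨l⟩ := exists_loc h hd'
    obtain ⟨-, hdR, -⟩ := tT_data (f := f) hd'
    have hodd : Odd r := hr.odd_of_ne_two fun e => hr576 (by rw [e]; norm_num)
    have hO : x' ∈ l.O := (l.mem_O _).2 ⟨(l.mem_K _).2 ⟨hc.symm,
      orderOf_dvd_iff_pow_eq_one.1 (hx' ▸ (hrN.mul_left 64).trans (ctx h).κ_zero)⟩, hx' ▸ hodd⟩
    obtain ⟨hn2, -, hninv⟩ := xW_spec (f := f)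
    have uniq : ∀ b : G, (b * E f d * b⁻¹ = E f d ∨ b * E f d * b⁻¹ = (E f d)⁻¹) →
        ∃ i : ℤ, b * x' * b⁻¹ = x' ^ i := by
      intro b hb
      have hmem := (l.conj_mem hb).2 x' hO
      have hcm : Commute x' (b * x' * b⁻¹) :=
        congrArg Subtype.val ((l.z_inverts hd').2 ⟨x', hO⟩ ⟨_, hmem⟩)
      have hQ : ∀ y : G, orderOf y = r → IsPGroup r (Subgroup.zpowers y) := fun y hy =>
        IsPGroup.of_card (n := 1) (by rw [Nat.card_zpowers, hy, pow_one])
      have hp := (hQ (b * x' * b⁻¹) (by rw [orderOf_conj, hx'])).to_sup_of_normal_right'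
        (hQ x' hx') (Subgroup.zpowers_le.2 (Subgroup.mem_normalizer_iff.2 fun y => by
          constructor
          · intro hy
            obtain ⟨i, rfl⟩ := Subgroup.mem_zpowers_iff.1 hy
            rw [(hcm.symm.zpow_right i).eq, mul_inv_cancel_right]
            exact Subgroup.zpow_mem_zpowers _ _
          · intro hy
            obtain ⟨i, hi⟩ := Subgroup.mem_zpowers_iff.1 hy
            have : y = x' ^ i := by
              calc y = (b * x' * b⁻¹)⁻¹ * (b * x' * b⁻¹ * y * (b * x' * b⁻¹)⁻¹) *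
                    (b * x' * b⁻¹) := by group
                _ = _ := by rw [← hi, mul_assoc, (hcm.zpow_left i).eq, inv_mul_cancel_left]
            rw [this]
            exact Subgroup.zpow_mem_zpowers _ _))
      obtain ⟨m, hm⟩ := IsPGroup.iff_card.1 hp
      have hm1 : m ≤ 1 := by
        by_contra hgt
        exact hr2 ((pow_dvd_pow r (show 2 ≤ m by omega)).trans
          (hm ▸ Subgroup.card_subgroup_dvd_card _))
      have heq := Subgroup.eq_of_le_of_card_ge
        (le_sup_right : Subgroup.zpowers x' ≤ Subgroup.zpowers (b * x' * b⁻¹) ⊔ Subgroup.zpowers x')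
        (by rw [hm, Nat.card_zpowers, hx']
            calc r ^ m ≤ r ^ 1 := Nat.pow_le_pow_right hr.pos hm1
              _ = r := pow_one r)
      obtain ⟨i, hi⟩ := Subgroup.mem_zpowers_iff.1
        (show b * x' * b⁻¹ ∈ Subgroup.zpowers x' by
          rw [heq]; exact Subgroup.mem_sup_left (Subgroup.mem_zpowers _))
      exact ⟨i, hi.symm⟩
    set s := E f 4
    set n := E f 536
    have hs := E_mem_R f (show 4 ∈ rS by decide)
    obtain ⟨i, hi⟩ := uniq s (Or.inl (mul_inv_eq_iff_eq_mul.2 ((ctx h).comm hs hdR)))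
    obtain ⟨j, hj⟩ := uniq n (Or.inr (hninv _ hdR))
    set y := n * x' * n⁻¹
    have hsy : s * y * s⁻¹ = s⁻¹ * y * s := by
      calc s * y * s⁻¹ = (s * x' * s⁻¹) ^ j := by rw [hj, conj_zpow (a := s)]
        _ = (n * x' * n⁻¹) ^ i := by
          rw [hi, show n * x' * n⁻¹ = x' ^ j from hj, ← zpow_mul, ← zpow_mul, mul_comm]
        _ = n * (s * x' * s⁻¹) * n⁻¹ := by rw [hi, conj_zpow]
        _ = (n * s * n⁻¹) * y * (n * s * n⁻¹)⁻¹ := by
          show n * (s * x' * s⁻¹) * n⁻¹ = n * s * n⁻¹ * (n * x' * n⁻¹) * (n * s * n⁻¹)⁻¹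
          group
        _ = _ := by rw [hninv s hs, inv_inv]
    have hy2 : Commute (s ^ 2) y := by
      show s ^ 2 * y = y * s ^ 2
      calc s ^ 2 * y = s * (s * y * s⁻¹) * s := by rw [sq]; group
        _ = _ := by rw [hsy, sq]; group
    have hys := hy2.pow_left 2
    rw [← pow_mul, show 2 * 2 = 3 + 1 from rfl, pow_succ, cube_R f hs, one_mul] at hys
    exact not_mem_H (f := f) hr576 (by rw [orderOf_conj, hx'] : orderOf y = r)
      (h.cent_sT (show 4 ∈ sT by decide) hys.eq.symm)
  rw [show (576 : ℕ) = 2 ^ 6 * 3 ^ 2 by norm_num]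
  exact Nat.Coprime.mul_right (Nat.Coprime.pow_right _ (Nat.prime_two.coprime_iff_not_dvd.2 two).symm)
    (Nat.Coprime.pow_right _ (Nat.prime_three.coprime_iff_not_dvd.2 three).symm)

theorem false_of_prime (h : Hyp f) {r : ℕ} (hr : r.Prime) (hrN : r ∣ cN f)
    (hr2 : ¬ r ^ 2 ∣ cN f) (hr576 : ¬ r ∣ 576) (hok : sylOK (cN f) r = true) : False := by
  haveI : Fact r.Prime := ⟨hr⟩
  have hcop : Nat.Coprime r 576 := hr.coprime_iff_not_dvd.2 hr576
  have hN := cN_mul f
  have hr2' : ¬ r ^ 2 ∣ Nat.card G := fun hd =>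
    hr2 ((hcop.pow_left 2).dvd_of_dvd_mul_right (hN ▸ hd))
  have hrG : r ∣ Nat.card G := hN ▸ hrN.mul_right 576
  obtain ⟨x, hx⟩ := exists_prime_orderOf_dvd_card' r hrG
  set P := Subgroup.zpowers x
  have hP : Nat.card P = r := by rw [Nat.card_zpowers, hx]
  let S : Sylow r G := Sylow.ofCard P (by
    have h1 : (Nat.card G).factorization r = 1 := by
      refine le_antisymm (not_lt.1 fun hlt => hr2' ((pow_dvd_pow r hlt).trans
        (Nat.ordProj_dvd _ r))) (hr.factorization_pos_of_dvd Nat.card_pos.ne' hrG)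
    rw [hP, h1, pow_one])
  have hn := card_sylow_modEq_one (p := r) (G := G)
  rw [Sylow.card_eq_index_normalizer S] at hn
  set n := (Subgroup.normalizer (P : Set G)).index
  have hn1 : n % r = 1 := Eq.trans (show n % r = 1 % r from hn) (Nat.mod_eq_of_lt hr.one_lt)
  have hCC : Subgroup.centralizer (P : Set G) = Subgroup.centralizer ({x} : Set G) := by
    refine le_antisymm (Subgroup.centralizer_le (by simp [P])) fun y hy => ?_
    refine Subgroup.mem_centralizer_iff.2 fun p hp => ?_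
    obtain ⟨i, rfl⟩ := Subgroup.mem_zpowers_iff.1 hp
    exact ((show Commute y x from Subgroup.mem_centralizer_singleton_iff.1 hy).zpow_right i).eq.symm
  set C := Subgroup.centralizer (P : Set G)
  set j := C.relIndex (Subgroup.normalizer (P : Set G))
  have hj : j ∣ r - 1 := Small.relIndex_centralizer_dvd_pred hP
  have hle : C ≤ Subgroup.normalizer (P : Set G) := by
    intro y hy
    refine Subgroup.mem_normalizer_iff.2 fun p => ⟨fun hp => ?_, fun hp => ?_⟩
    · rwa [← Subgroup.mem_centralizer_iff.1 hy p hp, mul_inv_cancel_right]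
    · have h1 := Subgroup.mem_centralizer_iff.1 hy _ hp
      have : p = y * p * y⁻¹ := by
        calc p = y⁻¹ * ((y * p * y⁻¹) * y) := by group
          _ = _ := by rw [h1, inv_mul_cancel_left]
      rw [this]; exact hp
  have hidx : j * n = C.index := Subgroup.relIndex_mul_index hle
  have hcard : Nat.card C * (j * n) = 576 * cN f := by
    rw [hidx, Subgroup.card_mul_index, ← hN, mul_comm]
  have hco : Nat.Coprime (Nat.card C) 576 := by
    rw [hCC]
    exact coprime_six h hr hrN hr2' hr576 hx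
  have hxC : x ∈ C := by
    rw [hCC]
    exact Subgroup.mem_centralizer_singleton_iff.2 rfl
  obtain ⟨c, hc⟩ : r ∣ Nat.card C := by
    have := Subgroup.card_dvd_of_le (Subgroup.zpowers_le.2 hxC)
    rwa [Nat.card_zpowers, hx] at this
  have hcN : Nat.card C ∣ cN f := hco.dvd_of_dvd_mul_left ⟨_, hcard.symm⟩
  rw [hc] at hcN hcard
  refine syl_false hok hr.one_lt hrN (cN_pos f) ?_ hj (c := c) (n := n) ?_ hn1
  · exact (Nat.dvd_div_iff_mul_dvd hrN).2 hcN
  · rw [← hcard]; ring

end Escape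

/-- The centralizers of `s` and `q` are not both in `H`. -/
theorem Fr.exists_not_le {G : Type*} [Group G] [Finite G] (f : Fr G) :
    ¬ Subgroup.centralizer ({f.γ 4} : Set G) ≤ hGroup f.γ ∨
      ¬ Subgroup.centralizer ({f.γ 6} : Set G) ≤ hGroup f.γ := by
  by_contra hn
  push Not at hn
  haveI := Fintype.ofFinite G
  have h : Escape.Hyp f := ⟨hn.1, hn.2⟩
  obtain ⟨C, V, h1, h2, h3, h4⟩ := exists_solution h
  have ht := syl_table
  simp only [Bool.and_eq_true] at ht
  rcases num_solve (odd_cN f) h.not_three_dvd_cN (seven_dvd_cN f) (cN_pos f) h1 h2 h3 h4 with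
    e | e | e
  · exact false_of_prime h (r := 67) (by norm_num) (by rw [e]; norm_num) (by rw [e]; norm_num)
      (by norm_num) (e ▸ ht.1)
  · exact false_of_prime h (r := 281) (by norm_num) (by rw [e]; norm_num) (by rw [e]; norm_num)
      (by norm_num) (e ▸ ht.2.1)
  · exact false_of_prime h (r := 11) (by norm_num) (by rw [e]; norm_num) (by rw [e]; norm_num)
      (by norm_num) (e ▸ ht.2.2)

end CfsgLib.G2Rec
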