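import Cfsg.Agent.G2Rec.EscapeLocal
import Cfsg.Agent.NineTwoQ.CaseInverted
import Cfsg.Agent.NineTwoQ.Values
import Cfsg.Agent.NineTwoQ.Degrees
import Cfsg.Agent.DegreeBound.Basic
import Cfsg.Agent.SylowThreeNine.Dihedral.Main

/-!
The degree equation from the pairs of involutions.
-/

set_option autoImplicit false
set_option linter.style.haveILetI false
set_option linter.unusedSectionVars false

namespace CfsgLib.G2Rec.Escape

open CfsgLib.NineTwoQ
open CfsgLib.PrincipalBlock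
open scoped ComplexConjugate

variable {G : Type*} [Group G] {f : Fr G}

theorem pairsCard_conj [Finite G] (h : Hyp f) (a k : G) :
    pairsCard h (a * k * a⁻¹) = pairsCard h k := by
  symm
  let e : G ≃ G := (MulAut.conj a).toEquiv
  refine Nat.card_congr ((e.prodCongr e).subtypeEquiv fun p => ?_)
  have h1 : ∀ x : G, (x ≠ 1 ∧ x * x = 1) ↔ (a * x * a⁻¹ ≠ 1 ∧ a * x * a⁻¹ * (a * x * a⁻¹) = 1) :=
    fun x => by
      rw [show a * x * a⁻¹ * (a * x * a⁻¹) = a * (x * x) * a⁻¹ by group, conj_eq_one_iff,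
        ne_eq, ne_eq, conj_eq_one_iff]
  show _ ↔ (a * p.1 * a⁻¹ ≠ 1 ∧ _) ∧ (a * p.2 * a⁻¹ ≠ 1 ∧ _) ∧
    (a * p.1 * a⁻¹ * (a * p.2 * a⁻¹)) ^ _ = _
  rw [show a * p.1 * a⁻¹ * (a * p.2 * a⁻¹) = a * (p.1 * p.2) * a⁻¹ by group, conj_pow,
    mul_left_inj, mul_right_inj]
  exact and_congr (h1 p.1) (and_congr (h1 p.2) Iff.rfl)

variable [Fintype G]

theorem sum_sec_pairs (h : Hyp f) {k : G} (hk : k ∈ R f) (hk1 : k ≠ 1) :
    ∑ g ∈ (ctx h).sec k, pairCount (E f 2) g = 2 * Nat.card G := by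
  classical
  set c := ctx h
  have hA : ∀ k' : {x : G // IsConj k x}, pairsCard h (k' : G) = pairsCard h k := fun k' => by
    obtain ⟨a, ha⟩ := isConj_iff.1 k'.2
    rw [← ha, pairsCard_conj]
  have h1 : ∑ g ∈ c.sec k, pairCount (E f 2) g =
      Nat.card (Σ k' : {x : G // IsConj k x}, {p : G × G // (p.1 ≠ 1 ∧ p.1 * p.1 = 1) ∧
        (p.2 ≠ 1 ∧ p.2 * p.2 = 1) ∧ (p.1 * p.2) ^ c.κ = (k' : G)}) := by
    rw [← Finset.sum_coe_sort]
    unfold pairCount
    rw [← Nat.card_sigma]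
    refine Nat.card_eq_of_bijective (fun q => ⟨⟨(q.1 : G) ^ c.κ, (c.mem_sec.1 q.1.2).symm⟩,
      ⟨(q.2.1, q.2.1⁻¹ * q.1), (isConj_z_iff f).1 q.2.2.1, (isConj_z_iff f).1 q.2.2.2,
        by simp⟩⟩) ⟨?_, ?_⟩
    · rintro ⟨⟨g, hg⟩, ⟨w, hw⟩⟩ ⟨⟨g', hg'⟩, ⟨w', hw'⟩⟩ e
      have e2 := congrArg (fun x => (x.2 : G × G)) e
      simp only [Prod.mk.injEq] at e2
      obtain ⟨rfl, e2⟩ := e2
      obtain rfl := mul_left_cancel e2
      rfl
    · rintro ⟨⟨x, hx⟩, ⟨⟨v, w⟩, hv, hw, he⟩⟩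
      simp only at he
      subst he
      refine ⟨⟨⟨v * w, c.mem_sec.2 hx.symm⟩, ⟨v, (isConj_z_iff f).2 hv,
        (isConj_z_iff f).2 ?_⟩⟩, ?_⟩
      · simpa using hw
      · simp only [inv_mul_cancel_left]
  have hA' : ∀ k' : {x : G // IsConj k x}, Nat.card {p : G × G //
      (p.1 ≠ 1 ∧ p.1 * p.1 = 1) ∧ (p.2 ≠ 1 ∧ p.2 * p.2 = 1) ∧ (p.1 * p.2) ^ c.κ = (k' : G)} =
        pairsCard h k := hA
  rw [h1, Nat.card_sigma, Finset.sum_congr rfl fun k' _ => hA' k', Finset.sum_const,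
    Finset.card_univ, ← Nat.card_eq_fintype_card, smul_eq_mul, pairsCard_eq h hk hk1,
    ← mul_assoc, mul_comm _ 2, mul_assoc, Small.card_conjugates_mul_card_centralizer]

open Classical in
/-- The weighted sum of the class products. -/
theorem sum_lift_pairs (h : Hyp f) (L : Subgroup G)
    (hinv : ∀ n ∈ Subgroup.normalizer (((ctx h).R : Subgroup G) : Set G),
      ∀ a ∈ ((ctx h).R : Subgroup G), n * a * n⁻¹ ∈ L ↔ a ∈ L)
    (h1 : ∑ g : G, (ctx h).lift (Ctx.off L 3) g = Nat.card G) :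
    ∑ g : G, (ctx h).lift (Ctx.off L 3) g * (pairCount (E f 2) g : ℂ) =
      18 * (Nat.card G : ℂ) := by
  set c := ctx h
  have I := h.inverted
  set RS := Finset.univ.filter fun a : G => a ∈ (c.R : Subgroup G)
  have key : ∀ g : G, 2 * c.lift (Ctx.off L 3) g =
      ∑ k ∈ RS, if g ∈ c.sec k then Ctx.off L 3 k else 0 := by
    intro g
    obtain ⟨r, hr, hc⟩ := c.exists_conj_pow_κ g
    rw [Ctx.lift_eq (Ctx.invariant_off 3 hinv) hr hc, ← Finset.sum_filter]
    have hmem : ∀ k, k ∈ RS.filter (fun k => g ∈ c.sec k) ↔ k = r ∨ k = r⁻¹ := by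
      intro k
      simp only [RS, Finset.mem_filter, Finset.mem_univ, true_and, c.mem_sec]
      constructor
      · rintro ⟨hk, h⟩
        exact (I.conj_mem_iff hr hk).1 (hc.symm.trans h)
      · rintro (rfl | rfl)
        · exact ⟨hr, hc⟩
        · exact ⟨inv_mem hr, hc.trans (I.inv r hr)⟩
    by_cases hr1 : r = 1
    · subst hr1
      rw [show RS.filter (fun k => g ∈ c.sec k) = {1} by ext k; simp [hmem], Finset.sum_singleton]
      simp [Ctx.off, one_mem L]
    · rw [show RS.filter (fun k => g ∈ c.sec k) = {r, r⁻¹} by ext k; simp [hmem],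
        Finset.sum_pair (I.ne_inv hr hr1)]
      simp only [Ctx.off, inv_mem_iff]
      ring
  have two : ∀ w : G → ℂ, 2 * ∑ g : G, c.lift (Ctx.off L 3) g * w g =
      ∑ k ∈ RS, Ctx.off L 3 k * ∑ g ∈ c.sec k, w g := fun w => by
    calc 2 * ∑ g : G, c.lift (Ctx.off L 3) g * w g
        = ∑ g : G, ∑ k ∈ RS, (if g ∈ c.sec k then Ctx.off L 3 k * w g else 0) := by
          rw [Finset.mul_sum]
          refine Finset.sum_congr rfl fun g _ => ?_
          rw [← mul_assoc, key g, Finset.sum_mul]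
          exact Finset.sum_congr rfl fun k _ => by rw [ite_mul, zero_mul]
      _ = _ := by
          rw [Finset.sum_comm]
          refine Finset.sum_congr rfl fun k _ => ?_
          rw [Finset.sum_ite_mem, Finset.univ_inter, Finset.mul_sum]
  have hoff : ∑ k ∈ RS, Ctx.off L 3 k = 18 := by
    have h2 := two fun _ => 1
    simp only [mul_one, h1, Finset.sum_const, nsmul_eq_mul] at h2
    have h3 : ∀ k ∈ RS, Ctx.off L 3 k * ((c.sec k).card : ℂ) =
        Ctx.off L 3 k * ((Nat.card G : ℂ) / 9) := by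
      intro k hk
      simp only [RS, Finset.mem_filter, Finset.mem_univ, true_and] at hk
      by_cases hk1 : k = 1
      · simp [hk1, Ctx.off, one_mem L]
      · rw [← I.nine_mul_card_sec hk hk1]
        push_cast
        ring
    rw [Finset.sum_congr rfl h3, ← Finset.sum_mul] at h2
    have hG : (Nat.card G : ℂ) ≠ 0 := Characters.natCard_ne_zero
    field_simp at h2
    linear_combination -h2
  have h2 := two fun g => (pairCount (E f 2) g : ℂ)
  have h3 : ∀ k ∈ RS, Ctx.off L 3 k * ∑ g ∈ c.sec k, (pairCount (E f 2) g : ℂ) =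
      Ctx.off L 3 k * (2 * (Nat.card G : ℂ)) := by
    intro k hk
    simp only [RS, Finset.mem_filter, Finset.mem_univ, true_and] at hk
    by_cases hk1 : k = 1
    · simp [hk1, Ctx.off, one_mem L]
    · rw [← Nat.cast_sum, sum_sec_pairs h hk hk1]
      push_cast
      rfl
  rw [Finset.sum_congr rfl h3, ← Finset.sum_mul, hoff] at h2
  linear_combination h2 / 2

/-- The degree equation. -/
theorem exists_solution (h : Hyp f) : ∃ C V : ℤ,
    (cN f : ℤ) * (C - V) ^ 2 = 10368 * (C * (C + 1)) ∧ 1 + V ^ 2 + (1 + V) ^ 2 ≤ 576 ∧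
      ¬ (3 : ℤ) ∣ C ∧ ¬ (3 : ℤ) ∣ C + 1 := by
  classical
  set c := ctx h
  obtain ⟨w⟩ := h.inverted.exists_good
  set θ := c.lift (Ctx.off w.L 3)
  set z := E f 2
  have hinv := Ctx.invariant_off (c := c) 3 w.inv
  have hθ : θ 1 = 0 ∧ θ z = 0 := by
    constructor
    · show c.lift (Ctx.off w.L 3) 1 = 0
      rw [Ctx.lift_of_pow_κ_eq_one hinv (one_pow _), Ctx.off_one]
    · show c.lift (Ctx.off w.L 3) (E f 2) = 0
      rw [Ctx.lift_of_pow_κ_eq_one hinv (z_pow_κ h), Ctx.off_one]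
  set F := Cfsg.charDegree (w.t.f : G → ℂ)
  set X := Cfsg.charDegree (w.t.x : G → ℂ)
  have hF : (w.t.f : G → ℂ) 1 = F := (Blocks.charDegree_cast w.t.f).symm
  have hX : (w.t.x : G → ℂ) 1 = X := (Blocks.charDegree_cast w.t.x).symm
  obtain ⟨a, ha⟩ := SylowThreeNine.Dihedral.exists_int_involution w.t.f (z_mul_self f)
  obtain ⟨b, hb⟩ := SylowThreeNine.Dihedral.exists_int_involution w.t.x (z_mul_self f)
  have hC : 1 + w.t.ε * (F : ℤ) + w.t.ε' * (X : ℤ) = 0 := by
    have h1 := w.t.apply_eq 1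
    rw [show c.lift (Ctx.off w.L 3) 1 = 0 from hθ.1, hF, hX] at h1
    exact_mod_cast h1.symm
  have hV : 1 + w.t.ε * a + w.t.ε' * b = 0 := by
    have h1 := w.t.apply_eq z
    rw [show c.lift (Ctx.off w.L 3) z = 0 from hθ.2, ha, hb] at h1
    exact_mod_cast h1.symm
  have hsq : ∀ e : ℤ, (e = 1 ∨ e = -1) → e * e = 1 := by rintro e (rfl | rfl) <;> rfl
  have hε := hsq _ w.t.hε
  have hε' := hsq _ w.t.hε'
  have hcard : Nat.card (Subgroup.centralizer ({z} : Set G)) = 576 := by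
    rw [show Subgroup.centralizer ({z} : Set G) = hGroup f.γ by
      show Subgroup.centralizer ({E f 2} : Set G) = _
      rw [E_two]; exact f.cent, card_hGroup f.satH f.z_ne]
  have hF0 : F ≠ 0 := Blocks.charDegree_ne_zero _
  have hX0 : X ≠ 0 := Blocks.charDegree_ne_zero _
  have h1G : ∑ g : G, θ g = (Nat.card G : ℂ) := by
    have h1 := w.t.inner_triv
    simp only [Cfsg.classInner, trivChar_apply, map_one, mul_one,
      inv_mul_eq_one₀ (Characters.natCard_ne_zero (G := G))] at h1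
    exact h1.symm
  have hsum := sum_mul_pairCount z θ
  rw [hcard, sum_lift_pairs h w.L w.inv h1G] at hsum
  have hin : ∀ χ : Cfsg.IrrCharacter G, (∑ g : G, θ g * conj ((χ : G → ℂ) g)) =
      (Nat.card G : ℂ) * Cfsg.classInner θ (χ : G → ℂ) := fun χ => by
    simp only [Cfsg.classInner]
    rw [mul_inv_cancel_left₀ Characters.natCard_ne_zero]
  rw [← Finset.sum_subset (Finset.subset_univ ({trivChar G, w.t.f, w.t.x} : Finset _))
    fun χ _ hχ => ?_] at hsum
  swap
  · simp only [Finset.mem_insert, Finset.mem_singleton, not_or] at hχ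
    rw [hin, w.t.inner_rest χ hχ.1 hχ.2.1 hχ.2.2, mul_zero, zero_mul]
  rw [Finset.sum_insert (by simp [Ne.symm w.t.f_ne, Ne.symm w.t.x_ne]), Finset.sum_pair w.t.ne,
    hin, hin, hin, w.t.inner_triv, w.t.inner_f, w.t.inner_x, trivChar_apply, trivChar_apply,
    ha, hb, hF, hX, show Nat.card G = cN f * 576 from (cN_mul f).symm] at hsum
  have hN : (cN f : ℂ) ≠ 0 := Nat.cast_ne_zero.2 (cN_pos f).ne'
  have hF' : (F : ℂ) ≠ 0 := Nat.cast_ne_zero.2 hF0
  have hX' : (X : ℂ) ≠ 0 := Nat.cast_ne_zero.2 hX0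
  push_cast at hsum
  field_simp at hsum
  have hZ : (10368 : ℤ) * F * X =
      cN f * (F * X + w.t.ε * a ^ 2 * X + w.t.ε' * b ^ 2 * F) := by
    have : ((10368 * F * X : ℤ) : ℂ) =
        ((cN f * (F * X + w.t.ε * a ^ 2 * X + w.t.ε' * b ^ 2 * F) : ℤ) : ℂ) := by
      push_cast
      linear_combination hsum
    exact_mod_cast this
  refine ⟨w.t.ε * F, w.t.ε * a, ?_, ?_, ?_, ?_⟩
  · have eX : (X : ℤ) = w.t.ε' * (-1 - w.t.ε * F) := by
      linear_combination w.t.ε' * hC - (X : ℤ) * hε'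
    have eb : b = w.t.ε' * (-1 - w.t.ε * a) := by
      linear_combination w.t.ε' * hV - b * hε'
    rw [eX, eb] at hZ
    rcases w.t.hε with e | e <;> rcases w.t.hε' with e' | e' <;> rw [e, e'] at hZ <;> rw [e] <;>
      first | linear_combination hZ | linear_combination -hZ
  · have h1 := Finset.sum_le_sum_of_subset_of_nonneg
      (f := fun χ : Cfsg.IrrCharacter G => Complex.normSq ((χ : G → ℂ) z))
      (Finset.subset_univ ({trivChar G, w.t.f, w.t.x} : Finset _))
      fun χ _ _ => Complex.normSq_nonneg _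
    rw [DegreeBound.sum_normSq_eq_card_centralizer, hcard,
      Finset.sum_insert (by simp [Ne.symm w.t.f_ne, Ne.symm w.t.x_ne]), Finset.sum_pair w.t.ne,
      trivChar_apply, ha, hb, map_one, ← Complex.ofReal_intCast, ← Complex.ofReal_intCast,
      Complex.normSq_ofReal, Complex.normSq_ofReal] at h1
    have h2 : 1 + (a * a + b * b) ≤ (576 : ℤ) := by
      exact_mod_cast h1
    have e1 : (w.t.ε * a) ^ 2 = a * a := by linear_combination a * a * hε
    have e2 : (1 + w.t.ε * a) ^ 2 = b * b := by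
      rw [show 1 + w.t.ε * a = -(w.t.ε' * b) by linarith]
      linear_combination b * b * hε'
    linarith
  · intro h3
    refine not_three_dvd_degree (c := c) w.t.f w.t.f_ne w.sing_f ?_
    rcases w.t.hε with e | e <;> rw [e] at h3 <;> omega
  · intro h3
    refine not_three_dvd_degree (c := c) w.t.x w.t.x_ne w.sing_x ?_
    rcases w.t.hε' with e | e <;> rw [e] at hC <;> omega

end CfsgLib.G2Rec.Escape
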