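import Cfsg.Agent.G2Rec.EscapeRows
import Cfsg.Agent.NineTwoQ.Automizer
import Cfsg.Agent.Small.Counting

/-!
If the centralizers of `s` and `q` lie in the centralizer `H` of `z`, then `⟨s, q⟩` is an inverted
Sylow 3-subgroup of order nine and there is one class of involutions.
-/

set_option autoImplicit false
set_option linter.style.haveILetI false
set_option linter.unusedSectionVars false

namespace CfsgLib.G2Rec.Escape

open CfsgLib.UFourType (Tab invW)
open CfsgLib.CosetEnum CfsgLib.MTwelveUnique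
open CfsgLib.NineTwoQ (Ctx Inverted)

theorem mulR_eq (i j : ℕ) (hi : i < 576) : mulR i j = idx (hWord i ++ hWord j) := by
  rw [idx, Tab.walk_append, show hT.walk 0 (hWord i) = i from (hWord_spec hi).1]
  rfl

theorem word_app {i j : ℕ} (hi : i < 576) (hj : j < 576) : ∀ x ∈ hWord i ++ hWord j, x < 10 :=
  fun x hx => (List.mem_append.1 hx).elim ((hWord_spec hi).2 x) ((hWord_spec hj).2 x)

theorem mulR_lt {i j : ℕ} (hi : i < 576) (hj : j < 576) : mulR i j < 576 := by
  rw [mulR_eq i j hi]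
  exact idx_lt (word_app hi hj)

theorem word_inv {i : ℕ} (hi : i < 576) : ∀ x ∈ invW (hWord i), x < 10 :=
  Closed.mem_invW (k := 5) h_closed (hWord_spec hi).2

theorem invR_lt {i : ℕ} (hi : i < 576) : invR i < 576 := idx_lt (word_inv hi)

theorem rS_bound {a : ℕ} (ha : a ∈ rS) : a < 576 := by
  have := List.all_eq_true.1 rS_lt a ha
  simpa using this

theorem rS_spec {a : ℕ} (ha : a ∈ rS) : invR a ∈ rS ∧ sq6 a = a ∧ mulR a (mulR a a) = 0 ∧
    ∀ b ∈ rS, mulR a b ∈ rS ∧ mulR a b = mulR b a := by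
  have := List.all_eq_true.1 rS_closed a ha
  simpa only [commB, Bool.and_eq_true, Nat.beq_eq, List.contains_iff_mem, List.all_eq_true]
    using this

theorem sT_bound {d : ℕ} (hd : d ∈ sT) : d < 576 :=
  (show ∀ d ∈ sT, d < 576 by decide) d hd

theorem sT_rS {d : ℕ} (hd : d ∈ sT) : d ∈ rS := (show ∀ d ∈ sT, d ∈ rS by decide) d hd

theorem tT_rS {d : ℕ} (hd : d ∈ tT) : d ∈ rS := (show ∀ d ∈ tT, d ∈ rS by decide) d hd

theorem rS_cases {d : ℕ} (hd : d ∈ rS) : d = 0 ∨ d ∈ sT ∨ d ∈ tT :=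
  (show ∀ d ∈ rS, d = 0 ∨ d ∈ sT ∨ d ∈ tT by decide) d hd

variable {G : Type*} [Group G] (f : Fr G)

/-- The element of a row. -/
def E (i : ℕ) : G := el f.γ i

theorem E_mem {i : ℕ} (hi : i < 576) : E f i ∈ hGroup f.γ := el_mem hi

theorem E_zero : E f 0 = 1 := el_zero f.satH

theorem E_idx {w : List ℕ} (hw : ∀ x ∈ w, x < 10) : prodw f.γ w = E f (idx w) :=
  prodw_eq_el f.satH hw

theorem E_mul {i j : ℕ} (hi : i < 576) (hj : j < 576) : E f i * E f j = E f (mulR i j) := by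
  rw [mulR_eq i j hi, ← E_idx f (word_app hi hj), prodw_append]
  rfl

theorem E_inv {i : ℕ} (hi : i < 576) : (E f i)⁻¹ = E f (invR i) := by
  rw [invR, ← E_idx f (word_inv hi), prodw_invW_of_sat f.satH _ fun y hy => by
    have := (hWord_spec hi).2 y hy
    omega]
  rfl

theorem E_conj {i j : ℕ} (hi : i < 576) (hj : j < 576) :
    E f i * E f j * (E f i)⁻¹ = E f (conjR i j) := by
  rw [E_mul f hi hj, E_inv f hi, E_mul f (mulR_lt hi hj) (invR_lt hi)]
  rfl

theorem conjR_lt {i j : ℕ} (hi : i < 576) (hj : j < 576) : conjR i j < 576 :=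
  mulR_lt (mulR_lt hi hj) (invR_lt hi)

theorem E_inj {i j : ℕ} (hi : i < 576) (hj : j < 576) (e : E f i = E f j) : i = j :=
  el_inj f.satH f.z_ne hi hj e

theorem exists_row {x : G} (hx : x ∈ hGroup f.γ) : ∃ i, i < 576 ∧ E f i = x :=
  (mem_hGroup f.satH).1 hx

theorem comm_iff {i j : ℕ} (hi : i < 576) (hj : j < 576) :
    commB i j = true ↔ E f i * E f j = E f j * E f i := by
  rw [commB, Nat.beq_eq, E_mul f hi hj, E_mul f hj hi]
  exact ⟨fun e => by rw [e], E_inj f (mulR_lt hi hj) (mulR_lt hj hi)⟩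

theorem sqR_lt {i : ℕ} (hi : i < 576) : sqR i < 576 := mulR_lt hi hi

theorem E_sqR {i : ℕ} (hi : i < 576) : E f (sqR i) = E f i ^ 2 := by
  rw [sq]; exact (E_mul f hi hi).symm

theorem sq6_lt {i : ℕ} (hi : i < 576) : sq6 i < 576 :=
  sqR_lt (sqR_lt (sqR_lt (sqR_lt (sqR_lt (sqR_lt hi)))))

theorem E_sq6 {i : ℕ} (hi : i < 576) : E f (sq6 i) = E f i ^ 64 := by
  rw [sq6, E_sqR f (sqR_lt (sqR_lt (sqR_lt (sqR_lt (sqR_lt hi))))),
    E_sqR f (sqR_lt (sqR_lt (sqR_lt (sqR_lt hi)))), E_sqR f (sqR_lt (sqR_lt (sqR_lt hi))),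
    E_sqR f (sqR_lt (sqR_lt hi)), E_sqR f (sqR_lt hi), E_sqR f hi, ← pow_mul, ← pow_mul,
    ← pow_mul, ← pow_mul, ← pow_mul]

theorem E_two : E f 2 = f.z := by
  have := E_idx f (w := zW) (by decide)
  rw [idx_z] at this
  exact this.symm

theorem E_four : E f 4 = f.γ 4 := by
  have := E_idx f (w := [4]) (by decide)
  rw [idx_s] at this
  simpa [prodw_cons, prodw] using this.symm

theorem E_six : E f 6 = f.γ 6 := by
  have := E_idx f (w := [6]) (by decide)
  rw [idx_q] at this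
  simpa [prodw_cons, prodw] using this.symm

theorem mem_H_iff {x : G} : x ∈ hGroup f.γ ↔ x * E f 2 = E f 2 * x := by
  rw [← f.cent, Subgroup.mem_centralizer_singleton_iff, E_two]
  rfl

theorem z_mul_self : E f 2 * E f 2 = 1 := by
  rw [E_mul f (by norm_num) (by norm_num), show mulR 2 2 = 0 by decide +kernel, E_zero]

theorem z_inv : (E f 2)⁻¹ = E f 2 := inv_eq_of_mul_eq_one_right (z_mul_self f)

theorem z_ne_one : E f 2 ≠ 1 := by
  rw [E_two]; exact f.z_ne

theorem invol_row {i : ℕ} (hi : i < 576) (h1 : E f i ≠ 1) (h2 : E f i * E f i = 1) :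
    i ∈ invols := by
  rw [← invols_eq, List.mem_filter, List.mem_range]
  refine ⟨hi, ?_⟩
  simp only [Bool.and_eq_true, Bool.not_eq_true', Nat.beq_eq]
  refine ⟨?_, ?_⟩
  · rw [Bool.eq_false_iff, ne_eq, Nat.beq_eq]
    exact fun e => h1 (e ▸ E_zero f)
  · exact E_inj f (mulR_lt hi hi) (by norm_num) (by rw [← E_mul f hi hi, h2, E_zero])

theorem invols_spec {i : ℕ} (hi : i ∈ invols) : i < 576 ∧ E f i ≠ 1 ∧ E f i * E f i = 1 := by
  rw [← invols_eq, List.mem_filter, List.mem_range] at hi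
  simp only [Bool.and_eq_true, Bool.not_eq_true', Nat.beq_eq] at hi
  obtain ⟨h, h0, h2⟩ := hi
  refine ⟨h, fun e => ?_, by rw [E_mul f h h, h2, E_zero]⟩
  have := E_inj f h (by norm_num : (0 : ℕ) < 576) (by rw [e, E_zero])
  subst this
  simp at h0

/-- The assumption: the centralizers of the two elements of order three lie in `H`. -/
structure Hyp : Prop where
  s : Subgroup.centralizer ({f.γ 4} : Set G) ≤ hGroup f.γ
  q : Subgroup.centralizer ({f.γ 6} : Set G) ≤ hGroup f.γ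

/-- The subgroup generated by the two elements of order three. -/
def R : Subgroup G where
  carrier := {x | ∃ i ∈ rS, E f i = x}
  one_mem' := ⟨0, by decide, E_zero f⟩
  mul_mem' := by
    rintro _ _ ⟨a, ha, rfl⟩ ⟨b, hb, rfl⟩
    exact ⟨mulR a b, ((rS_spec ha).2.2.2 b hb).1, (E_mul f (rS_bound ha) (rS_bound hb)).symm⟩
  inv_mem' := by
    rintro _ ⟨a, ha, rfl⟩
    exact ⟨invR a, (rS_spec ha).1, (E_inv f (rS_bound ha)).symm⟩

theorem mem_R {x : G} : x ∈ R f ↔ ∃ i ∈ rS, E f i = x := Iff.rfl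

theorem E_mem_R {i : ℕ} (hi : i ∈ rS) : E f i ∈ R f := ⟨i, hi, rfl⟩

theorem card_R : Nat.card (R f) = 9 := by
  have hf : Function.Bijective
      (fun i : {i : ℕ // i ∈ rS.toFinset} => (⟨E f i, i, List.mem_toFinset.1 i.2, rfl⟩ : R f)) := by
    refine ⟨fun a b e => Subtype.ext (E_inj f (rS_bound (List.mem_toFinset.1 a.2))
      (rS_bound (List.mem_toFinset.1 b.2)) (congrArg Subtype.val e)), ?_⟩
    rintro ⟨x, i, hi, rfl⟩
    exact ⟨⟨i, List.mem_toFinset.2 hi⟩, rfl⟩
  rw [← Nat.card_eq_of_bijective _ hf, Nat.card_eq_fintype_card, Fintype.card_coe]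
  decide

theorem cube_R {a : G} (ha : a ∈ R f) : a ^ 3 = 1 := by
  obtain ⟨i, hi, rfl⟩ := ha
  have hb := rS_bound hi
  rw [pow_succ', pow_two, E_mul f hb hb, E_mul f hb (mulR_lt hb hb), (rS_spec hi).2.2.1, E_zero]

theorem R_ne_inv {a : G} (ha : a ∈ R f) (ha1 : a ≠ 1) : a ≠ a⁻¹ := fun h => by
  have h3 : a * a * a = 1 := by rw [← pow_two, ← pow_succ]; exact cube_R f ha
  rw [mul_eq_one_iff_eq_inv.2 h, one_mul] at h3
  exact ha1 h3

variable {f}

theorem Hyp.cent_sT (h : Hyp f) {d : ℕ} (hd : d ∈ sT) {x : G}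
    (hx : x * E f d = E f d * x) : x ∈ hGroup f.γ := by
  have inv : ∀ {a b : G}, b = a⁻¹ → x * b = b * x → x * a = a * x := by
    intro a b e hb
    subst e
    simpa using (show Commute x a⁻¹ from hb).inv_right.eq
  have key : ∀ {a : G}, Subgroup.centralizer ({a} : Set G) ≤ hGroup f.γ → x * a = a * x →
      x ∈ hGroup f.γ := fun hle e => hle (Subgroup.mem_centralizer_singleton_iff.2 e)
  simp only [sT, List.mem_cons, List.not_mem_nil, or_false] at hd
  rcases hd with rfl | rfl | rfl | rfl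
  · exact key h.s (by rwa [E_four] at hx)
  · refine key h.s (inv ?_ hx)
    rw [← E_four, E_inv f (by norm_num), show invR 4 = 5 by decide +kernel]
  · exact key h.q (by rwa [E_six] at hx)
  · refine key h.q (inv ?_ hx)
    rw [← E_six, E_inv f (by norm_num), show invR 6 = 7 by decide +kernel]

/-- The only involution centralizing an element of an axis is `z`. -/
theorem Hyp.eq_z (h : Hyp f) {d : ℕ} (hd : d ∈ sT) {w : G} (hw1 : w ≠ 1) (hw2 : w * w = 1)
    (hx : w * E f d = E f d * w) : w = E f 2 := by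
  obtain ⟨i, hi, rfl⟩ := exists_row f (h.cent_sT hd hx)
  have hm := List.all_eq_true.1 (List.all_eq_true.1 only_z d hd) i (invol_row f hi hw1 hw2)
  simp only [(comm_iff f hi (sT_bound hd)).2 hx, Bool.not_true, Bool.false_or, Nat.beq_eq] at hm
  rw [hm]

theorem R_comm_z {a : G} (ha : a ∈ R f) : a * E f 2 = E f 2 * a := by
  obtain ⟨i, hi, rfl⟩ := ha
  exact (mem_H_iff f).1 (E_mem f (rS_bound hi))

theorem Hyp.normalizer_le (h : Hyp f) :
    Subgroup.normalizer (R f : Set G) ≤ hGroup f.γ := by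
  intro n hn
  set w := n * E f 2 * n⁻¹ with hw
  have hs : n⁻¹ * E f 4 * n ∈ R f :=
    (Subgroup.mem_normalizer_iff''.1 hn _).1 (E_mem_R f (by decide))
  have hcm : w * E f 4 = E f 4 * w := by
    rw [hw]
    calc n * E f 2 * n⁻¹ * E f 4 = n * (E f 2 * (n⁻¹ * E f 4 * n)) * n⁻¹ := by group
      _ = n * ((n⁻¹ * E f 4 * n) * E f 2) * n⁻¹ := by rw [R_comm_z hs]
      _ = _ := by group
  have hwe : w = E f 2 := h.eq_z (by decide) (fun e => z_ne_one f (conj_eq_one_iff.1 (hw ▸ e)))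
    (by rw [hw, show n * E f 2 * n⁻¹ * (n * E f 2 * n⁻¹) = n * (E f 2 * E f 2) * n⁻¹ by group,
      z_mul_self]; group) hcm
  exact (mem_H_iff f).2 (mul_inv_eq_iff_eq_mul.1 hwe)

theorem norm_rows {i : ℕ} (hi : i < 576) (hn : E f i ∈ Subgroup.normalizer (R f : Set G)) :
    rS.contains (conjR i 4) = true ∧ rS.contains (conjR i 6) = true := by
  have key : ∀ d ∈ rS, rS.contains (conjR i d) = true := by
    intro d hd
    obtain ⟨j, hj, e⟩ := (Subgroup.mem_normalizer_iff.1 hn _).1 (E_mem_R f hd)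
    rw [E_conj f hi (rS_bound hd)] at e
    rw [← E_inj f (rS_bound hj) (conjR_lt hi (rS_bound hd)) e]
    simpa using hj
  exact ⟨key 4 (by decide), key 6 (by decide)⟩

/-- The normalizer of `R` centralizes it or inverts it. -/
theorem Hyp.act (h : Hyp f) {n : G} (hn : n ∈ Subgroup.normalizer (R f : Set G)) :
    (∀ a ∈ R f, n * a * n⁻¹ = a) ∨ (∀ a ∈ R f, n * a * n⁻¹ = a⁻¹) := by
  obtain ⟨i, hi, rfl⟩ := exists_row f (h.normalizer_le hn)
  obtain ⟨h4, h6⟩ := norm_rows hi hn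
  have hm := List.all_eq_true.1 norm_act i (List.mem_range.2 hi)
  simp only [h4, h6, Bool.and_self, Bool.not_true, Bool.false_or, Bool.or_eq_true,
    List.all_eq_true, Nat.beq_eq] at hm
  rcases hm with hm | hm
  · left
    rintro _ ⟨j, hj, rfl⟩
    rw [E_conj f hi (rS_bound hj), hm j hj]
  · right
    rintro _ ⟨j, hj, rfl⟩
    rw [E_conj f hi (rS_bound hj), hm j hj, E_inv f (rS_bound hj)]

theorem xW_spec : E f 536 * E f 536 = 1 ∧ E f 536 * E f 2 = E f 2 * E f 536 ∧
    ∀ a ∈ R f, E f 536 * a * (E f 536)⁻¹ = a⁻¹ := by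
  have hm := xW_row
  simp only [Bool.and_eq_true, Nat.beq_eq, List.all_eq_true] at hm
  refine ⟨by rw [E_mul f (by norm_num) (by norm_num), hm.1, E_zero],
    (comm_iff f (by norm_num) (by norm_num)).1 hm.2.1, ?_⟩
  rintro _ ⟨j, hj, rfl⟩
  rw [E_conj f (by norm_num) (rS_bound hj), hm.2.2 j hj, E_inv f (rS_bound hj)]

theorem Hyp.not_27_dvd (h : Hyp f) [Finite G] : ¬ 27 ∣ Nat.card G := by
  intro hd
  haveI : Fact (Nat.Prime 3) := ⟨Nat.prime_three⟩
  have h1 := Sylow.prime_pow_dvd_card_normalizer (p := 3) (n := 2) (by simpa using hd)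
    (H := R f) (by rw [card_R f]; norm_num)
  have h2 := h1.trans (Subgroup.card_dvd_of_le h.normalizer_le)
  rw [card_hGroup f.satH f.z_ne] at h2
  norm_num at h2

/-- The generator outside `H`. -/
def g : G := f.γ 10

variable (f)

theorem g_rels : g (f := f) * g (f := f) = 1 ∧ g (f := f) * E f 2 * g (f := f) = E f 9 ∧
    g (f := f) * E f 522 * g (f := f) = E f 574 := by
  have rel := fun w (hw : w ∈ gRels) => f.satG.rel w hw
  have h1 : g (f := f) * g (f := f) = 1 := by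
    simpa [g, prodw_cons, prodw] using rel [10, 10] (by decide)
  have hg : ∀ v : List ℕ, prodw f.γ (10 :: v) = g (f := f) * prodw f.γ v := fun v => prodw_cons ..
  have hz := rel ([10] ++ zW ++ [10] ++ invW e1W) (by decide)
  have hi := rel ([10] ++ [0] ++ [10] ++ invW [8, 4, 6]) (by decide)
  have he := rel ([10] ++ e2W ++ [10] ++ invW e2W) (by decide)
  have one : prodw f.γ [10] = g (f := f) := by simp [g, prodw_cons, prodw]
  simp only [prodw_append, one, prodw_invW_of_sat f.satH _ (by decide : ∀ x ∈ e1W, x < 12),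
    prodw_invW_of_sat f.satH _ (by decide : ∀ x ∈ ([8, 4, 6] : List ℕ), x < 12),
    prodw_invW_of_sat f.satH _ (by decide : ∀ x ∈ e2W, x < 12), mul_inv_eq_one] at hz hi he
  refine ⟨h1, ?_, ?_⟩
  · rw [← idx_e1, ← E_idx f (by decide), ← hz, E_two]
    rfl
  · rw [← idx_ie2, ← idx_xte2, ← E_idx f (by decide), ← E_idx f (by decide), prodw_append,
      prodw_append]
    have hgg : ∀ a : G, g (f := f) * (g (f := f) * a) = a := fun a => by
      rw [← mul_assoc, h1, one_mul]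
    calc _ = (g (f := f) * prodw f.γ [0] * g (f := f)) *
          (g (f := f) * prodw f.γ e2W * g (f := f)) := by simp only [mul_assoc, hgg]
      _ = _ := by rw [hi, he]

theorem conj_z_of_mem {x : G} (hx : x ∈ hGroup f.γ) (h1 : x ≠ 1) (h2 : x * x = 1) :
    IsConj (E f 2) x := by
  obtain ⟨j, hj, rfl⟩ := exists_row f hx
  obtain ⟨hg1, hg2, hg3⟩ := g_rels f
  have hgi : (g (f := f))⁻¹ = g (f := f) := inv_eq_of_mul_eq_one_right hg1
  have c9 : IsConj (E f 2) (E f 9) := isConj_iff.2 ⟨g (f := f), by rw [hgi, hg2]⟩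
  have c522 : IsConj (E f 9) (E f 522) := isConj_iff.2 ⟨E f 54, by
    rw [mul_inv_eq_iff_eq_mul, E_mul f (by norm_num) (by norm_num),
      E_mul f (by norm_num) (by norm_num), ie2_class]⟩
  have c574 : IsConj (E f 522) (E f 574) := isConj_iff.2 ⟨g (f := f), by rw [hgi, hg3]⟩
  have hmem := invol_row f hj h1 h2
  rw [← classW_fst, List.mem_map] at hmem
  obtain ⟨⟨j', r, k⟩, ht, rfl⟩ := hmem
  have hm := List.all_eq_true.1 classW_ok _ ht
  simp only [Bool.and_eq_true, Nat.blt_eq, List.contains_iff_mem, Nat.beq_eq, List.mem_cons,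
    List.not_mem_nil, or_false] at hm
  obtain ⟨hk, hr, he⟩ := hm
  have hr' : r < 576 ∧ IsConj (E f 2) (E f r) := by
    rcases hr with rfl | rfl | rfl
    exacts [⟨by norm_num, IsConj.refl _⟩, ⟨by norm_num, c9⟩,
      ⟨by norm_num, (c9.trans c522).trans c574⟩]
  exact hr'.2.trans (isConj_iff.2 ⟨E f k, by
    rw [mul_inv_eq_iff_eq_mul, E_mul f hk hr'.1, E_mul f hj hk, he]⟩)

variable [Finite G]

/-- There is one class of involutions. -/
theorem isConj_z {x : G} (h1 : x ≠ 1) (h2 : x * x = 1) : IsConj (E f 2) x := by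
  set z := E f 2 with hz
  have hxi : x⁻¹ = x := inv_eq_of_mul_eq_one_right h2
  set r := x * z with hr
  have hri : r⁻¹ = z * x := by rw [hr, mul_inv_rev, hxi, z_inv]
  rcases Nat.even_or_odd (orderOf r) with ⟨k, hk⟩ | ⟨k, hk⟩
  · have hk0 : 0 < k := by have := orderOf_pos r; omega
    set w := r ^ k with hw
    have hw2 : w * w = 1 := by rw [hw, ← pow_add, ← hk, pow_orderOf_eq_one]
    have hw1 : w ≠ 1 := fun e => by
      have := Nat.le_of_dvd hk0 (orderOf_dvd_of_pow_eq_one e)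
      omega
    have hwi : w⁻¹ = w := inv_eq_of_mul_eq_one_right hw2
    have hconj : ∀ u : G, u * r * u⁻¹ = r⁻¹ → w * u = u * w := by
      intro u hu
      have : u * w * u⁻¹ = w := by rw [hw, ← conj_pow, hu, inv_pow, ← hw, hwi]
      exact (mul_inv_eq_iff_eq_mul.1 this).symm
    have hwz : w * z = z * w := hconj z (by
      rw [hri, hr, hz, z_inv, mul_assoc (E f 2), mul_assoc x, z_mul_self, mul_one])
    obtain ⟨a, ha⟩ := isConj_iff.1 (conj_z_of_mem f ((mem_H_iff f).2 hwz) hw1 hw2)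
    have hwx : w * x = x * w := hconj x (by
      rw [hri, hr, hxi, ← mul_assoc, h2, one_mul])
    have h3 : a⁻¹ * x * a ∈ hGroup f.γ := by
      rw [mem_H_iff]
      rw [← ha] at hwx
      calc a⁻¹ * x * a * z = a⁻¹ * (x * (a * z * a⁻¹)) * a := by group
        _ = a⁻¹ * ((a * z * a⁻¹) * x) * a := by rw [hwx]
        _ = _ := by simp only [hz]; group
    refine (conj_z_of_mem f h3 (fun e => h1 ?_) ?_).trans (isConj_iff.2 ⟨a, by group⟩)
    · calc x = a * (a⁻¹ * x * a) * a⁻¹ := by group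
        _ = 1 := by rw [e]; group
    · calc a⁻¹ * x * a * (a⁻¹ * x * a) = a⁻¹ * (x * x) * a := by group
        _ = 1 := by rw [h2]; group
  · refine (isConj_iff.2 ⟨r ^ k, ?_⟩ : IsConj x (E f 2)).symm
    have hxr : x * r * x⁻¹ = r⁻¹ := by rw [hri, hr, hxi, ← mul_assoc, h2, one_mul]
    have hpow : x * (r ^ k) * x⁻¹ = (r ^ k)⁻¹ := by rw [← conj_pow, hxr, inv_pow]
    calc r ^ k * x * (r ^ k)⁻¹ = r ^ k * (x * (r ^ k)⁻¹ * x⁻¹) * x := by group
      _ = r ^ k * (x * r ^ k * x⁻¹)⁻¹ * x := by group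
      _ = r ^ k * r ^ k * x := by rw [hpow, inv_inv]
      _ = r⁻¹ * x := by
          have : r ^ k * r ^ k * r = 1 := by
            rw [← pow_add, ← pow_succ, show k + k + 1 = orderOf r by omega, pow_orderOf_eq_one]
          rw [eq_inv_of_mul_eq_one_left this]
      _ = z := by rw [hri, mul_assoc, h2, mul_one]

/-- The number of involutions. -/
noncomputable def cN : ℕ := Nat.card {w : G // IsConj (E f 2) w}

theorem cN_mul : cN f * 576 = Nat.card G := by
  have h := Small.card_conjugates_mul_card_centralizer (E f 2)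
  have hc : Subgroup.centralizer ({E f 2} : Set G) = hGroup f.γ := by rw [E_two]; exact f.cent
  rwa [hc, card_hGroup f.satH f.z_ne] at h

theorem isConj_z_iff {x : G} : IsConj (E f 2) x ↔ x ≠ 1 ∧ x * x = 1 := by
  refine ⟨fun h => ?_, fun h => isConj_z f h.1 h.2⟩
  obtain ⟨a, rfl⟩ := isConj_iff.1 h
  refine ⟨fun e => z_ne_one f (conj_eq_one_iff.1 e), ?_⟩
  rw [show a * E f 2 * a⁻¹ * (a * E f 2 * a⁻¹) = a * (E f 2 * E f 2) * a⁻¹ by group, z_mul_self]
  group

theorem cN_pos : 0 < cN f := by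
  haveI : Nonempty {w : G // IsConj (E f 2) w} := ⟨⟨_, IsConj.refl _⟩⟩
  exact Nat.card_pos

theorem odd_cN : Odd (cN f) := by
  have he : Even (Nat.card G) := ⟨cN f * 288, by rw [← cN_mul f]; ring⟩
  have h := Small.odd_card_involutions he
  rw [cN]
  rwa [Nat.card_congr (Equiv.subtypeEquivRight fun x => ?_)]
  rw [isConj_z_iff, orderOf_eq_prime_iff, sq]
  exact and_comm

theorem seven_dvd_cN : 7 ∣ cN f := by
  haveI : Fact (Nat.Prime 7) := ⟨by norm_num⟩
  have h7 := f.satG.rel [10, 4, 6, 10, 4, 6, 10, 4, 6, 10, 4, 6, 10, 4, 6, 10, 4, 6, 10, 4, 6]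
    (by decide)
  have e : prodw f.γ [10, 4, 6] = g (f := f) * E f 12 := by
    rw [show ([10, 4, 6] : List ℕ) = [10] ++ [4, 6] from rfl, prodw_append,
      E_idx f (w := [4, 6]) (by decide), show idx [4, 6] = 12 by decide +kernel]
    simp [g, prodw_cons, prodw]
  have hp : (g (f := f) * E f 12) ^ 7 = 1 := by
    have l : ([10, 4, 6, 10, 4, 6, 10, 4, 6, 10, 4, 6, 10, 4, 6, 10, 4, 6, 10, 4, 6] : List ℕ) =
        [10, 4, 6] ++ [10, 4, 6] ++ [10, 4, 6] ++ [10, 4, 6] ++ [10, 4, 6] ++ [10, 4, 6] ++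
          [10, 4, 6] := rfl
    rw [l] at h7
    simp only [prodw_append, e] at h7
    rw [← h7]
    simp only [pow_succ, pow_zero, one_mul]
  obtain ⟨hg1, hg2, -⟩ := g_rels f
  have hne : g (f := f) * E f 12 ≠ 1 := by
    intro h1
    have hmem : g (f := f) ∈ hGroup f.γ := by
      rw [eq_inv_of_mul_eq_one_left h1]
      exact inv_mem (E_mem f (by norm_num))
    rw [(mem_H_iff f).1 hmem, mul_assoc, hg1, mul_one] at hg2
    exact absurd (E_inj f (by norm_num) (by norm_num) hg2) (by norm_num)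
  have hd : 7 ∣ Nat.card G := orderOf_eq_prime hp hne ▸ orderOf_dvd_natCard _
  rw [← cN_mul f] at hd
  exact (Nat.Coprime.dvd_of_dvd_mul_right (by norm_num) hd)

variable {f}

theorem Hyp.not_three_dvd_cN (h : Hyp f) : ¬ 3 ∣ cN f := fun h3 =>
  h.not_27_dvd (by
    rw [← cN_mul f]
    exact (mul_dvd_mul h3 (show (9 : ℕ) ∣ 576 by norm_num)))

/-- The Sylow 3-subgroup with its cofactor. -/
noncomputable def ctx (h : Hyp f) : Ctx G :=
  haveI : Fact (Nat.Prime 3) := ⟨Nat.prime_three⟩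
  { R := Sylow.ofCard (R f) (by
      rw [card_R f, ← cN_mul f, Nat.factorization_mul (cN_pos f).ne' (by norm_num),
        Finsupp.add_apply, Nat.factorization_eq_zero_of_not_dvd h.not_three_dvd_cN,
        show (576 : ℕ) = 3 ^ 2 * 64 by norm_num, Nat.factorization_mul (by norm_num) (by norm_num),
        Finsupp.add_apply, Nat.factorization_eq_zero_of_not_dvd (n := 64) (by norm_num),
        Nat.prime_three.factorization_pow, Finsupp.single_eq_same]
      norm_num)
    m := 64 * cN f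
    card_G := by rw [← cN_mul f]; ring
    not_dvd := fun hd => h.not_three_dvd_cN
      ((Nat.Coprime.dvd_of_dvd_mul_left (by norm_num) hd)) }

theorem ctx_R (h : Hyp f) : ((ctx h).R : Subgroup G) = R f := rfl

theorem Hyp.inverted (h : Hyp f) : Inverted (ctx h) where
  inv a ha := isConj_iff.2 ⟨E f 536, xW_spec.2.2 a ha⟩
  act _ hn := h.act hn

theorem κ_mod (h : Hyp f) : (ctx h).κ % 576 = 64 := by
  obtain ⟨j, hj⟩ := (ctx h).κ_zero
  have h9 : (ctx h).κ % 9 = 1 := (ctx h).κ_one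
  obtain ⟨i, hi⟩ : ∃ i, (ctx h).κ = 64 * i :=
    ⟨cN f * j, by rw [hj]; show 64 * cN f * j = _; ring⟩
  omega

theorem E_pow_κ (h : Hyp f) {i : ℕ} (hi : i < 576) : E f i ^ (ctx h).κ = E f (sq6 i) := by
  rw [E_sq6 f hi]
  have h1 : E f i ^ 576 = 1 := by
    have := congrArg Subtype.val
      (pow_card_eq_one' (x := (⟨E f i, E_mem f hi⟩ : hGroup f.γ)))
    rwa [card_hGroup f.satH f.z_ne] at this
  rw [pow_eq_pow_mod _ h1, κ_mod h]

end CfsgLib.G2Rec.Escape
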