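import Cfsg.Agent.G2Rec.EscapeFrame
import Cfsg.Agent.NineTwoQ.Section
import Mathlib.GroupTheory.Transfer
import Mathlib.GroupTheory.FixedPointFree

/-!
Pairs of involutions whose product has a given part of order three.
-/

set_option autoImplicit false
set_option maxRecDepth 20000
set_option linter.style.haveILetI false
set_option linter.unusedSectionVars false

namespace CfsgLib.G2Rec.Escape

open CfsgLib.NineTwoQ (Ctx Inverted)

theorem cent_sT_count : sT.all (fun d =>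
    Nat.beq ((List.range 576).filter fun i => commB i d).length 72) = true := by
  decide +kernel

theorem cent_tT_count : tT.all (fun d =>
    Nat.beq ((List.range 576).filter fun i => commB i d).length 18) = true := by
  decide +kernel

/-- In an abelian group of odd order two involutive automorphisms without common signed fixed
points have as many fixed as inverted elements. -/
theorem card_fixed_inverted {O : Type*} [Group O] [Finite O] (hc : ∀ a b : O, a * b = b * a)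
    (hodd : Odd (Nat.card O)) (φ ψ : O →* O) (hφ : ∀ o, φ (φ o) = o) (hψ : ∀ o, ψ (ψ o) = o)
    (h : ∀ o, (φ o = o ∨ φ o = o⁻¹) → (ψ o = o ∨ ψ o = o⁻¹) → o = 1) :
    Nat.card {o : O // φ o = o} = Nat.card {o : O // φ o = o⁻¹} ∧
      Nat.card {o : O // φ o = o} * Nat.card {o : O // φ o = o} = Nat.card O := by
  have hone : ∀ o : O, o = o⁻¹ → o = 1 := fun o e => by
    by_contra hne
    haveI : Fact (Nat.Prime 2) := ⟨Nat.prime_two⟩
    have h2 : o ^ 2 = 1 := by rw [sq]; exact mul_eq_one_iff_eq_inv.2 e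
    have := orderOf_dvd_natCard o
    rw [orderOf_eq_prime h2 hne] at this
    exact Nat.not_even_iff_odd.2 hodd (even_iff_two_dvd.2 this)
  have hcross : ∀ {a b c d : O}, a * b = c * d → c⁻¹ * a = d * b⁻¹ := fun {a b c d} e => by
    calc _ = c⁻¹ * (a * b) * b⁻¹ := by group
      _ = _ := by rw [e]; group
  have prodeq : ∀ χ : O →* O, (∀ o, χ (χ o) = o) →
      Nat.card {o : O // χ o = o} * Nat.card {o : O // χ o = o⁻¹} = Nat.card O := by
    intro χ hχ
    rw [← Nat.card_prod]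
    refine Nat.card_eq_of_bijective (fun p => p.1.1 * p.2.1) ⟨?_, ?_⟩
    · rintro ⟨⟨a, ha⟩, ⟨b, hb⟩⟩ ⟨⟨c, hc'⟩, ⟨d, hd⟩⟩ e
      have e' := hcross (show a * b = c * d from e)
      have h1 : χ (c⁻¹ * a) = c⁻¹ * a := by rw [map_mul, map_inv, ha, hc']
      have h2 : χ (d * b⁻¹) = (d * b⁻¹)⁻¹ := by
        rw [map_mul, map_inv, hd, hb, mul_inv_rev, inv_inv, hc]
      rw [e'] at h1
      have h3 : d * b⁻¹ = 1 := hone _ (h1.symm.trans h2)
      have hbd : b = d := (mul_inv_eq_one.1 h3).symm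
      have hac : a = c := (inv_mul_eq_one.1 (e'.trans h3)).symm
      subst hbd hac
      rfl
    · intro o
      obtain ⟨j, hj⟩ := hodd
      set k := j + 1
      refine ⟨⟨⟨(o * χ o) ^ k, ?_⟩, ⟨(o * (χ o)⁻¹) ^ k, ?_⟩⟩, ?_⟩
      · rw [map_pow, map_mul, hχ, hc]
      · rw [map_pow, map_mul, map_inv, hχ, ← inv_pow, mul_inv_rev, inv_inv]
      · show (o * χ o) ^ k * (o * (χ o)⁻¹) ^ k = o
        rw [← (show Commute (o * χ o) (o * (χ o)⁻¹) from hc _ _).mul_pow,
          show o * χ o * (o * (χ o)⁻¹) = o ^ 2 by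
            rw [hc o (χ o)⁻¹, sq]; group,
          ← pow_mul, show 2 * k = 2 * j + 1 + 1 by omega, pow_succ, ← hj, pow_card_eq_one',
          one_mul]
  have bound : ∀ σ τ : O → O, (σ = id ∨ σ = fun o => o⁻¹) → (τ = id ∨ τ = fun o => o⁻¹) →
      Nat.card {o : O // φ o = σ o} * Nat.card {o : O // ψ o = τ o} ≤ Nat.card O := by
    intro σ τ hσ hτ
    rw [← Nat.card_prod]
    refine Nat.card_le_card_of_injective (fun p => p.1.1 * p.2.1) ?_
    rintro ⟨⟨a, ha⟩, ⟨b, hb⟩⟩ ⟨⟨c, hc'⟩, ⟨d, hd⟩⟩ e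
    have e' := hcross (show a * b = c * d from e)
    have m : ∀ (χ : O →* O) (ρ : O → O), (ρ = id ∨ ρ = fun o => o⁻¹) → ∀ x y : O,
        χ x = ρ x → χ y = ρ y → χ (x⁻¹ * y) = x⁻¹ * y ∨ χ (x⁻¹ * y) = (x⁻¹ * y)⁻¹ := by
      intro χ ρ hρ x y hx hy
      rw [map_mul, map_inv, hx, hy]
      rcases hρ with rfl | rfl
      · exact Or.inl rfl
      · exact Or.inr (by rw [mul_inv_rev, inv_inv]; exact hc _ _)
    have h1 := m φ σ hσ c a hc' ha
    have h2 := m ψ τ hτ b d hb hd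
    rw [hc b⁻¹ d] at h2
    rw [e'] at h1
    have h3 := h _ h1 h2
    have hbd : b = d := (mul_inv_eq_one.1 h3).symm
    have hac : a = c := (inv_mul_eq_one.1 (e'.trans h3)).symm
    subst hbd hac
    rfl
  have e1 := prodeq φ hφ
  have e2 := prodeq ψ hψ
  have b11 : _ * Nat.card {o : O // ψ o = o} ≤ _ := bound id id (Or.inl rfl) (Or.inl rfl)
  have b12 : _ * Nat.card {o : O // ψ o = o⁻¹} ≤ _ :=
    bound id (fun o => o⁻¹) (Or.inl rfl) (Or.inr rfl)
  have b21 : _ * Nat.card {o : O // ψ o = o} ≤ _ :=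
    bound (fun o => o⁻¹) id (Or.inr rfl) (Or.inl rfl)
  have b22 : _ * Nat.card {o : O // ψ o = o⁻¹} ≤ _ :=
    bound (fun o => o⁻¹) (fun o => o⁻¹) (Or.inr rfl) (Or.inr rfl)
  simp only [id_eq] at b11 b12 b21 b22
  have hn : 0 < Nat.card O := Nat.card_pos
  set A := Nat.card {o : O // φ o = o}
  set B := Nat.card {o : O // φ o = o⁻¹}
  set A' := Nat.card {o : O // ψ o = o}
  set B' := Nat.card {o : O // ψ o = o⁻¹}
  have hA : 0 < A := Nat.pos_of_ne_zero fun e => by rw [e, zero_mul] at e1; omega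
  have hB : 0 < B := Nat.pos_of_ne_zero fun e => by rw [e, mul_zero] at e1; omega
  have hAB : A = B := by
    rcases le_total A B with hle | hle
    · have a1 : A' ≤ A := Nat.le_of_mul_le_mul_left (b21.trans_eq (by rw [← e1, mul_comm])) hB
      have a2 : B' ≤ A := Nat.le_of_mul_le_mul_left (b22.trans_eq (by rw [← e1, mul_comm])) hB
      have := Nat.mul_le_mul a1 a2
      exact le_antisymm hle (Nat.le_of_mul_le_mul_left (by omega) hA)
    · have a1 : A' ≤ B := Nat.le_of_mul_le_mul_left (b11.trans_eq e1.symm) hA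
      have a2 : B' ≤ B := Nat.le_of_mul_le_mul_left (b12.trans_eq e1.symm) hA
      have := Nat.mul_le_mul a1 a2
      exact le_antisymm (Nat.le_of_mul_le_mul_right (by omega) hB) hle
  exact ⟨hAB, by rw [← e1, hAB]⟩

variable {G : Type*} [Group G] {f : Fr G}

theorem orderOf_conj (a u : G) : orderOf (a * u * a⁻¹) = orderOf u :=
  (MulEquiv.orderOf_eq (MulAut.conj a) u)

theorem cent_card {d : ℕ} (hd : d < 576) :
    Nat.card ↥(hGroup f.γ ⊓ Subgroup.centralizer ({E f d} : Set G)) =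
      ((List.range 576).filter fun i => commB i d).length := by
  set l := (List.range 576).filter fun i => commB i d with hl
  have hmem : ∀ i, i ∈ l ↔ i < 576 ∧ commB i d = true := fun i => by
    rw [hl, List.mem_filter, List.mem_range]
  rw [← List.toFinset_card_of_nodup (show l.Nodup from List.nodup_range.filter _),
    ← Fintype.card_coe, ← Nat.card_eq_fintype_card]
  let F : {i : ℕ // i ∈ l.toFinset} → ↥(hGroup f.γ ⊓ Subgroup.centralizer ({E f d} : Set G)) :=
    fun i => ⟨E f i.1, E_mem f ((hmem i.1).1 (List.mem_toFinset.1 i.2)).1,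
      Subgroup.mem_centralizer_singleton_iff.2 ((comm_iff f
        ((hmem i.1).1 (List.mem_toFinset.1 i.2)).1 hd).1
          ((hmem i.1).1 (List.mem_toFinset.1 i.2)).2)⟩
  refine (Nat.card_eq_of_bijective F ⟨?_, ?_⟩).symm
  · exact fun a b e => Subtype.ext (E_inj f ((hmem a.1).1 (List.mem_toFinset.1 a.2)).1
      ((hmem b.1).1 (List.mem_toFinset.1 b.2)).1 (congrArg Subtype.val e))
  · rintro ⟨x, hx1, hx2⟩
    obtain ⟨i, hi, rfl⟩ := exists_row f hx1
    exact ⟨⟨i, List.mem_toFinset.2 ((hmem i).2 ⟨hi,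
      (comm_iff f hi hd).2 (Subgroup.mem_centralizer_singleton_iff.1 hx2)⟩)⟩, rfl⟩

theorem E_ne_one {d : ℕ} (hd : d < 576) (h0 : d ≠ 0) : E f d ≠ 1 := fun e =>
  h0 (E_inj f hd (by norm_num) (e.trans (E_zero f).symm))

theorem tT_data {d : ℕ} (hd : d ∈ tT) : d < 576 ∧ E f d ∈ R f ∧ E f d ≠ 1 := by
  have h := (show ∀ d ∈ tT, d < 576 ∧ d ≠ 0 by decide) d hd
  exact ⟨h.1, E_mem_R f (tT_rS hd), E_ne_one h.1 h.2⟩

variable [Finite G]

/-- Ordered pairs of involutions whose product has the part `k` of order three. -/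
noncomputable def pairsCard (h : Hyp f) (k : G) : ℕ :=
  Nat.card {p : G × G // (p.1 ≠ 1 ∧ p.1 * p.1 = 1) ∧ (p.2 ≠ 1 ∧ p.2 * p.2 = 1) ∧
    (p.1 * p.2) ^ (ctx h).κ = k}

omit [Finite G] in
theorem inverts_of_prod {v w k : G} {n : ℕ} (hv : v * v = 1) (hw : w * w = 1)
    (h : (v * w) ^ n = k) : v * k * v⁻¹ = k⁻¹ ∧ w * k * w⁻¹ = k⁻¹ := by
  have hvi : v⁻¹ = v := inv_eq_of_mul_eq_one_right hv
  have hwi : w⁻¹ = w := inv_eq_of_mul_eq_one_right hw
  constructor <;>
  · rw [← h, ← conj_pow, ← inv_pow, mul_inv_rev, hvi, hwi]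
    congr 1
    first
      | (rw [← mul_assoc v, hv, one_mul])
      | (rw [mul_assoc w, mul_assoc v, hw, mul_one])

theorem pairsCard_axis (h : Hyp f) {d : ℕ} (hd : d ∈ sT) :
    pairsCard h (E f d) = 2 * Nat.card (Subgroup.centralizer ({E f d} : Set G)) := by
  have hd' := sT_bound hd
  have hsub : Subgroup.centralizer ({E f d} : Set G) =
      hGroup f.γ ⊓ Subgroup.centralizer ({E f d} : Set G) :=
    (inf_eq_right.2 fun x hx =>
      h.cent_sT hd (Subgroup.mem_centralizer_singleton_iff.1 hx)).symm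
  rw [hsub, cent_card hd', Nat.eq_of_beq_eq_true (List.all_eq_true.1 cent_sT_count d hd)]
  have hnod : (pairsR d).Nodup := (invols_nodup.product invols_nodup).filter _
  have hmem : ∀ i j, (i, j) ∈ pairsR d ↔
      (i ∈ invols ∧ j ∈ invols) ∧ sq6 (mulR i j) = d := fun i j => by
    simp only [pairsR, List.mem_filter, List.pair_mem_product, Nat.beq_eq]
  rw [show 2 * 72 = (pairsR d).length from
      (Nat.eq_of_beq_eq_true (List.all_eq_true.1 pairs_count d hd)).symm,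
    ← List.toFinset_card_of_nodup hnod, ← Fintype.card_coe, ← Nat.card_eq_fintype_card]
  symm
  refine Nat.card_eq_of_bijective
    (fun p => ⟨(E f p.1.1, E f p.1.2), ?_⟩) ⟨?_, ?_⟩
  · obtain ⟨⟨i, j⟩, hp⟩ := p
    obtain ⟨⟨hi, hj⟩, he⟩ := (hmem i j).1 (List.mem_toFinset.1 hp)
    obtain ⟨hi', hi1, hi2⟩ := invols_spec f hi
    obtain ⟨hj', hj1, hj2⟩ := invols_spec f hj
    exact ⟨⟨hi1, hi2⟩, ⟨hj1, hj2⟩, by rw [E_mul f hi' hj', E_pow_κ h (mulR_lt hi' hj'), he]⟩
  · rintro ⟨⟨i, j⟩, hp⟩ ⟨⟨i', j'⟩, hp'⟩ e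
    obtain ⟨⟨hi, hj⟩, -⟩ := (hmem i j).1 (List.mem_toFinset.1 hp)
    obtain ⟨⟨hi', hj'⟩, -⟩ := (hmem i' j').1 (List.mem_toFinset.1 hp')
    simp only [Subtype.mk.injEq, Prod.mk.injEq] at e
    obtain rfl := E_inj f (invols_spec f hi).1 (invols_spec f hi').1 e.1
    obtain rfl := E_inj f (invols_spec f hj).1 (invols_spec f hj').1 e.2
    rfl
  · rintro ⟨⟨v, w⟩, ⟨hv1, hv2⟩, ⟨hw1, hw2⟩, he⟩
    obtain ⟨hvk, hwk⟩ := inverts_of_prod hv2 hw2 he
    have key : ∀ u : G, u * u = 1 → u * E f d * u⁻¹ = (E f d)⁻¹ → u ∈ hGroup f.γ := by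
      intro u hu huk
      have hdz := R_comm_z (E_mem_R f (sT_rS hd))
      have h1 : u * E f d = (E f d)⁻¹ * u := mul_inv_eq_iff_eq_mul.1 huk
      have hc : (u * E f 2 * u⁻¹) * E f d = E f d * (u * E f 2 * u⁻¹) := by
        have h2 : u⁻¹ * E f d = (E f d)⁻¹ * u⁻¹ := by
          rw [inv_eq_of_mul_eq_one_right hu]; exact h1
        have h3 : E f 2 * (E f d)⁻¹ = (E f d)⁻¹ * E f 2 :=
          ((show Commute (E f d) (E f 2) from hdz).inv_left).eq.symm
        have h4 : u * (E f d)⁻¹ = E f d * u := by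
          rw [← huk]
          calc u * (u * E f d * u⁻¹) = (u * u) * E f d * u⁻¹ := by group
            _ = _ := by rw [hu, inv_eq_of_mul_eq_one_right hu, one_mul]
        calc _ = u * E f 2 * (u⁻¹ * E f d) := by group
          _ = u * (E f 2 * (E f d)⁻¹) * u⁻¹ := by rw [h2]; group
          _ = (u * (E f d)⁻¹) * E f 2 * u⁻¹ := by rw [h3]; group
          _ = _ := by rw [h4]; group
      have hz := h.eq_z hd (fun e => z_ne_one f (conj_eq_one_iff.1 e))
        (by rw [show u * E f 2 * u⁻¹ * (u * E f 2 * u⁻¹) = u * (E f 2 * E f 2) * u⁻¹ by group,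
          z_mul_self]; group) hc
      exact (mem_H_iff f).2 (mul_inv_eq_iff_eq_mul.1 hz)
    obtain ⟨i, hi, rfl⟩ := exists_row f (key v hv2 hvk)
    obtain ⟨j, hj, rfl⟩ := exists_row f (key w hw2 hwk)
    refine ⟨⟨(i, j), List.mem_toFinset.2 ((hmem i j).2
      ⟨⟨invol_row f hi hv1 hv2, invol_row f hj hw1 hw2⟩, ?_⟩)⟩, rfl⟩
    rw [E_mul f hi hj, E_pow_κ h (mulR_lt hi hj)] at he
    exact E_inj f (sq6_lt (mulR_lt hi hj)) hd' he

/-- The centralizer of a diagonal element: its normal 3-complement and the odd part of this. -/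
structure Loc (h : Hyp f) (d : ℕ) where
  K : Subgroup G
  O : Subgroup G
  mem_K : ∀ u, u ∈ K ↔ u * E f d = E f d * u ∧ u ^ (ctx h).κ = 1
  mem_O : ∀ u, u ∈ O ↔ u ∈ K ∧ Odd (orderOf u)
  card : 18 * Nat.card O = Nat.card (Subgroup.centralizer ({E f d} : Set G))
  z_mem : E f 2 ∈ K
  z_not : E f 2 ∉ O
  split : ∀ u ∈ K, u ∈ O ∨ E f 2 * u ∈ O
  decomp : ∀ u, u * E f d = E f d * u → ∃ r ∈ R f, ∃ k ∈ K, u = r * k

theorem z_pow_κ (h : Hyp f) : E f 2 ^ (ctx h).κ = 1 := by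
  rw [E_pow_κ h (by norm_num), show sq6 2 = 0 by decide +kernel, E_zero]

theorem exists_loc (h : Hyp f) {d : ℕ} (hd : d ∈ tT) : Nonempty (Loc h d) := by
  classical
  haveI : Fact (Nat.Prime 3) := ⟨Nat.prime_three⟩
  haveI : Fact (Nat.Prime 2) := ⟨Nat.prime_two⟩
  obtain ⟨hd', hdR, hd1⟩ := tT_data (f := f) hd
  set c := ctx h
  set C := Subgroup.centralizer ({E f d} : Set G) with hC
  have hle : (c.R : Subgroup G) ≤ C := fun a ha =>
    Subgroup.mem_centralizer_singleton_iff.2 (c.comm ha hdR)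
  let S : Sylow 3 C := c.R.subtype hle
  have hS : Subgroup.normalizer ((S : Subgroup C) : Set C) ≤
      Subgroup.centralizer ((S : Subgroup C) : Set C) := by
    intro n hn
    have hn' : (n : G) ∈ Subgroup.normalizer ((c.R : Subgroup G) : Set G) := by
      refine Subgroup.mem_normalizer_iff.2 fun a => ⟨fun ha => ?_, fun ha => ?_⟩
      · exact Subgroup.mem_subgroupOf.1
          ((Subgroup.mem_normalizer_iff.1 hn ⟨a, hle ha⟩).1 (Subgroup.mem_subgroupOf.2 ha))
      · have haC : a ∈ C := by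
          have := mul_mem (mul_mem (inv_mem n.2) (hle ha)) n.2
          simpa [mul_assoc] using this
        exact Subgroup.mem_subgroupOf.1
          ((Subgroup.mem_normalizer_iff.1 hn ⟨a, haC⟩).2 (Subgroup.mem_subgroupOf.2 ha))
    have hfix : (n : G) * E f d * (n : G)⁻¹ = E f d :=
      mul_inv_eq_iff_eq_mul.2 (Subgroup.mem_centralizer_singleton_iff.1 n.2)
    rcases h.act hn' with h1 | h1
    · exact Subgroup.mem_centralizer_iff.2 fun a ha => Subtype.ext
        (mul_inv_eq_iff_eq_mul.1 (h1 a (Subgroup.mem_subgroupOf.1 ha))).symm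
    · exact absurd (hfix.symm.trans (h1 _ hdR)) (R_ne_inv f hdR hd1)
  set K := (MonoidHom.transferSylow S hS).ker
  have hcomp : Subgroup.IsComplement' K (S : Subgroup C) :=
    MonoidHom.ker_transferSylow_isComplement' S hS
  have hidx : K.index = 9 := by
    rw [hcomp.symm.index_eq_card, show (S : Subgroup C) = (c.R : Subgroup G).subgroupOf C from rfl,
      Nat.card_congr (Subgroup.subgroupOfEquivOfLe hle).toEquiv, c.card_R]
  have hcard : Nat.card K * 9 = Nat.card C := by rw [← hidx]; exact K.card_mul_index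
  have hKm : Nat.card K ∣ c.m := by
    have h1 := Subgroup.card_subgroup_dvd_card C
    rw [← hcard, c.card_G] at h1
    exact Nat.dvd_of_mul_dvd_mul_right (by norm_num) h1
  have hiff : ∀ u : C, u ∈ K ↔ (u : G) ^ c.κ = 1 := by
    intro u
    constructor
    · intro hu
      refine orderOf_dvd_iff_pow_eq_one.1 ((Dvd.dvd.trans ?_ hKm).trans c.κ_zero)
      have h1 := orderOf_dvd_natCard (⟨u, hu⟩ : K)
      rwa [← Subgroup.orderOf_coe, ← Subgroup.orderOf_coe] at h1
    · intro hu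
      have h9 : u ^ 9 ∈ K := by
        have := K.pow_index_mem u
        rwa [hidx] at this
      obtain ⟨j, hj⟩ : ∃ j, c.κ = 9 * j + 1 := by
        refine ⟨c.κ / 9, ?_⟩
        have h1 : c.κ % 9 = 1 := c.κ_one
        omega
      have : u ^ c.κ = 1 := Subtype.ext (by simpa using hu)
      rw [hj, pow_succ, pow_mul] at this
      rw [show u = ((u ^ 9) ^ j)⁻¹ from eq_inv_of_mul_eq_one_right this]
      exact inv_mem (pow_mem h9 _)
  have hzC : E f 2 ∈ C := Subgroup.mem_centralizer_singleton_iff.2 (R_comm_z hdR).symm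
  set z : C := ⟨E f 2, hzC⟩ with hz
  have hz2 : z ^ 2 = 1 := Subtype.ext (by simpa [sq] using z_mul_self f)
  have hz1 : z ≠ 1 := fun e => z_ne_one f (congrArg Subtype.val e)
  have hoz : orderOf z = 2 := orderOf_eq_prime hz2 hz1
  set Z := Subgroup.zpowers z
  have hZ : Nat.card Z = 2 := by rw [Nat.card_zpowers, hoz]
  have hnormZ : ∀ n ∈ Subgroup.normalizer (Z : Set C), n * z = z * n := by
    intro n hn
    have h1 := (Subgroup.mem_normalizer_iff.1 hn z).1 (Subgroup.mem_zpowers z)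
    rw [mem_zpowers_iff_mem_range_orderOf, hoz] at h1
    simp only [Finset.mem_image, Finset.mem_range] at h1
    obtain ⟨m, hm, hme⟩ := h1
    interval_cases m
    · exact absurd (conj_eq_one_iff.1 (hme.symm.trans (pow_zero z))) hz1
    · exact mul_inv_eq_iff_eq_mul.1 (by simpa using hme.symm)
  have h4 : ¬ 2 ^ 2 ∣ Nat.card C := by
    intro h4
    have h1 := Sylow.prime_pow_dvd_card_normalizer (p := 2) (n := 1) h4 (H := Z)
      (by rw [hZ, pow_one])
    have h2 : (Subgroup.normalizer (Z : Set C)).map C.subtype ≤ hGroup f.γ ⊓ C := by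
      rintro _ ⟨n, hn, rfl⟩
      exact ⟨(mem_H_iff f).2 (congrArg Subtype.val (hnormZ n hn)), n.2⟩
    have h3 := Subgroup.card_dvd_of_le h2
    rw [Subgroup.card_map_of_injective (Subgroup.subtype_injective _), cent_card hd',
      Nat.eq_of_beq_eq_true (List.all_eq_true.1 cent_tT_count d hd)] at h3
    exact absurd (h1.trans h3) (by norm_num)
  have hf2 : (Nat.card C).factorization 2 = 1 := by
    refine le_antisymm (not_lt.1 fun hlt => h4 ((pow_dvd_pow 2 hlt).trans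
      (Nat.ordProj_dvd _ 2))) ?_
    exact Nat.prime_two.factorization_pos_of_dvd Nat.card_pos.ne' (hoz ▸ orderOf_dvd_natCard z)
  let T : Sylow 2 C := Sylow.ofCard Z (by rw [hZ, hf2, pow_one])
  have hT : Subgroup.normalizer ((T : Subgroup C) : Set C) ≤
      Subgroup.centralizer ((T : Subgroup C) : Set C) := by
    intro n hn
    refine Subgroup.mem_centralizer_iff.2 fun a ha => ?_
    obtain ⟨m, rfl⟩ := Subgroup.mem_zpowers_iff.1 (show a ∈ Z from ha)
    exact ((show Commute n z from hnormZ n hn).zpow_right m).eq.symm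
  set L := (MonoidHom.transferSylow T hT).ker
  have hLi : L.index = 2 := by
    rw [(MonoidHom.ker_transferSylow_isComplement' T hT).symm.index_eq_card]
    exact hZ
  have hLodd : ∀ u ∈ L, Odd (orderOf u) := fun u hu => by
    have h1 : Odd (Nat.card L) := Nat.not_even_iff_odd.1 fun he =>
      MonoidHom.not_dvd_card_ker_transferSylow T hT (even_iff_two_dvd.1 he)
    have h2 := h1.of_dvd_nat (orderOf_dvd_natCard (⟨u, hu⟩ : L))
    rwa [← Subgroup.orderOf_coe] at h2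
  have hzK : z ∈ K := (hiff z).2 (z_pow_κ h)
  have hzL : z ∉ L := fun hz' => by
    have := hLodd z hz'
    rw [hoz] at this
    exact absurd this (by decide)
  have hi18 : (K ⊓ L).index = 18 := by
    have h1 : (K ⊓ L).index ≤ K.index * L.index := Subgroup.index_inf_le
    have h2 := Subgroup.index_dvd_of_le (inf_le_left : K ⊓ L ≤ K)
    have h3 := Subgroup.index_dvd_of_le (inf_le_right : K ⊓ L ≤ L)
    rw [hidx, hLi] at h1
    rw [hidx] at h2
    rw [hLi] at h3
    have h5 : 0 < (K ⊓ L).index := Nat.pos_of_ne_zero Subgroup.index_ne_zero_of_finite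
    omega
  refine ⟨⟨K.map C.subtype, (K ⊓ L).map C.subtype, fun u => ?_, fun u => ?_, ?_,
    ⟨z, hzK, rfl⟩, ?_, ?_, ?_⟩⟩
  · constructor
    · rintro ⟨v, hv, rfl⟩
      exact ⟨Subgroup.mem_centralizer_singleton_iff.1 v.2, (hiff v).1 hv⟩
    · rintro ⟨h1, h2⟩
      exact ⟨⟨u, Subgroup.mem_centralizer_singleton_iff.2 h1⟩, (hiff _).2 h2, rfl⟩
  · constructor
    · rintro ⟨v, hv, rfl⟩
      exact ⟨⟨v, hv.1, rfl⟩, by simpa using hLodd v hv.2⟩
    · rintro ⟨⟨v, hv, rfl⟩, hodd⟩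
      refine ⟨v, ⟨hv, ?_⟩, rfl⟩
      obtain ⟨j, hj⟩ := (show Odd (orderOf v) by simpa using hodd)
      have hv2 : v ^ 2 ∈ L := by
        have := L.pow_index_mem v
        rwa [hLi] at this
      have : v = (v ^ 2) ^ (j + 1) := by
        rw [← pow_mul, show 2 * (j + 1) = orderOf v + 1 by omega, pow_succ, pow_orderOf_eq_one,
          one_mul]
      rw [this]
      exact pow_mem hv2 _
  · rw [Subgroup.card_map_of_injective (Subgroup.subtype_injective _), ← hi18, mul_comm]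
    exact Subgroup.card_mul_index _
  · rintro ⟨v, hv, e⟩
    exact hzL ((show v = z from Subtype.ext e) ▸ hv.2)
  · rintro _ ⟨v, hv, rfl⟩
    by_cases hvL : v ∈ L
    · exact Or.inl ⟨v, ⟨hv, hvL⟩, rfl⟩
    · refine Or.inr ⟨z * v, ⟨mul_mem hzK hv, ?_⟩, rfl⟩
      exact (Subgroup.mul_mem_iff_of_index_two hLi).2 (iff_of_false hzL hvL)
  · intro u hu
    have htop : (S : Subgroup C) ⊔ K = ⊤ := by rw [sup_comm]; exact hcomp.sup_eq_top
    have hm : (⟨u, Subgroup.mem_centralizer_singleton_iff.2 hu⟩ : C) ∈ (S : Subgroup C) ⊔ K :=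
      htop ▸ Subgroup.mem_top _
    obtain ⟨r, hr, k, hk, he⟩ := Subgroup.mem_sup_of_normal_right.1 hm
    exact ⟨r, Subgroup.mem_subgroupOf.1 hr, k, ⟨k, hk, rfl⟩, (congrArg Subtype.val he).symm⟩

namespace Loc

variable {h : Hyp f} {d : ℕ} (l : Loc h d)
include l

theorem O_le_K : l.O ≤ l.K := fun u hu => ((l.mem_O u).1 hu).1

theorem comm_d {u : G} (hu : u ∈ l.K) : u * E f d = E f d * u := ((l.mem_K u).1 hu).1

/-- Conjugation by an element fixing or inverting `d` keeps both subgroups. -/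
theorem conj_mem {a : G} (ha : a * E f d * a⁻¹ = E f d ∨ a * E f d * a⁻¹ = (E f d)⁻¹) :
    (∀ u ∈ l.K, a * u * a⁻¹ ∈ l.K) ∧ ∀ u ∈ l.O, a * u * a⁻¹ ∈ l.O := by
  have hK : ∀ u ∈ l.K, a * u * a⁻¹ ∈ l.K := by
    intro u hu
    obtain ⟨h1, h2⟩ := (l.mem_K u).1 hu
    refine (l.mem_K _).2 ⟨?_, by rw [conj_pow, h2, mul_one, mul_inv_cancel]⟩
    have hc : Commute (a * u * a⁻¹) (a * E f d * a⁻¹) :=
      (show Commute u (E f d) from h1).map (MulAut.conj a).toMonoidHom
    rcases ha with e | e <;> rw [e] at hc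
    · exact hc.eq
    · simpa using hc.inv_right.eq
  exact ⟨hK, fun u hu => (l.mem_O _).2
    ⟨hK u (l.O_le_K hu), by rw [orderOf_conj]; exact ((l.mem_O u).1 hu).2⟩⟩

theorem eq_one_of_mem_H (hd : d ∈ tT) {o : G} (ho : o ∈ l.O) (hH : o ∈ hGroup f.γ) : o = 1 := by
  obtain ⟨i, hi, rfl⟩ := exists_row f hH
  obtain ⟨hd', -, -⟩ := tT_data (f := f) hd
  obtain ⟨hK, hodd⟩ := (l.mem_O _).1 ho
  obtain ⟨h1, h2⟩ := (l.mem_K _).1 hK
  rw [E_pow_κ h hi] at h2
  have h3 := E_inj f (sq6_lt hi) (by norm_num) (h2.trans (E_zero f).symm)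
  have hm := List.all_eq_true.1 (List.all_eq_true.1 tT_cent i (List.mem_range.2 hi)) d hd
  simp only [(comm_iff f hi hd').2 h1, h3, Bool.true_and, Bool.or_eq_true, Nat.beq_eq,
    Bool.not_eq_true'] at hm
  rcases hm with hm | rfl | rfl
  · simp at hm
  · exact E_zero f
  · exact absurd ho l.z_not

theorem eq_one_of_comm_axis (hd : d ∈ tT) {o : G} (ho : o ∈ l.O)
    (hc : o * E f 4 = E f 4 * o) : o = 1 :=
  l.eq_one_of_mem_H hd ho (h.cent_sT (by decide) hc)

/-- Conjugation as a map of `O`. -/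
def conjO (a : G) (ha : a * E f d * a⁻¹ = E f d ∨ a * E f d * a⁻¹ = (E f d)⁻¹) : l.O →* l.O :=
  MonoidHom.mk' (fun o => ⟨a * o * a⁻¹, (l.conj_mem ha).2 o o.2⟩) fun x y =>
    Subtype.ext (by simp [mul_assoc])

theorem z_inverts (hd : d ∈ tT) :
    (∀ o ∈ l.O, E f 2 * o * (E f 2)⁻¹ = o⁻¹) ∧ (∀ a b : l.O, a * b = b * a) := by
  set φ := l.conjO (E f 2) (Or.inl (mul_inv_eq_iff_eq_mul.2
    (R_comm_z (tT_data (f := f) hd).2.1).symm))
  have h2 : Function.Involutive φ := fun o => Subtype.ext (by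
    show E f 2 * (E f 2 * o * (E f 2)⁻¹) * (E f 2)⁻¹ = (o : G)
    calc _ = (E f 2 * E f 2) * o * (E f 2 * E f 2)⁻¹ := by group
      _ = _ := by rw [z_mul_self]; group)
  have hfix : MonoidHom.FixedPointFree φ := fun o ho => Subtype.ext
    (l.eq_one_of_mem_H hd o.2 ((mem_H_iff f).2
      (mul_inv_eq_iff_eq_mul.1 (congrArg Subtype.val ho)).symm))
  exact ⟨fun o ho => congrArg Subtype.val (congrFun (hfix.coe_eq_inv_of_involutive h2) ⟨o, ho⟩),
    hfix.commute_all_of_involutive h2⟩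

theorem odd_card : Odd (Nat.card l.O) := by
  refine Nat.not_even_iff_odd.1 fun he => ?_
  haveI : Fact (Nat.Prime 2) := ⟨Nat.prime_two⟩
  obtain ⟨o, ho⟩ := exists_prime_orderOf_dvd_card' (G := l.O) 2 (even_iff_two_dvd.1 he)
  have h1 := ((l.mem_O o).1 o.2).2
  rw [Subgroup.orderOf_coe, ho] at h1
  exact absurd h1 (by decide)

/-- The set of `k` in the complement making `u k` an involution has `2√|O|` elements. -/
theorem card_J (hd : d ∈ tT) {a : G} (ha : a ∈ R f) :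
    Nat.card {k : G // k ∈ l.K ∧ E f 536 * a * k * (E f 536 * a * k) = 1} *
      Nat.card {k : G // k ∈ l.K ∧ E f 536 * a * k * (E f 536 * a * k) = 1} =
        4 * Nat.card l.O ∧
    ∀ b ∈ R f, Nat.card {k : G // k ∈ l.K ∧ E f 536 * a * k * (E f 536 * a * k) = 1} =
      Nat.card {k : G // k ∈ l.K ∧ E f 536 * b * k * (E f 536 * b * k) = 1} := by
  suffices key : ∀ a ∈ R f,
      Nat.card {k : G // k ∈ l.K ∧ E f 536 * a * k * (E f 536 * a * k) = 1} *
        Nat.card {k : G // k ∈ l.K ∧ E f 536 * a * k * (E f 536 * a * k) = 1} =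
          4 * Nat.card l.O from
    ⟨key a ha, fun b hb => Nat.mul_self_inj.1 ((key a ha).trans (key b hb).symm)⟩
  intro a ha
  obtain ⟨hn2, hnz, hninv⟩ := xW_spec (f := f)
  set n := E f 536
  obtain ⟨hd', hdR, hd1⟩ := tT_data (f := f) hd
  have hs := E_mem_R f (show 4 ∈ rS by decide)
  have mk : ∀ b ∈ R f, n * b * (n * b) = 1 ∧ (n * b) * E f 2 = E f 2 * (n * b) ∧
      (n * b) * E f d * (n * b)⁻¹ = (E f d)⁻¹ := by
    intro b hb
    refine ⟨?_, ?_, ?_⟩
    · calc n * b * (n * b) = n * b * n⁻¹ * b := by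
            rw [inv_eq_of_mul_eq_one_right hn2]; group
        _ = 1 := by rw [hninv b hb, inv_mul_cancel]
    · exact ((show Commute n (E f 2) from hnz).mul_left (R_comm_z hb)).eq
    · rw [show n * b * E f d * (n * b)⁻¹ = n * (b * E f d * b⁻¹) * n⁻¹ by group,
        mul_inv_eq_iff_eq_mul.2 ((ctx h).comm hb hdR), hninv _ hdR]
  obtain ⟨hu2, huz, hud⟩ := mk a ha
  obtain ⟨hu2', -, hud'⟩ := mk (a * E f 4) (mul_mem ha hs)
  set u := n * a
  have hui : u⁻¹ = u := inv_eq_of_mul_eq_one_right hu2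
  obtain ⟨hzinv, hcomm⟩ := l.z_inverts hd
  set φ := l.conjO u (Or.inr hud)
  set ψ := l.conjO (n * (a * E f 4)) (Or.inr hud')
  have invol : ∀ v : G, v * v = 1 → ∀ o : G, v * (v * o * v⁻¹) * v⁻¹ = o := fun v hv o => by
    calc _ = (v * v) * o * (v * v)⁻¹ := by group
      _ = _ := by rw [hv]; group
  obtain ⟨hAB, hA⟩ := card_fixed_inverted hcomm l.odd_card φ ψ
    (fun o => Subtype.ext (invol u hu2 o)) (fun o => Subtype.ext (invol _ hu2' o)) (by
      intro o h1 h2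
      have e1 : u * o * u⁻¹ = (o : G) ∨ u * o * u⁻¹ = (o : G)⁻¹ :=
        h1.imp (congrArg Subtype.val) (congrArg Subtype.val)
      have e2 : u * (E f 4 * o * (E f 4)⁻¹) * u⁻¹ = (o : G) ∨
          u * (E f 4 * o * (E f 4)⁻¹) * u⁻¹ = (o : G)⁻¹ := by
        have e := h2.imp (congrArg Subtype.val) (congrArg Subtype.val)
        simpa [φ, ψ, Loc.conjO, u, mul_assoc] using e
      have e3 : E f 4 * o * (E f 4)⁻¹ = (o : G) ∨ E f 4 * o * (E f 4)⁻¹ = (o : G)⁻¹ := by
        have e4 : E f 4 * o * (E f 4)⁻¹ = u * (u * (E f 4 * o * (E f 4)⁻¹) * u⁻¹) * u⁻¹ :=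
          (invol u hu2 _).symm
        rcases e1 with e1 | e1 <;> rcases e2 with e2 | e2 <;> rw [e2] at e4 <;>
          simp only [e1, ← conj_inv, inv_inv] at e4 <;> tauto
      refine Subtype.ext (l.eq_one_of_comm_axis hd o.2 ?_)
      have hsq : E f 4 ^ 2 * o * (E f 4 ^ 2)⁻¹ = (o : G) := by
        rcases e3 with e3 | e3
        · rw [sq, mul_inv_rev]
          calc _ = E f 4 * (E f 4 * o * (E f 4)⁻¹) * (E f 4)⁻¹ := by group
            _ = _ := by rw [e3, e3]
        · rw [sq, mul_inv_rev]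
          calc _ = E f 4 * (E f 4 * o * (E f 4)⁻¹) * (E f 4)⁻¹ := by group
            _ = E f 4 * (o : G)⁻¹ * (E f 4)⁻¹ := by rw [e3]
            _ = (E f 4 * o * (E f 4)⁻¹)⁻¹ := by group
            _ = _ := by rw [e3, inv_inv]
      have hc : Commute (E f 4 ^ 2) (o : G) := mul_inv_eq_iff_eq_mul.1 hsq
      have := hc.pow_left 2
      rw [← pow_mul, show 2 * 2 = 3 + 1 from rfl, pow_succ, cube_R f hs, one_mul] at this
      exact this.eq.symm)
  rw [show 4 * Nat.card l.O = (2 * Nat.card {o : l.O // φ o = o}) *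
    (2 * Nat.card {o : l.O // φ o = o}) by rw [← hA]; ring]
  suffices hJ : Nat.card {k : G // k ∈ l.K ∧ u * k * (u * k) = 1} =
      Nat.card {o : l.O // φ o = o} + Nat.card {o : l.O // φ o = o⁻¹} by
    rw [hJ, ← hAB]; ring
  rw [← Nat.card_sum]
  have key : ∀ o : l.O, u * (E f 2 * o) * (u * (E f 2 * o)) = 1 ↔ φ o = o := by
    intro o
    have hz' : E f 2 * o * E f 2 = (o : G)⁻¹ := by
      have := hzinv o o.2
      rwa [z_inv] at this
    have e : u * (E f 2 * o) * (u * (E f 2 * o)) = u * (o : G)⁻¹ * u⁻¹ * o := by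
      calc _ = u * (E f 2 * o * (u * E f 2)) * o := by group
        _ = u * (E f 2 * o * E f 2 * u) * o := by rw [huz]; group
        _ = _ := by rw [hz', hui]; group
    rw [e, show u * (o : G)⁻¹ * u⁻¹ = (u * o * u⁻¹)⁻¹ by group, inv_mul_eq_one]
    exact ⟨fun e => Subtype.ext e, congrArg Subtype.val⟩
  have key' : ∀ o : l.O, u * o * (u * o) = 1 ↔ φ o = o⁻¹ := by
    intro o
    rw [show u * o * (u * (o : G)) = (u * o * u⁻¹) * o by rw [hui]; group,
      mul_eq_one_iff_eq_inv]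
    exact ⟨fun e => Subtype.ext e, congrArg Subtype.val⟩
  symm
  refine Nat.card_eq_of_bijective (Sum.elim
    (fun o => ⟨E f 2 * o.1, mul_mem l.z_mem (l.O_le_K o.1.2), (key o.1).2 o.2⟩)
    (fun o => ⟨o.1, l.O_le_K o.1.2, (key' o.1).2 o.2⟩)) ⟨?_, ?_⟩
  · have hne : ∀ a b : l.O, E f 2 * a ≠ (b : G) := fun a b e => l.z_not (by
      rw [show E f 2 = (b : G) * (a : G)⁻¹ by rw [← e]; group]
      exact mul_mem b.2 (inv_mem a.2))
    rintro (x | x) (y | y) e <;> simp only [Sum.elim_inl, Sum.elim_inr, Subtype.mk.injEq] at e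
    · exact congrArg Sum.inl (Subtype.ext (Subtype.ext (mul_left_cancel e)))
    · exact absurd e (hne _ _)
    · exact absurd e.symm (hne _ _)
    · exact congrArg Sum.inr (Subtype.ext (Subtype.ext e))
  · rintro ⟨k, hk, hsq⟩
    rcases l.split k hk with ho | ho
    · exact ⟨Sum.inr ⟨⟨k, ho⟩, (key' ⟨k, ho⟩).1 hsq⟩, rfl⟩
    · have hkz : E f 2 * (E f 2 * k) = k := by rw [← mul_assoc, z_mul_self, one_mul]
      exact ⟨Sum.inl ⟨⟨E f 2 * k, ho⟩, (key ⟨_, ho⟩).1 (by simpa only [hkz] using hsq)⟩,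
        Subtype.ext hkz⟩

end Loc

theorem pairsCard_diag (h : Hyp f) {d : ℕ} (hd : d ∈ tT) :
    pairsCard h (E f d) = 2 * Nat.card (Subgroup.centralizer ({E f d} : Set G)) := by
  classical
  obtain ⟨l⟩ := exists_loc h hd
  obtain ⟨hd', hdR, hd1⟩ := tT_data (f := f) hd
  obtain ⟨hn2, hnz, hninv⟩ := xW_spec (f := f)
  set n := E f 536
  set c := ctx h with hc
  haveI : Fintype (R f) := Fintype.ofFinite _
  have hud : ∀ a ∈ R f, n * a * E f d * (n * a)⁻¹ = (E f d)⁻¹ := fun a ha => by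
    rw [show n * a * E f d * (n * a)⁻¹ = n * (a * E f d * a⁻¹) * n⁻¹ by group,
      mul_inv_eq_iff_eq_mul.2 (c.comm ha hdR), hninv _ hdR]
  have hu2 : ∀ a ∈ R f, n * a * (n * a) = 1 := fun a ha => by
    calc n * a * (n * a) = n * a * n⁻¹ * a := by rw [inv_eq_of_mul_eq_one_right hn2]; group
      _ = 1 := by rw [hninv a ha, inv_mul_cancel]
  have h9 : ∀ {a : G}, a ∈ R f → a ^ 9 = 1 := fun {a} ha => by
    rw [show 9 = 3 * 3 from rfl, pow_mul, cube_R f ha, one_pow]
  have hprod : ∀ a ∈ R f, ∀ b ∈ R f, ∀ k ∈ l.K, ∀ k' ∈ l.K,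
      (n * a * k * (n * b * k')) ^ c.κ = E f d ↔ b = a * E f d := by
    intro a ha b hb k hk k' hk'
    have hk2 : n * b * k * (n * b)⁻¹ * k' ∈ l.K :=
      mul_mem ((l.conj_mem (Or.inr (hud b hb))).1 k hk) hk'
    set k'' := n * b * k * (n * b)⁻¹ * k' with hk''
    have hab2 : n * a * (n * b) = a⁻¹ * b := by
      calc n * a * (n * b) = n * a * n⁻¹ * (n * n) * b := by group
        _ = _ := by rw [hninv a ha, hn2, mul_one]
    have e : n * a * k * (n * b * k') = a⁻¹ * b * k'' := by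
      rw [← hab2, hk'', inv_eq_of_mul_eq_one_right (hu2 b hb)]
      calc n * a * k * (n * b * k') = n * a * 1 * k * (n * b * k') := by group
        _ = n * a * (n * b * (n * b)) * k * (n * b * k') := by rw [hu2 b hb]
        _ = _ := by group
    rw [e]
    have hab : a⁻¹ * b ∈ R f := mul_mem (inv_mem ha) hb
    have hcd : Commute (a⁻¹ * b) (E f d) := c.comm hab hdR
    obtain ⟨hk2c, hk2κ⟩ := (l.mem_K _).1 hk2
    constructor
    · intro he
      have hx : (E f d)⁻¹ * (a⁻¹ * b) * k'' ∈ l.K := by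
        refine (l.mem_K _).2 ⟨?_, ?_⟩
        · exact ((((Commute.refl (E f d)).inv_left).mul_left hcd).mul_left hk2c).eq
        · rw [mul_assoc, ((hcd.symm.inv_left).mul_right
            ((show Commute k'' (E f d) from hk2c).symm.inv_left)).mul_pow, he, inv_pow,
            c.pow_κ_of_nine (h9 hdR), inv_mul_cancel]
      have hr : (E f d)⁻¹ * (a⁻¹ * b) ∈ l.K := by
        simpa using mul_mem hx (inv_mem hk2)
      have h1 := ((l.mem_K _).1 hr).2
      rw [c.pow_κ_of_nine (h9 (mul_mem (inv_mem hdR) hab)), inv_mul_eq_one] at h1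
      rw [h1]
      group
    · intro hb'
      rw [show a⁻¹ * b = E f d by rw [hb']; group,
        (show Commute (E f d) k'' from hk2c.symm).mul_pow, c.pow_κ_of_nine (h9 hdR), hk2κ, mul_one]
  let J : G → Type _ := fun a => {k : G // k ∈ l.K ∧ n * a * k * (n * a * k) = 1}
  have hne1 : ∀ a ∈ R f, ∀ k ∈ l.K, n * a * k ≠ 1 := by
    intro a ha k hk e
    have h1 := hud a ha
    rw [eq_inv_of_mul_eq_one_left e, inv_inv] at h1
    have h2 : k⁻¹ * E f d * k = E f d := by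
      rw [mul_assoc, ← l.comm_d hk, inv_mul_cancel_left]
    exact R_ne_inv f hdR hd1 (h2.symm.trans h1)
  have hcardJ : Nat.card (Σ a : R f, J a × J ((a : G) * E f d)) = 36 * Nat.card l.O := by
    rw [Nat.card_sigma, Finset.sum_congr rfl fun (a : R f) _ => show
      Nat.card (J a × J ((a : G) * E f d)) = 4 * Nat.card l.O by
        rw [Nat.card_prod, ← (l.card_J hd a.2).2 _ (mul_mem a.2 hdR)]
        exact (l.card_J hd a.2).1,
      Finset.sum_const, Finset.card_univ, ← Nat.card_eq_fintype_card, card_R, smul_eq_mul]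
    ring
  rw [← l.card, show 2 * (18 * Nat.card l.O) = 36 * Nat.card l.O by ring, ← hcardJ]
  symm
  refine Nat.card_eq_of_bijective (fun p => ⟨(n * p.1 * p.2.1.1, n * (p.1 * E f d) * p.2.2.1),
    ⟨hne1 _ p.1.2 _ p.2.1.2.1, p.2.1.2.2⟩,
    ⟨hne1 _ (mul_mem p.1.2 hdR) _ p.2.2.2.1, p.2.2.2.2⟩,
    (hprod _ p.1.2 _ (mul_mem p.1.2 hdR) _ p.2.1.2.1 _ p.2.2.2.1).2 rfl⟩) ⟨?_, ?_⟩
  · rintro ⟨⟨a, ha⟩, ⟨k, hk, hk1⟩, ⟨k', hk', hk1'⟩⟩ ⟨⟨b, hb⟩, ⟨j, hj, hj1⟩, ⟨j', hj', hj1'⟩⟩ e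
    simp only [Subtype.mk.injEq, Prod.mk.injEq] at e
    have hab : a⁻¹ * b ∈ l.K := by
      have : a⁻¹ * b = k * j⁻¹ := by
        have := congrArg (fun x => a⁻¹ * n⁻¹ * x * j⁻¹) e.1
        simpa [mul_assoc] using this.symm
      rw [this]
      exact mul_mem hk (inv_mem hj)
    have h1 := ((l.mem_K _).1 hab).2
    rw [c.pow_κ_of_nine (h9 (mul_mem (inv_mem ha) hb)), inv_mul_eq_one] at h1
    subst h1
    obtain rfl := mul_left_cancel e.1
    obtain rfl := mul_left_cancel e.2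
    rfl
  · rintro ⟨⟨v, w⟩, ⟨hv1, hv2⟩, ⟨hw1, hw2⟩, he⟩
    obtain ⟨hvk, hwk⟩ := inverts_of_prod hv2 hw2 he
    have key : ∀ x : G, x * E f d * x⁻¹ = (E f d)⁻¹ →
        ∃ a ∈ R f, ∃ k ∈ l.K, x = n * a * k := by
      intro x hx
      obtain ⟨r, hr, k, hk, hxr⟩ := l.decomp (n⁻¹ * x) (by
        have h1 : n⁻¹ * (E f d)⁻¹ * n = E f d := by
          rw [← hninv _ hdR]; group
        calc n⁻¹ * x * E f d = n⁻¹ * (x * E f d * x⁻¹) * x := by group
          _ = n⁻¹ * (E f d)⁻¹ * n * (n⁻¹ * x) := by rw [hx]; group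
          _ = _ := by rw [h1])
      exact ⟨r, hr, k, hk, by rw [mul_assoc, ← hxr, mul_inv_cancel_left]⟩
    obtain ⟨a, ha, k, hk, rfl⟩ := key v hvk
    obtain ⟨b, hb, k', hk', rfl⟩ := key w hwk
    obtain rfl := (hprod a ha b hb k hk k' hk').1 he
    exact ⟨⟨⟨a, ha⟩, ⟨k, hk, hv2⟩, ⟨k', hk', hw2⟩⟩, rfl⟩

theorem pairsCard_eq (h : Hyp f) {k : G} (hk : k ∈ R f) (hk1 : k ≠ 1) :
    pairsCard h k = 2 * Nat.card (Subgroup.centralizer ({k} : Set G)) := by
  obtain ⟨d, hd, rfl⟩ := hk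
  rcases rS_cases hd with rfl | hd' | hd'
  · exact absurd (E_zero f) hk1
  · exact pairsCard_axis h hd'
  · exact pairsCard_diag h hd'

end CfsgLib.G2Rec.Escape
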