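import Cfsg.Agent.G2Rec.HTable

/-!
Facts about the 576 rows of the centralizer of `z` used to show that some centralizer of an
element of order three leaves it.
-/

set_option autoImplicit false
set_option maxRecDepth 20000

namespace CfsgLib.G2Rec.Escape

open CfsgLib.UFourType (Tab invW)

/-- The product of two rows. -/
def mulR (i j : ℕ) : ℕ := hT.walk i (hWord j)

/-- The inverse of a row. -/
def invR (i : ℕ) : ℕ := idx (invW (hWord i))

/-- The conjugate of a row. -/
def conjR (i j : ℕ) : ℕ := mulR (mulR i j) (invR i)

/-- Two rows commute. -/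
def commB (i j : ℕ) : Bool := Nat.beq (mulR i j) (mulR j i)

/-- The square of a row. -/
def sqR (i : ℕ) : ℕ := mulR i i

/-- The 64th power of a row. -/
def sq6 (i : ℕ) : ℕ := sqR (sqR (sqR (sqR (sqR (sqR i)))))

/-- The ninth power of a row. -/
def nineR (i : ℕ) : ℕ :=
  let c := mulR i (mulR i i)
  mulR c (mulR c c)

/-- The subgroup generated by the elements of order three. -/
def rS : List ℕ := [0, 4, 5, 6, 7, 12, 53, 58, 59]

/-- The elements of the two axes. -/
def sT : List ℕ := [4, 5, 6, 7]

/-- The diagonal elements. -/
def tT : List ℕ := [12, 53, 58, 59]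

/-- The rows of the involutions. -/
def invols : List ℕ := [
  2, 9, 32, 39, 46, 89, 90, 94, 95, 98, 103, 107, 111, 112, 115, 116, 120, 125, 130, 136, 139,
  142, 144, 149, 152, 155, 157, 164, 169, 291, 318, 349, 374, 438, 439, 456, 459, 460, 462, 470,
  471, 472, 475, 476, 477, 478, 479, 480, 481, 484, 486, 488, 489, 490, 491, 494, 495, 498, 499,
  500, 501, 502, 503, 515, 516, 521, 522, 523, 524, 536, 537, 554, 555, 556, 557, 558, 559, 560,
  561, 562, 565, 566, 567, 568, 569, 570, 571, 572, 573, 574, 575]

/-- For each involution a class representative and a conjugating row. -/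
def classW : List (ℕ × ℕ × ℕ) := [
  (2, 2, 0), (9, 9, 0), (32, 574, 85), (39, 9, 14), (46, 574, 264), (89, 9, 4), (90, 9, 16),
  (94, 9, 36), (95, 9, 5), (98, 574, 182), (103, 574, 125), (107, 574, 79), (111, 9, 6),
  (112, 9, 21), (115, 9, 38), (116, 9, 7), (120, 574, 176), (125, 574, 103), (130, 574, 74),
  (136, 574, 227), (139, 574, 62), (142, 574, 228), (144, 574, 75), (149, 574, 210),
  (152, 574, 54), (155, 574, 211), (157, 574, 80), (164, 574, 218), (169, 574, 207),
  (291, 574, 69), (318, 574, 38), (349, 574, 67), (374, 574, 36), (438, 9, 12), (439, 9, 41),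
  (456, 574, 12), (459, 574, 53), (460, 574, 87), (462, 574, 98), (470, 574, 58),
  (471, 574, 108), (472, 574, 101), (475, 574, 59), (476, 574, 135), (477, 574, 107),
  (478, 574, 88), (479, 574, 102), (480, 574, 106), (481, 574, 32), (484, 574, 41),
  (486, 574, 118), (488, 574, 119), (489, 574, 114), (490, 574, 33), (491, 574, 37),
  (494, 574, 65), (495, 574, 96), (498, 574, 97), (499, 574, 92), (500, 574, 35), (501, 574, 64),
  (502, 574, 60), (503, 574, 172), (515, 9, 53), (516, 9, 75), (521, 9, 74), (522, 9, 54),
  (523, 9, 176), (524, 9, 59), (536, 574, 81), (537, 574, 113), (554, 574, 91), (555, 574, 223),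
  (556, 574, 6), (557, 574, 4), (558, 574, 11), (559, 574, 7), (560, 574, 28), (561, 574, 21),
  (562, 574, 10), (565, 574, 22), (566, 574, 5), (567, 574, 24), (568, 574, 16), (569, 574, 17),
  (570, 574, 20), (571, 574, 19), (572, 574, 15), (573, 574, 14), (574, 574, 0), (575, 574, 1)]

theorem idx_z : idx zW = 2 := by decide +kernel

theorem idx_s : idx [4] = 4 := by decide +kernel

theorem idx_q : idx [6] = 6 := by decide +kernel

theorem idx_e1 : idx e1W = 9 := by decide +kernel

theorem idx_ie2 : idx ([0] ++ e2W) = 522 := by decide +kernel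

theorem idx_xte2 : idx ([8, 4, 6] ++ e2W) = 574 := by decide +kernel

theorem rS_lt : rS.all (fun a => Nat.blt a 576) = true := by decide +kernel

theorem rS_closed : rS.all (fun a => rS.contains (invR a) && (Nat.beq (sq6 a) a &&
    (Nat.beq (mulR a (mulR a a)) 0 &&
      rS.all (fun b => rS.contains (mulR a b) && commB a b)))) = true := by
  decide +kernel

theorem only_z : sT.all (fun d => invols.all (fun j => !(commB j d) || Nat.beq j 2)) = true := by
  decide +kernel

theorem norm_act : (List.range 576).all (fun i =>
    !(rS.contains (conjR i 4) && rS.contains (conjR i 6)) ||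
      (rS.all (fun j => Nat.beq (conjR i j) j) ||
        rS.all (fun j => Nat.beq (conjR i j) (invR j)))) = true := by
  decide +kernel

theorem norm_nine : (List.range 576).all (fun i =>
    !(rS.contains (conjR i 4) && (rS.contains (conjR i 6) && Nat.beq (nineR i) 0)) ||
      rS.contains i) = true := by
  decide +kernel

theorem xW_row : (Nat.beq (mulR 536 536) 0 && (commB 536 2 &&
    rS.all (fun a => Nat.beq (conjR 536 a) (invR a)))) = true := by
  decide +kernel

theorem tT_cent : (List.range 576).all (fun i => tT.all (fun d =>
    !(commB i d && Nat.beq (sq6 i) 0) || (Nat.beq i 0 || Nat.beq i 2))) = true := by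
  decide +kernel

theorem invols_eq :
    (List.range 576).filter (fun i => !(Nat.beq i 0) && Nat.beq (mulR i i) 0) = invols := by
  decide +kernel

theorem classW_fst : classW.map Prod.fst = invols := by decide +kernel

theorem classW_ok : classW.all (fun t => Nat.blt t.2.2 576 &&
    (([2, 9, 574] : List ℕ).contains t.2.1 &&
      Nat.beq (mulR t.2.2 t.2.1) (mulR t.1 t.2.2))) = true := by
  decide +kernel

theorem ie2_class : mulR 54 9 = mulR 522 54 := by decide +kernel

/-- Pairs of involutions whose product has the given part of order three. -/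
def pairsR (d : ℕ) : List (ℕ × ℕ) :=
  (invols.product invols).filter fun p => Nat.beq (sq6 (mulR p.1 p.2)) d

theorem pairs_count : sT.all (fun d => Nat.beq (pairsR d).length 144) = true := by decide +kernel

theorem invols_nodup : invols.Nodup := by decide +kernel

end CfsgLib.G2Rec.Escape
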