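import Cfsg.Agent.G2Rec.FrameMove
import Cfsg.Agent.UFourType.Core
import Cfsg.Prelude.Def_Solvable

/-!
Generators satisfying the relators from the hypotheses of the recognition of `G₂(3)`.
-/

set_option autoImplicit false
set_option linter.style.haveILetI false

namespace CfsgLib.G2Rec

open CfsgLib.CosetEnum CfsgLib.UFourType.Frame

variable {G : Type*} [Group G]

/-- An element commuting with a copy of `SL(2, 3)` inside it. -/
theorem mem_center_cases (ψ : SL →* G) (hψ : Function.Injective ψ) {x : G}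
    (hx : x ∈ ψ.range) (hc : ∀ a, x * ψ a = ψ a * x) : x = 1 ∨ x = ψ N := by
  obtain ⟨c, rfl⟩ := MonoidHom.mem_range.1 hx
  rcases center_SL c (fun a => hψ (by rw [map_mul, map_mul]; exact hc a)) with rfl | rfl
  · exact Or.inl (map_one ψ)
  · exact Or.inr rfl

/-- The second local subgroup acts on its four group as its full linear group. -/
theorem faithful_core [Finite G] (M H : Subgroup G) [(Cfsg.pCore 2 ↥M).Normal]
    (hM : Nonempty ((↥M ⧸ Cfsg.pCore 2 ↥M) ≃* Matrix.SpecialLinearGroup (Fin 3) (ZMod 2)))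
    (hE : IsMulCommutative (Cfsg.pCore 2 ↥M)) (hcard : Nat.card ↥(Cfsg.pCore 2 ↥M) = 8) {z : G}
    (hz : z ∈ (Cfsg.pCore 2 ↥M).map M.subtype) (hH : H = Subgroup.centralizer ({z} : Set G))
    (hHc : Nat.card H = 576) :
    (∀ m ∈ M, (∀ e ∈ (Cfsg.pCore 2 ↥M).map M.subtype, m * e = e * m) →
      m ∈ (Cfsg.pCore 2 ↥M).map M.subtype) ∧ Nat.card M = 1344 := by
  obtain ⟨e⟩ := hM
  set O := Cfsg.pCore 2 ↥M with hO
  have hcM : Nat.card M = 1344 := by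
    rw [Subgroup.card_eq_card_quotient_mul_card_subgroup O, Nat.card_congr e.toEquiv, card_SL32,
      hcard]
  refine ⟨?_, hcM⟩
  set C : Subgroup M := Subgroup.centralizer (O : Set M) with hC
  haveI : C.Normal := inferInstance
  haveI hs := isSimple_SL32
  set f : M →* Matrix.SpecialLinearGroup (Fin 3) (ZMod 2) :=
    e.toMonoidHom.comp (QuotientGroup.mk' O) with hf
  have hfsurj : Function.Surjective f := e.surjective.comp (QuotientGroup.mk'_surjective O)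
  have hfker : f.ker = O := by
    ext x
    rw [MonoidHom.mem_ker, hf, MonoidHom.comp_apply]
    exact e.map_eq_one_iff.trans (QuotientGroup.eq_one_iff x)
  have hOC : O ≤ C := fun x hx => Subgroup.mem_centralizer_iff.2 fun y hy =>
    congrArg Subtype.val (hE.is_comm.comm (⟨y, hy⟩ : O) ⟨x, hx⟩)
  rcases (Subgroup.Normal.map inferInstance f hfsurj : (C.map f).Normal).eq_bot_or_eq_top with h | h
  · intro m hm hfix
    refine ⟨⟨m, hm⟩, ?_, rfl⟩
    show (⟨m, hm⟩ : M) ∈ O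
    rw [← hfker, MonoidHom.mem_ker, ← Subgroup.mem_bot, ← h]
    exact ⟨_, Subgroup.mem_centralizer_iff.2 fun y hy =>
      Subtype.ext (hfix y ⟨y, hy, rfl⟩).symm, rfl⟩
  · exfalso
    have hCtop : C = ⊤ := by
      refine eq_top_iff.2 fun x _ => ?_
      obtain ⟨c, hc, hcx⟩ : f x ∈ C.map f := h ▸ Subgroup.mem_top _
      have : c⁻¹ * x ∈ O := by rw [← hfker, MonoidHom.mem_ker, map_mul, map_inv, hcx, inv_mul_cancel]
      simpa using C.mul_mem hc (hOC this)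
    obtain ⟨z', hz', rfl⟩ := hz
    have hle : M ≤ H := fun m hm => by
      rw [hH, Subgroup.mem_centralizer_singleton_iff]
      have := Subgroup.mem_centralizer_iff.1 (hCtop ▸ Subgroup.mem_top (⟨m, hm⟩ : M) : _ ∈ C) z' hz'
      exact (congrArg Subtype.val this).symm
    have := Subgroup.card_dvd_of_le hle
    rw [hcM, hHc] at this
    norm_num at this

/-- The hypotheses give the two local subgroups in the form used here. -/
theorem exists_loc [Finite G] (H H₁ H₂ M : Subgroup G) (h1 : H₁ ≤ H) (h2 : H₂ ≤ H)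
    (hn1 : (H₁.subgroupOf H).Normal) (hn2 : (H₂.subgroupOf H).Normal)
    (hiso1 : Nonempty (↥H₁ ≃* Matrix.SpecialLinearGroup (Fin 2) (ZMod 3)))
    (hiso2 : Nonempty (↥H₂ ≃* Matrix.SpecialLinearGroup (Fin 2) (ZMod 3)))
    (hidx : (H₁ ⊔ H₂).relIndex H = 2)
    (hint1 : H₁ ⊓ H₂ = H₁ ⊓ Subgroup.centralizer (H₁ : Set G))
    (hint2 : H₁ ⊓ H₂ = H₂ ⊓ Subgroup.centralizer (H₂ : Set G))
    (hHC : H = Subgroup.centralizer ((H₁ ⊓ H₂ : Subgroup G) : Set G))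
    [(Cfsg.pCore 2 ↥M).Normal]
    (hM : Nonempty ((↥M ⧸ Cfsg.pCore 2 ↥M) ≃* Matrix.SpecialLinearGroup (Fin 3) (ZMod 2)))
    (hOel : Cfsg.IsElementaryAbelian 2 (Cfsg.pCore 2 ↥M))
    (hOcard : Nat.card ↥(Cfsg.pCore 2 ↥M) = 8)
    (hZin : H₁ ⊓ H₂ ≤ (Cfsg.pCore 2 ↥M).map M.subtype) :
    ∃ L : Loc G, L.H = H ∧ (∀ a, L.φ (a, 1) ∈ H₁) ∧ (∀ a, L.φ (1, a) ∈ H₂) ∧
      H₁ ⊓ H₂ = Subgroup.zpowers L.z := by
  obtain ⟨d₁⟩ := hiso1
  obtain ⟨d₂⟩ := hiso2
  let ψ₁ : SL →* G := H₁.subtype.comp d₁.symm.toMonoidHom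
  let ψ₂ : SL →* G := H₂.subtype.comp d₂.symm.toMonoidHom
  have inj₁ : Function.Injective ψ₁ := H₁.subtype_injective.comp d₁.symm.injective
  have inj₂ : Function.Injective ψ₂ := H₂.subtype_injective.comp d₂.symm.injective
  have m₁ : ∀ a, ψ₁ a ∈ H₁ := fun a => (d₁.symm a).2
  have m₂ : ∀ a, ψ₂ a ∈ H₂ := fun a => (d₂.symm a).2
  have r₁ : ∀ x ∈ H₁, ∃ a, ψ₁ a = x := fun x hx =>
    ⟨d₁ ⟨x, hx⟩, congrArg Subtype.val (d₁.symm_apply_apply ⟨x, hx⟩)⟩
  have r₂ : ∀ x ∈ H₂, ∃ a, ψ₂ a = x := fun x hx =>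
    ⟨d₂ ⟨x, hx⟩, congrArg Subtype.val (d₂.symm_apply_apply ⟨x, hx⟩)⟩
  set z := ψ₁ N with hzdef
  have hzne : z ≠ 1 := fun e => N_ne_one (inj₁ (e.trans (map_one ψ₁).symm))
  have hzI : z ∈ H₁ ⊓ H₂ := by
    rw [hint1]
    refine ⟨m₁ N, Subgroup.mem_centralizer_iff.2 fun y hy => ?_⟩
    obtain ⟨a, rfl⟩ := r₁ y hy
    rw [hzdef, ← map_mul, ← map_mul, N_central]
  have hN₂ : ψ₂ N = z := by
    have hzI' := hint2 ▸ hzI
    obtain ⟨a, ha⟩ := r₂ z hzI'.1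
    rcases mem_center_cases ψ₂ inj₂ ⟨a, ha⟩ (fun b =>
      (Subgroup.mem_centralizer_iff.1 hzI'.2 _ (m₂ b)).symm) with h | h
    · exact absurd h hzne
    · exact h.symm
  have hI : ∀ x, x ∈ H₁ ⊓ H₂ → x = 1 ∨ x = z := by
    intro x hx
    rw [hint1] at hx
    obtain ⟨a, ha⟩ := r₁ x hx.1
    exact mem_center_cases ψ₁ inj₁ ⟨a, ha⟩ fun b =>
      (Subgroup.mem_centralizer_iff.1 hx.2 _ (m₁ b)).symm
  have hzz : z * z = 1 := by rw [hzdef, ← map_mul, N_mul_self, map_one]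
  have hH : H = Subgroup.centralizer ({z} : Set G) := by
    rw [hHC]
    refine le_antisymm (Subgroup.centralizer_le (by simpa using hzI)) fun h hh => ?_
    refine Subgroup.mem_centralizer_iff.2 fun y hy => ?_
    rcases hI y hy with rfl | rfl
    · rw [one_mul, mul_one]
    · exact (Subgroup.mem_centralizer_singleton_iff.1 hh).symm
  have n₁ : ∀ h ∈ H, ∀ x ∈ H₁, h * x * h⁻¹ ∈ H₁ := fun h hh x hx =>
    Subgroup.mem_subgroupOf.1 (hn1.conj_mem ⟨x, h1 hx⟩ (Subgroup.mem_subgroupOf.2 hx) ⟨h, hh⟩)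
  have n₂ : ∀ h ∈ H, ∀ x ∈ H₂, h * x * h⁻¹ ∈ H₂ := fun h hh x hx =>
    Subgroup.mem_subgroupOf.1 (hn2.conj_mem ⟨x, h2 hx⟩ (Subgroup.mem_subgroupOf.2 hx) ⟨h, hh⟩)
  have hcomm : ∀ a b, Commute (ψ₁ a) (ψ₂ b) := by
    refine commute_of_meet ψ₁ ψ₂ hzz (fun a b => hI _ ⟨?_, ?_⟩) fun a =>
      Subgroup.mem_centralizer_singleton_iff.1 (hH ▸ h1 (m₁ a))
    · rw [show ψ₁ a * ψ₂ b * (ψ₁ a)⁻¹ * (ψ₂ b)⁻¹ = ψ₁ a * (ψ₂ b * (ψ₁ a)⁻¹ * (ψ₂ b)⁻¹) by group]
      exact H₁.mul_mem (m₁ a) (n₁ _ (h2 (m₂ b)) _ (H₁.inv_mem (m₁ a)))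
    · exact H₂.mul_mem (n₂ _ (h1 (m₁ a)) _ (m₂ b)) (H₂.inv_mem (m₂ b))
  let φ : SL × SL →* G := ψ₁.noncommCoprod ψ₂ hcomm
  have hφ : ∀ p, φ p = ψ₁ p.1 * ψ₂ p.2 := fun p => rfl
  have hker : ∀ p, φ p = 1 → p = 1 ∨ p = (N, N) := by
    intro p hp
    have e : ψ₁ p.1 = (ψ₂ p.2)⁻¹ := eq_inv_of_mul_eq_one_left hp
    rcases hI (ψ₁ p.1) ⟨m₁ _, e ▸ H₂.inv_mem (m₂ _)⟩ with h | h
    · refine Or.inl (Prod.ext (inj₁ (h.trans (map_one ψ₁).symm)) (inj₂ ?_))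
      rw [Prod.snd_one, map_one, ← inv_eq_one, ← e, h]
    · refine Or.inr (Prod.ext (inj₁ h) (inj₂ ?_))
      rw [hN₂, ← inv_inj, ← e, h, inv_eq_of_mul_eq_one_right hzz]
  have hrange : φ.range = H₁ ⊔ H₂ := by
    refine le_antisymm ?_ (sup_le (fun x hx => ?_) fun x hx => ?_)
    · rintro _ ⟨p, rfl⟩
      exact mul_mem (Subgroup.mem_sup_left (m₁ p.1)) (Subgroup.mem_sup_right (m₂ p.2))
    · obtain ⟨a, rfl⟩ := r₁ x hx
      exact ⟨(a, 1), by rw [hφ, map_one, mul_one]⟩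
    · obtain ⟨a, rfl⟩ := r₂ x hx
      exact ⟨(1, a), by rw [hφ, map_one, one_mul]⟩
  have hle : φ.range ≤ H := hrange ▸ sup_le h1 h2
  have hcK : Nat.card φ.range = 288 := by
    have hk : Nat.card φ.ker = 2 := by
      let g : Bool → φ.ker := fun b => bif b then ⟨(N, N), by
        rw [MonoidHom.mem_ker, hφ, hN₂, ← hzdef, hzz]⟩ else 1
      have hg : Function.Bijective g := by
        constructor
        · intro b c e
          have e' := congrArg (fun x : φ.ker => (x : SL × SL).1) e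
          cases b <;> cases c <;> first
            | rfl
            | exact absurd e' N_ne_one
            | exact absurd e'.symm N_ne_one
        · rintro ⟨p, hp⟩
          rcases hker p (MonoidHom.mem_ker.1 hp) with rfl | rfl
          · exact ⟨false, rfl⟩
          · exact ⟨true, rfl⟩
      rw [← Nat.card_eq_of_bijective g hg, Nat.card_eq_fintype_card, Fintype.card_bool]
    have h := Subgroup.card_eq_card_quotient_mul_card_subgroup φ.ker
    rw [Nat.card_congr (QuotientGroup.quotientKerEquivRange φ).toEquiv, hk, Nat.card_prod,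
      card_SL] at h
    omega
  have hidx' : (φ.range.subgroupOf H).index = 2 := hrange ▸ hidx
  have hcH : Nat.card H = 576 := by
    rw [← Subgroup.card_mul_index (φ.range.subgroupOf H), hidx',
      Nat.card_congr (Subgroup.subgroupOfEquivOfLe hle).toEquiv, hcK]
  have hzE : z ∈ (Cfsg.pCore 2 ↥M).map M.subtype := hZin hzI
  obtain ⟨hcent, hcM⟩ := faithful_core M H hM hOel.1 hOcard hzE hH hcH
  refine ⟨{
    z := z
    H := H
    M := M
    E := (Cfsg.pCore 2 ↥M).map M.subtype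
    φ := φ
    H_eq := hH
    z_ne := hzne
    zz := hzz
    N_left := by rw [hφ, map_one, mul_one]
    N_right := by rw [hφ, map_one, one_mul, hN₂]
    ker := hker
    mem_H := fun p => hle ⟨p, rfl⟩
    norm1 := fun h hh a => by
      obtain ⟨b, hb⟩ := r₁ _ (n₁ h hh _ (m₁ a))
      exact ⟨b, by rw [hφ, hφ, map_one, mul_one, mul_one]; exact hb.symm⟩
    norm2 := fun h hh a => by
      obtain ⟨b, hb⟩ := r₂ _ (n₂ h hh _ (m₂ a))
      exact ⟨b, by rw [hφ, hφ, map_one, one_mul, one_mul]; exact hb.symm⟩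
    card_H := hcH
    index_two := fun x hx y hy => by
      have := Subgroup.mul_mem_iff_of_index_two hidx' (a := ⟨x, hx⟩) (b := ⟨y, hy⟩)
      simpa [Subgroup.mem_subgroupOf] using this
    E_le := Subgroup.map_subtype_le _
    E_norm := fun m hm e he => by
      obtain ⟨e', he', rfl⟩ := he
      exact ⟨_, Subgroup.Normal.conj_mem inferInstance e' he' ⟨m, hm⟩, rfl⟩
    E_comm := fun a ha b hb => by
      obtain ⟨a', ha', rfl⟩ := ha
      obtain ⟨b', hb', rfl⟩ := hb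
      exact congrArg Subtype.val (congrArg Subtype.val (hOel.1.is_comm.comm (⟨a', ha'⟩ : Cfsg.pCore 2 ↥M) ⟨b', hb'⟩))
    E_sq := fun a ha => by
      obtain ⟨a', ha', rfl⟩ := ha
      rw [← map_mul, ← pow_two, hOel.2 a' ha', map_one]
    card_E := by rw [Subgroup.card_map_of_injective M.subtype_injective, hOcard]
    z_mem := hzE
    cent := hcent
    card_M := hcM }, rfl, fun a => ?_, fun a => ?_, ?_⟩
  · show φ (a, 1) ∈ H₁
    rw [hφ, map_one, mul_one]; exact m₁ a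
  · show φ (1, a) ∈ H₂
    rw [hφ, map_one, one_mul]; exact m₂ a
  · refine le_antisymm (fun x hx => ?_) (Subgroup.zpowers_le.2 hzI)
    rcases hI x hx with rfl | rfl
    · exact one_mem _
    · exact Subgroup.mem_zpowers _

/-- Generators satisfying the relators, from the hypotheses of the recognition. -/
theorem exists_frame [Finite G] (H H₁ H₂ M : Subgroup G) (h1 : H₁ ≤ H) (h2 : H₂ ≤ H)
    (hn1 : (H₁.subgroupOf H).Normal) (hn2 : (H₂.subgroupOf H).Normal)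
    (hiso1 : Nonempty (↥H₁ ≃* Matrix.SpecialLinearGroup (Fin 2) (ZMod 3)))
    (hiso2 : Nonempty (↥H₂ ≃* Matrix.SpecialLinearGroup (Fin 2) (ZMod 3)))
    (hidx : (H₁ ⊔ H₂).relIndex H = 2)
    (hint1 : H₁ ⊓ H₂ = H₁ ⊓ Subgroup.centralizer (H₁ : Set G))
    (hint2 : H₁ ⊓ H₂ = H₂ ⊓ Subgroup.centralizer (H₂ : Set G))
    (hHC : H = Subgroup.centralizer ((H₁ ⊓ H₂ : Subgroup G) : Set G))
    [(Cfsg.pCore 2 ↥M).Normal]
    (hM : Nonempty ((↥M ⧸ Cfsg.pCore 2 ↥M) ≃* Matrix.SpecialLinearGroup (Fin 3) (ZMod 2)))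
    (hOel : Cfsg.IsElementaryAbelian 2 (Cfsg.pCore 2 ↥M))
    (hOcard : Nat.card ↥(Cfsg.pCore 2 ↥M) = 8)
    (hZin : H₁ ⊓ H₂ ≤ (Cfsg.pCore 2 ↥M).map M.subtype) :
    ∃ f : Fr G, f.γ 4 ∈ H₁ ∧ f.γ 6 ∈ H₂ ∧ hGroup f.γ = H ∧
      H₁ ⊓ H₂ = Subgroup.zpowers (prodw f.γ zW) := by
  obtain ⟨L, hLH, hm1, hm2, hI⟩ := exists_loc H H₁ H₂ M h1 h2 hn1 hn2 hiso1 hiso2 hidx hint1 hint2
    hHC hM hOel hOcard hZin
  obtain ⟨A⟩ := L.exists_axes
  obtain ⟨f, hz, hg, h4, h6⟩ := A.exists_fr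
  exact ⟨f, h4 ▸ hm1 _, h6 ▸ hm2 _, hg.trans hLH, hI.trans (by rw [hz])⟩

end CfsgLib.G2Rec
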