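import Cfsg.Agent.G2Rec.Table
import Cfsg.Agent.G2Rec.Data.HCheck

/-!
The group presented by the relators of the centralizer: it has 576 elements, read off its table,
as soon as `z ≠ 1`.
-/

set_option autoImplicit false
set_option linter.style.haveILetI false

namespace CfsgLib.G2Rec

open CfsgLib.CosetEnum CfsgLib.MTwelveUnique
open CfsgLib.UFourType (Tab invW pathOf)

noncomputable section

theorem h_closed : Closed hT 5 576 hWord hRels [] where
  le := by norm_num
  pos := by norm_num
  rows := by decide +kernel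
  ok := h_ok
  derived := h_derived

/-- The row of a word. -/
def idx (w : List ℕ) : ℕ := hT.walk 0 w

/-- The element of a row. -/
def el {G : Type*} [Group G] (γ : ℕ → G) (i : ℕ) : G := prodw γ (hWord i)

theorem hWord_spec {i : ℕ} (hi : i < 576) : idx (hWord i) = i ∧ ∀ x ∈ hWord i, x < 10 :=
  h_closed.word_spec hi

theorem idx_lt {w : List ℕ} (hw : ∀ x ∈ w, x < 10) : idx w < 576 :=
  h_closed.walk_lt hw h_closed.pos

variable {G : Type*} [Group G] {γ : ℕ → G}

theorem prodw_eq_el (h : Sat γ hRels) {w : List ℕ} (hw : ∀ x ∈ w, x < 10) :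
    prodw γ w = el γ (idx w) :=
  h_closed.prodw_eq_word h rfl hw

/-- Two words in the letters of the centralizer with the same row. -/
def sameB (v w : List ℕ) : Bool :=
  v.all (fun x => Nat.blt x 10) && (w.all (fun x => Nat.blt x 10) && Nat.beq (idx v) (idx w))

theorem prodw_eq_of_sameB (h : Sat γ hRels) {v w : List ℕ} (e : sameB v w = true) :
    prodw γ v = prodw γ w := by
  simp only [sameB, Bool.and_eq_true, List.all_eq_true, Nat.blt_eq, Nat.beq_eq] at e
  rw [prodw_eq_el h e.1, prodw_eq_el h e.2.1, e.2.2]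

theorem el_zero (h : Sat γ hRels) : el γ 0 = 1 := by
  have := prodw_eq_el h (w := []) (by simp)
  simpa [prodw, idx, Tab.walk] using this.symm

theorem prodw_mem_hGroup {w : List ℕ} (hw : ∀ x ∈ w, x < 10) : prodw γ w ∈ hGroup γ := by
  induction w with
  | nil => exact (hGroup γ).one_mem
  | cons x w ih =>
    rw [prodw_cons]
    exact (hGroup γ).mul_mem (Subgroup.subset_closure ⟨x, hw x List.mem_cons_self, rfl⟩)
      (ih fun y hy => hw y (List.mem_cons_of_mem x hy))

theorem el_mem {i : ℕ} (hi : i < 576) : el γ i ∈ hGroup γ := prodw_mem_hGroup (hWord_spec hi).2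

theorem mem_hGroup_iff_word {R : List (List ℕ)} (h : Sat γ R) {y : G} :
    y ∈ hGroup γ ↔ ∃ w : List ℕ, (∀ x ∈ w, x < 10) ∧ prodw γ w = y := by
  refine ⟨fun hy => ?_, fun ⟨w, hw, e⟩ => e ▸ prodw_mem_hGroup hw⟩
  induction hy using Subgroup.closure_induction with
  | mem y hy =>
    obtain ⟨k, hk, rfl⟩ := hy
    exact ⟨[k], by simpa using hk, by simp [prodw]⟩
  | one => exact ⟨[], by simp, rfl⟩
  | mul a b _ _ ha hb =>
    obtain ⟨v, hv, rfl⟩ := ha
    obtain ⟨w, hw, rfl⟩ := hb
    exact ⟨v ++ w, fun y hy => (List.mem_append.1 hy).elim (hv y) (hw y), prodw_append γ v w⟩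
  | inv a _ ha =>
    obtain ⟨v, hv, rfl⟩ := ha
    exact ⟨invW v, Closed.mem_invW (k := 5) h_closed hv,
      prodw_invW_of_sat h v fun y hy => by have := hv y hy; omega⟩

/-- The elements of `hGroup` are the elements of the rows. -/
theorem mem_hGroup (h : Sat γ hRels) {x : G} : x ∈ hGroup γ ↔ ∃ i, i < 576 ∧ el γ i = x := by
  refine ⟨fun hx => ?_, fun ⟨i, hi, e⟩ => e ▸ el_mem hi⟩
  obtain ⟨w, hw, rfl⟩ := (mem_hGroup_iff_word h).1 hx
  exact ⟨idx w, idx_lt hw, (prodw_eq_el h hw).symm⟩

/-- Generators of the normal subgroup of order 32. -/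
def qGens : List (List ℕ) := [[0], [2], jW, bW]

theorem h_moved : (List.range 576).all (fun i => Nat.beq i 0 || Nat.beq i (idx zW) ||
    qGens.any (fun q =>
      let k := idx (commW (hWord i) q)
      !(Nat.beq k 0) && (Nat.beq k (idx zW) ||
        qGens.any (fun q' => Nat.beq (idx (commW (hWord k) q')) (idx zW))))) = true := by
  decide +kernel

theorem commW_lt {v w : List ℕ} (hv : ∀ x ∈ v, x < 10) (hw : ∀ x ∈ w, x < 10) :
    ∀ x ∈ commW v w, x < 10 := by
  intro x hx
  simp only [commW, List.mem_append] at hx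
  rcases hx with ((hx | hx) | hx) | hx
  exacts [hv x hx, hw x hx, Closed.mem_invW (k := 5) h_closed hv x hx,
    Closed.mem_invW (k := 5) h_closed hw x hx]

theorem qGens_lt : qGens.all (fun q => q.all (fun x => Nat.blt x 10)) = true := by decide

theorem zW_lt : ∀ x ∈ zW, x < 10 := by decide

/-- Only the first row gives the identity, unless `z = 1`. -/
theorem eq_zero_of_el_eq_one (h : Sat γ hRels) (hz : prodw γ zW ≠ 1) {i : ℕ} (hi : i < 576)
    (e : el γ i = 1) : i = 0 := by
  have hq : ∀ q ∈ qGens, ∀ x ∈ q, x < 10 := fun q hq x hx => by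
    have := List.all_eq_true.1 (List.all_eq_true.1 qGens_lt q hq) x hx
    simpa using this
  have l12 : ∀ {w : List ℕ}, (∀ x ∈ w, x < 10) → ∀ x ∈ w, x < 12 := fun hw x hx => by
    have := hw x hx
    omega
  have hm := List.all_eq_true.1 h_moved i (List.mem_range.2 hi)
  simp only [Bool.or_eq_true, Nat.beq_eq, List.any_eq_true, Bool.and_eq_true,
    Bool.not_eq_true'] at hm
  rcases hm with (hm | hm) | ⟨q, hq', -, hm⟩
  · exact hm
  · exact absurd (by rw [prodw_eq_el h zW_lt, ← hm, e]) hz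
  exfalso
  have hk := prodw_eq_el h (commW_lt (hWord_spec hi).2 (hq q hq'))
  rw [prodw_commW h (l12 (hWord_spec hi).2) (l12 (hq q hq')),
    show prodw γ (hWord i) = 1 from e] at hk
  simp only [one_mul, inv_one, mul_one, mul_inv_cancel] at hk
  rcases hm with hm | ⟨q', hq'', hm⟩
  · exact hz (by rw [prodw_eq_el h zW_lt, ← hm, ← hk])
  · have hlt := idx_lt (commW_lt (hWord_spec hi).2 (hq q hq'))
    apply hz
    rw [prodw_eq_el h zW_lt, ← hm, ← prodw_eq_el h (commW_lt (hWord_spec hlt).2 (hq q' hq'')),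
      prodw_commW h (l12 (hWord_spec hlt).2) (l12 (hq q' hq'')),
      show prodw γ (hWord (idx (commW (hWord i) q))) = 1 from hk.symm]
    simp

/-- The rows are distinct elements, unless `z = 1`. -/
theorem el_inj (h : Sat γ hRels) (hz : prodw γ zW ≠ 1) {i j : ℕ} (hi : i < 576) (hj : j < 576)
    (e : el γ i = el γ j) : i = j := by
  have hwj := Closed.mem_invW (k := 5) h_closed (hWord_spec hj).2
  have hw : ∀ x ∈ hWord i ++ invW (hWord j), x < 10 := fun x hx =>
    (List.mem_append.1 hx).elim ((hWord_spec hi).2 x) (hwj x)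
  have h1 := prodw_eq_el h hw
  have h0 : idx (hWord i ++ invW (hWord j)) = 0 := by
    refine eq_zero_of_el_eq_one h hz (idx_lt hw) ?_
    rw [← h1, prodw_append, prodw_invW_of_sat h _ fun y hy => by
      have := (hWord_spec hj).2 y hy; omega]
    exact mul_inv_eq_one.2 e
  have hcan := h_closed.walk_cancel (hWord j) (hWord_spec hj).2 i hi
  rw [idx, Tab.walk_append, ← idx, (hWord_spec hi).1] at h0
  rw [Tab.walk_append, h0, ← idx, (hWord_spec hj).1] at hcan
  exact hcan.symm

theorem finite_hGroup (h : Sat γ hRels) : Finite (hGroup γ) := by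
  let f : Fin 576 → hGroup γ := fun i => ⟨el γ i, el_mem i.2⟩
  exact Finite.of_surjective f fun ⟨x, hx⟩ => by
    obtain ⟨i, hi, e⟩ := (mem_hGroup h).1 hx
    exact ⟨⟨i, hi⟩, Subtype.ext e⟩

theorem card_hGroup (h : Sat γ hRels) (hz : prodw γ zW ≠ 1) : Nat.card (hGroup γ) = 576 := by
  have hf : Function.Bijective (fun i : Fin 576 => (⟨el γ i, el_mem i.2⟩ : hGroup γ)) := by
    refine ⟨fun a b e => Fin.ext (el_inj h hz a.2 b.2 (congrArg Subtype.val e)), fun ⟨x, hx⟩ => ?_⟩
    obtain ⟨i, hi, e⟩ := (mem_hGroup h).1 hx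
    exact ⟨⟨i, hi⟩, Subtype.ext e⟩
  rw [← Nat.card_eq_of_bijective _ hf, Nat.card_eq_fintype_card, Fintype.card_fin]

end

end CfsgLib.G2Rec
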