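import Cfsg.Agent.G2Rec.FrameLoc
import Cfsg.Agent.G2Rec.HTable

/-!
Generators of the centralizer satisfying its relators.
-/

set_option autoImplicit false
set_option linter.style.haveILetI false

namespace CfsgLib.G2Rec

open CfsgLib.CosetEnum CfsgLib.UFourType.Frame

variable {G : Type*} [Group G]

/-- Generators adapted to a basis `z`, `i * a`, `j * b` of the four group. -/
structure Axes (L : Loc G) where
  i : SL
  j : SL
  s : SL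
  a : SL
  b : SL
  q : SL
  i_sq : i * i = N
  j_sq : j * j = N
  ij : i * j * (i * j) = N
  a_sq : a * a = N
  b_sq : b * b = N
  ab : a * b * (a * b) = N
  s_pow : s ^ 3 = 1
  s_i : s * i * s⁻¹ = j
  s_j : s * j * s⁻¹ = i * j
  q_pow : q ^ 3 = 1
  q_a : q * a * q⁻¹ = b
  q_b : q * b * q⁻¹ = a * b
  h₁ : L.φ (i, a) ∈ L.E
  h₂ : L.φ (j, b) ∈ L.E

namespace Loc

variable (L : Loc G)

theorem sq_mul_N {a : SL} (ha : a * a = N) : (a * N) * (a * N) = N := by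
  rw [mul_assoc, ← mul_assoc N, ← N_central a, mul_assoc a N, N_mul_self, mul_one, ha]

theorem exists_axes : Nonempty (Axes L) := by
  obtain ⟨b⟩ := L.exists_basis
  obtain ⟨i, a, hi, ha, he⟩ := L.exists_gen b.h₁ b.n₁ b.n₁'
  obtain ⟨j, c, hj, hc, hf⟩ := L.exists_gen b.h₂ b.n₂ b.n₂'
  have h12 : b.e₁ * b.e₂ = L.φ (i * j, a * c) := by rw [← he, ← hf, ← map_mul, Prod.mk_mul_mk]
  have hne : b.e₁ * b.e₂ ≠ 1 := fun e => b.n₂''
    ((eq_inv_of_mul_eq_one_right e).trans (inv_eq_of_mul_eq_one_right (L.E_sq _ b.h₁)))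
  have hnz : b.e₁ * b.e₂ ≠ L.z := fun e => b.n₂''' (by
    rw [← e, L.E_comm _ b.h₁ _ b.h₂, mul_assoc, L.E_sq _ b.h₁, mul_one])
  obtain ⟨u, w, hu, hw, huw⟩ := L.exists_gen (L.E.mul_mem b.h₁ b.h₂) hne hnz
  rw [h12] at huw
  have hij : i * j * (i * j) = N ∧ a * c * (a * c) = N := by
    rcases L.φ_eq_cases huw with h | h <;>
      simp only [Prod.mk_mul_mk, Prod.mk.injEq] at h <;> obtain ⟨rfl, rfl⟩ := h
    · exact ⟨hu, hw⟩
    · constructor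
      · have := sq_mul_N hu
        rwa [mul_assoc (i * j), N_mul_self, mul_one] at this
      · have := sq_mul_N hw
        rwa [mul_assoc (a * c), N_mul_self, mul_one] at this
  obtain ⟨s, hs, hsi, hsj⟩ := exists_rot i hi j hj hij.1
  obtain ⟨q, hq, hqa, hqb⟩ := exists_rot a ha c hc hij.2
  exact ⟨⟨i, j, s, a, c, q, hi, hj, hij.1, ha, hc, hij.2, hs, hsi, hsj, hq, hqa, hqb,
    he.symm ▸ b.h₁, hf.symm ▸ b.h₂⟩⟩

end Loc

namespace Axes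

variable {L : Loc G} (A : Axes L)

theorem ne_one_of_sq {a : SL} (ha : a * a = N) : a ≠ 1 ∧ a ≠ N := by
  constructor <;> rintro rfl
  · exact N_ne_one ((mul_one (1 : SL)).symm.trans ha).symm
  · exact N_ne_one (ha.symm.trans N_mul_self)

theorem ij_ne : A.j ≠ A.i ∧ A.j ≠ A.i * N := by
  constructor <;> intro e <;> have h := A.ij <;> rw [e] at h
  · rw [A.i_sq, N_mul_self] at h
    exact N_ne_one h.symm
  · rw [← mul_assoc A.i A.i N, A.i_sq, N_mul_self, mul_one] at h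
    exact N_ne_one h.symm

/-- The basis `z`, `i * a`, `j * b`. -/
def basis : L.Basis where
  e₁ := L.φ (A.i, A.a)
  e₂ := L.φ (A.j, A.b)
  h₁ := A.h₁
  h₂ := A.h₂
  n₁ e := by
    rcases L.ker _ e with h | h
    · exact (ne_one_of_sq A.i_sq).1 (congrArg Prod.fst h)
    · exact (ne_one_of_sq A.i_sq).2 (congrArg Prod.fst h)
  n₁' e := by
    rcases L.φ_eq_cases (e.trans L.N_left.symm) with h | h
    · exact (ne_one_of_sq A.i_sq).2 (congrArg Prod.fst h)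
    · exact (ne_one_of_sq A.i_sq).1 ((congrArg Prod.fst h).trans N_mul_self)
  n₂ e := by
    rcases L.ker _ e with h | h
    · exact (ne_one_of_sq A.j_sq).1 (congrArg Prod.fst h)
    · exact (ne_one_of_sq A.j_sq).2 (congrArg Prod.fst h)
  n₂' e := by
    rcases L.φ_eq_cases (e.trans L.N_left.symm) with h | h
    · exact (ne_one_of_sq A.j_sq).2 (congrArg Prod.fst h)
    · exact (ne_one_of_sq A.j_sq).1 ((congrArg Prod.fst h).trans N_mul_self)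
  n₂'' e := by
    rcases L.φ_eq_cases e with h | h
    · exact A.ij_ne.1 (congrArg Prod.fst h)
    · exact A.ij_ne.2 (congrArg Prod.fst h)
  n₂''' e := by
    rw [← L.N_left, ← map_mul, Prod.mk_mul_mk, one_mul] at e
    rcases L.φ_eq_cases e with h | h
    · exact A.ij_ne.2 ((congrArg Prod.fst h).trans (N_central A.i).symm)
    · refine A.ij_ne.1 ((congrArg Prod.fst h).trans ?_)
      show N * A.i * N = A.i
      rw [mul_assoc, N_central A.i, ← mul_assoc, N_mul_self, one_mul]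

theorem v_sum : A.basis.v (false, true, true) = L.φ (A.i, A.a) * L.φ (A.j, A.b) := by
  simp [Loc.Basis.v, Loc.vec, Loc.bp, basis]

theorem conj_z {h : G} (hh : h ∈ L.H) : h * L.z * h⁻¹ = L.z :=
  mul_inv_eq_iff_eq_mul.2 (L.mem_H_iff.1 hh)

/-- The diagonal element of order three. -/
def t : G := L.φ (A.s, A.q)

theorem t_e₁ : A.t * L.φ (A.i, A.a) * A.t⁻¹ = L.φ (A.j, A.b) := by
  rw [t, ← map_inv, ← map_mul, ← map_mul, Prod.inv_mk, Prod.mk_mul_mk, Prod.mk_mul_mk, A.s_i, A.q_a]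

theorem t_e₂ : A.t * L.φ (A.j, A.b) * A.t⁻¹ = L.φ (A.i, A.a) * L.φ (A.j, A.b) := by
  rw [t, ← map_inv, ← map_mul, ← map_mul, ← map_mul, Prod.inv_mk, Prod.mk_mul_mk, Prod.mk_mul_mk,
    Prod.mk_mul_mk, A.s_j, A.q_b]

theorem t_mem : A.t ∈ L.M := by
  obtain ⟨m, hmM, hmz, hm1, hm2⟩ := A.basis.exists_move (true, false, false) (false, true, true)
    (false, true, false) (by decide)
  rw [A.basis.v_z] at hmz
  rw [A.v_sum] at hm1
  rw [A.basis.v_one] at hm2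
  change m * L.φ (A.i, A.a) * m⁻¹ = _ at hm1
  change m * L.φ (A.j, A.b) * m⁻¹ = L.φ (A.i, A.a) at hm2
  have hmH : m ∈ L.H := L.mem_H_iff.2 (mul_inv_eq_iff_eq_mul.1 hmz)
  obtain ⟨⟨u, w⟩, hu⟩ := MonoidHom.mem_range.1 ((L.index_two m hmH m hmH).2 Iff.rfl)
  have hn1 : (m * m) * L.φ (A.i, A.a) * (m * m)⁻¹ = L.φ (A.j, A.b) := by
    calc _ = m * (m * L.φ (A.i, A.a) * m⁻¹) * m⁻¹ := by group
      _ = (m * L.φ (A.i, A.a) * m⁻¹) * (m * L.φ (A.j, A.b) * m⁻¹) := by nth_rewrite 1 [hm1]; group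
      _ = _ := by
        rw [hm1, hm2, L.E_comm _ A.h₁ _ A.h₂, mul_assoc, L.E_sq _ A.h₁, mul_one]
  have hn2 : (m * m) * L.φ (A.j, A.b) * (m * m)⁻¹ = L.φ (A.i, A.a) * L.φ (A.j, A.b) := by
    calc _ = m * (m * L.φ (A.j, A.b) * m⁻¹) * m⁻¹ := by group
      _ = _ := by rw [hm2, hm1]
  have fixes : ∀ {y : SL × SL} {r : G}, A.t * L.φ y * A.t⁻¹ = r → (m * m) * L.φ y * (m * m)⁻¹ = r →
      L.φ ((A.s, A.q)⁻¹ * (u, w) * y * ((A.s, A.q)⁻¹ * (u, w))⁻¹) = L.φ y := by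
    intro y r h1 h2
    rw [map_mul, map_mul, map_inv, map_mul, map_inv, hu]
    change A.t⁻¹ * (m * m) * L.φ y * (A.t⁻¹ * (m * m))⁻¹ = _
    calc _ = A.t⁻¹ * ((m * m) * L.φ y * (m * m)⁻¹) * A.t := by group
      _ = _ := by rw [h2, ← h1]; group
  have f1 := L.φ_eq_cases (fixes A.t_e₁ hn1)
  have f2 := L.φ_eq_cases (fixes A.t_e₂ hn2)
  simp only [Prod.inv_mk, Prod.mk_mul_mk, Prod.mk.injEq] at f1 f2
  have hu4 : (A.s⁻¹ * u) ^ 4 = 1 := four_of_fix A.i A.i_sq A.j A.j_sq A.ij _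
    (f1.imp And.left And.left) (f2.imp And.left And.left)
  have hw4 : (A.q⁻¹ * w) ^ 4 = 1 := four_of_fix A.a A.a_sq A.b A.b_sq A.ab _
    (f1.imp And.right And.right) (f2.imp And.right And.right)
  have hq := L.quat_le (p := (A.s⁻¹ * u, A.q⁻¹ * w)) hu4 hw4
  rw [show ((A.s⁻¹ * u, A.q⁻¹ * w) : SL × SL) = (A.s, A.q)⁻¹ * (u, w) from rfl, map_mul, map_inv,
    hu] at hq
  have := L.M.mul_mem (L.M.mul_mem hmM hmM) (L.M.inv_mem hq)
  rwa [mul_inv_rev, inv_inv, mul_inv_cancel_left] at this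

theorem fix_left {c : SL × SL} (h1 : ∀ p : SL × SL, (p = (A.i, 1) ∨ p = (A.j, 1) ∨ p = (1, A.a) ∨
    p = (1, A.b)) → L.φ c * L.φ p * (L.φ c)⁻¹ = L.φ p) :
    L.φ c = 1 ∨ L.φ c = L.z := by
  have e : ∀ p, L.φ c * L.φ p * (L.φ c)⁻¹ = L.φ p → L.φ (c * p * c⁻¹) = L.φ p := fun p h => by
    rw [map_mul, map_mul, map_inv, h]
  obtain ⟨c1, c2⟩ := c
  have l1 : ∀ y, L.φ ((c1, c2) * (y, 1) * (c1, c2)⁻¹) = L.φ (y, 1) → c1 * y * c1⁻¹ = y := by
    intro y h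
    rw [Prod.inv_mk, Prod.mk_mul_mk, Prod.mk_mul_mk, mul_one, mul_inv_cancel] at h
    exact L.φ_left_inj h
  have l2 : ∀ y, L.φ ((c1, c2) * (1, y) * (c1, c2)⁻¹) = L.φ (1, y) → c2 * y * c2⁻¹ = y := by
    intro y h
    rw [Prod.inv_mk, Prod.mk_mul_mk, Prod.mk_mul_mk, mul_one, mul_inv_cancel] at h
    exact L.φ_right_inj h
  rcases eq_of_fix A.i A.i_sq A.j A.j_sq A.ij c1 (l1 _ (e _ (h1 _ (Or.inl rfl))))
      (l1 _ (e _ (h1 _ (Or.inr (Or.inl rfl))))) with rfl | rfl <;>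
    rcases eq_of_fix A.a A.a_sq A.b A.b_sq A.ab c2 (l2 _ (e _ (h1 _ (Or.inr (Or.inr (Or.inl rfl))))))
      (l2 _ (e _ (h1 _ (Or.inr (Or.inr (Or.inr rfl)))))) with rfl | rfl
  · exact Or.inl (map_one L.φ)
  · exact Or.inr L.N_right
  · exact Or.inr L.N_left
  · exact Or.inl L.φ_NN

/-- An involution of both local subgroups interchanging the axes. -/
structure Swap (x : G) : Prop where
  memM : x ∈ L.M
  memH : x ∈ L.H
  notK : x ∉ L.φ.range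
  i : x * L.φ (A.i, 1) * x⁻¹ = L.φ (A.j, 1)
  j : x * L.φ (A.j, 1) * x⁻¹ = L.φ (A.i, 1)
  a : x * L.φ (1, A.a) * x⁻¹ = L.φ (1, A.b)
  b : x * L.φ (1, A.b) * x⁻¹ = L.φ (1, A.a)
  sq : x * x = 1

theorem Swap.e₁ {A : Axes L} {x : G} (hx : A.Swap x) :
    x * L.φ (A.i, A.a) * x⁻¹ = L.φ (A.j, A.b) := by
  rw [L.φ_mul_left, L.φ_mul_left A.j, ← hx.i, ← hx.a]; group

theorem Swap.e₂ {A : Axes L} {x : G} (hx : A.Swap x) :
    x * L.φ (A.j, A.b) * x⁻¹ = L.φ (A.i, A.a) := by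
  rw [L.φ_mul_left, L.φ_mul_left A.i, ← hx.j, ← hx.b]; group

theorem exists_pre : ∃ x ∈ L.M, x ∈ L.H ∧ x ∉ L.φ.range ∧
    x * L.φ (A.i, 1) * x⁻¹ = L.φ (A.j, 1) ∧ x * L.φ (A.j, 1) * x⁻¹ = L.φ (A.i, 1) ∧
    x * L.φ (1, A.a) * x⁻¹ = L.φ (1, A.b) ∧ x * L.φ (1, A.b) * x⁻¹ = L.φ (1, A.a) := by
  obtain ⟨m, hmM, hmz, hm1, hm2⟩ := A.basis.exists_move (true, false, false) (false, false, true)
    (false, true, false) (by decide)
  rw [A.basis.v_z] at hmz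
  rw [A.basis.v_two] at hm1
  rw [A.basis.v_one] at hm2
  change m * L.φ (A.i, A.a) * m⁻¹ = L.φ (A.j, A.b) at hm1
  change m * L.φ (A.j, A.b) * m⁻¹ = L.φ (A.i, A.a) at hm2
  have hmH : m ∈ L.H := L.mem_H_iff.2 (mul_inv_eq_iff_eq_mul.1 hmz)
  have hK : m ∉ L.φ.range := by
    rintro ⟨⟨u, w⟩, rfl⟩
    rw [← map_inv, ← map_mul, ← map_mul] at hm1 hm2
    have f1 := L.φ_eq_cases hm1
    have f2 := L.φ_eq_cases hm2
    simp only [Prod.inv_mk, Prod.mk_mul_mk, Prod.mk.injEq] at f1 f2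
    exact no_swap A.i A.i_sq A.j A.j_sq A.ij u
      ⟨f1.imp And.left And.left, f2.imp And.left And.left⟩
  obtain ⟨i', hi'⟩ := L.norm1 m hmH A.i
  obtain ⟨j', hj'⟩ := L.norm1 m hmH A.j
  obtain ⟨a', ha'⟩ := L.norm2 m hmH A.a
  obtain ⟨b', hb'⟩ := L.norm2 m hmH A.b
  have f1 : L.φ (i', a') = L.φ (A.j, A.b) := by
    rw [← hm1, L.φ_mul_left, L.φ_mul_left A.i, ← hi', ← ha']; group
  have f2 : L.φ (j', b') = L.φ (A.i, A.a) := by
    rw [← hm2, L.φ_mul_left, L.φ_mul_left A.j, ← hj', ← hb']; group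
  have g1 := L.φ_eq_cases f1
  have g2 := L.φ_eq_cases f2
  simp only [Prod.mk_mul_mk, Prod.mk.injEq] at g1 g2
  have hji : A.j * A.i * (A.j * A.i) = N :=
    (by decide +kernel : ∀ i : SL, i * i = N → ∀ j : SL, j * j = N → i * j * (i * j) = N →
      j * i * (j * i) = N) _ A.i_sq _ A.j_sq A.ij
  have hba : A.b * A.a * (A.b * A.a) = N :=
    (by decide +kernel : ∀ i : SL, i * i = N → ∀ j : SL, j * j = N → i * j * (i * j) = N →
      j * i * (j * i) = N) _ A.a_sq _ A.b_sq A.ab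
  obtain ⟨u, hu4, hui, huj⟩ := exists_sign A.j A.j_sq A.i A.i_sq hji i' (g1.imp And.left And.left)
    j' (g2.imp And.left And.left)
  obtain ⟨w, hw4, hwa, hwb⟩ := exists_sign A.b A.b_sq A.a A.a_sq hba a' (g1.imp And.right And.right)
    b' (g2.imp And.right And.right)
  have hQ : L.φ (u, w) ∈ L.M := L.quat_le hu4 hw4
  have conj : ∀ {y y' : G} {p p' : SL × SL}, m * y * m⁻¹ = L.φ p → y' = L.φ p' →
      (u, w) * p * (u, w)⁻¹ = p' → L.φ (u, w) * m * y * (L.φ (u, w) * m)⁻¹ = y' := by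
    intro y y' p p' h h' e
    rw [h', ← e, map_mul, map_mul, map_inv, ← h]
    group
  refine ⟨L.φ (u, w) * m, L.M.mul_mem hQ hmM, L.H.mul_mem (L.mem_H _) hmH, fun h => hK ?_,
    conj hi' rfl ?_, conj hj' rfl ?_, conj ha' rfl ?_, conj hb' rfl ?_⟩
  · exact ((L.index_two _ (L.mem_H _) _ hmH).1 h).1 ⟨(u, w), rfl⟩
  · rw [Prod.inv_mk, Prod.mk_mul_mk, Prod.mk_mul_mk, hui, mul_one, mul_inv_cancel]
  · rw [Prod.inv_mk, Prod.mk_mul_mk, Prod.mk_mul_mk, huj, mul_one, mul_inv_cancel]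
  · rw [Prod.inv_mk, Prod.mk_mul_mk, Prod.mk_mul_mk, hwa, mul_one, mul_inv_cancel]
  · rw [Prod.inv_mk, Prod.mk_mul_mk, Prod.mk_mul_mk, hwb, mul_one, mul_inv_cancel]

theorem exists_swap : ∃ x, A.Swap x := by
  obtain ⟨x, hM, hH, hK, hi, hj, ha, hb⟩ := A.exists_pre
  have he1 : x * L.φ (A.i, A.a) * x⁻¹ = L.φ (A.j, A.b) := by
    rw [L.φ_mul_left, L.φ_mul_left A.j, ← hi, ← ha]; group
  have he2 : x * L.φ (A.j, A.b) * x⁻¹ = L.φ (A.i, A.a) := by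
    rw [L.φ_mul_left, L.φ_mul_left A.i, ← hj, ← hb]; group
  have twice : ∀ {y y' : G}, x * y * x⁻¹ = y' → x * y' * x⁻¹ = y → x * x * y * (x * x)⁻¹ = y := by
    intro y y' h h'
    calc x * x * y * (x * x)⁻¹ = x * (x * y * x⁻¹) * x⁻¹ := by group
      _ = y := by rw [h, h']
  have hxE : x * x ∈ L.E := L.cent _ (L.M.mul_mem hM hM)
    (A.basis.fix_all (conj_z (L.H.mul_mem hH hH)) (twice he1 he2) (twice he2 he1))
  obtain ⟨c, -, -, hc⟩ := L.exists_quat hxE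
  have hxz : x * x = 1 ∨ x * x = L.z := by
    rw [← hc]
    refine A.fix_left fun p hp => ?_
    rw [hc]
    rcases hp with rfl | rfl | rfl | rfl
    exacts [twice hi hj, twice hj hi, twice ha hb, twice hb ha]
  refine ⟨x, ⟨hM, hH, hK, hi, hj, ha, hb, hxz.resolve_right fun hxx => ?_⟩⟩
  set e₁ := L.φ (A.i, A.a) with hd1
  set e₂ := L.φ (A.j, A.b) with hd2
  obtain ⟨m, hmM, hmz, hm1, hm2⟩ := A.basis.exists_move (false, true, true) (true, false, false)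
    (false, true, false) (by decide)
  rw [A.v_sum] at hmz
  rw [A.basis.v_z] at hm1
  rw [A.basis.v_one] at hm2
  change m * e₁ * m⁻¹ = L.z at hm1
  change m * e₂ * m⁻¹ = e₁ at hm2
  have hi4 : A.i ^ 4 = 1 := four_of_sq _ A.i_sq
  have hiM : L.φ (A.i, 1) ∈ L.M := L.quat_le (p := (A.i, 1)) hi4 (one_pow 4)
  have hie1 : L.φ (A.i, 1) * e₁ * (L.φ (A.i, 1))⁻¹ = e₁ := by
    rw [hd1, ← map_inv, ← map_mul, ← map_mul, Prod.inv_mk, Prod.mk_mul_mk, Prod.mk_mul_mk,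
      mul_inv_cancel_right, one_mul, inv_one, mul_one]
  have hie2 : L.φ (A.i, 1) * e₂ * (L.φ (A.i, 1))⁻¹ = e₂ * L.z := by
    rw [hd2, ← map_inv, ← map_mul, ← map_mul, Prod.inv_mk, Prod.mk_mul_mk, Prod.mk_mul_mk,
      (anti A.i A.i_sq A.j A.j_sq A.ij).1, one_mul, inv_one, mul_one, ← L.N_left, ← map_mul,
      Prod.mk_mul_mk, mul_one]
  have hzi := conj_z (L := L) (L.mem_H (A.i, 1))
  set y := m * L.φ (A.i, 1) * m⁻¹ with hy
  have hm12 : m * e₂ * m⁻¹ * (m * e₁ * m⁻¹) = e₁ * L.z := by rw [hm1, hm2]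
  have move : ∀ {v w : G}, m * v * m⁻¹ = w → y * w * y⁻¹ =
      m * (L.φ (A.i, 1) * v * (L.φ (A.i, 1))⁻¹) * m⁻¹ := by
    intro v w h
    rw [hy, ← h]; group
  have y12 : y * (e₁ * e₂) * y⁻¹ = e₁ * e₂ := by rw [move hmz, hzi, hmz]
  have yz : y * L.z * y⁻¹ = L.z := by rw [move hm1, hie1, hm1]
  have y1 : y * e₁ * y⁻¹ = e₂ := by
    rw [move hm2, hie2]
    calc m * (e₂ * L.z) * m⁻¹ = (m * e₂ * m⁻¹) * (m * L.z * m⁻¹) := by group
      _ = _ := by rw [hm2, hmz, ← mul_assoc, L.E_sq _ A.h₁, one_mul]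
  have y2 : y * e₂ * y⁻¹ = e₁ := by
    have : (y * e₁ * y⁻¹) * (y * e₂ * y⁻¹) = e₁ * e₂ := by rw [← y12]; group
    rw [y1] at this
    calc y * e₂ * y⁻¹ = e₂⁻¹ * (e₂ * (y * e₂ * y⁻¹)) := by group
      _ = e₂⁻¹ * (e₂ * e₁) := by rw [this, L.E_comm _ A.h₁ _ A.h₂]
      _ = e₁ := by group
  have hyx : x⁻¹ * y ∈ L.E := by
    refine L.cent _ (L.M.mul_mem (L.M.inv_mem hM) (L.M.mul_mem (L.M.mul_mem hmM hiM)
      (L.M.inv_mem hmM))) (A.basis.fix_all ?_ ?_ ?_)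
    · calc x⁻¹ * y * L.z * (x⁻¹ * y)⁻¹ = x⁻¹ * (y * L.z * y⁻¹) * x := by group
        _ = x⁻¹ * (x * L.z * x⁻¹) * x := by rw [yz, conj_z hH]
        _ = L.z := by group
    · calc x⁻¹ * y * e₁ * (x⁻¹ * y)⁻¹ = x⁻¹ * (y * e₁ * y⁻¹) * x := by group
        _ = x⁻¹ * (x * e₁ * x⁻¹) * x := by rw [y1, he1]
        _ = e₁ := by group
    · calc x⁻¹ * y * e₂ * (x⁻¹ * y)⁻¹ = x⁻¹ * (y * e₂ * y⁻¹) * x := by group
        _ = x⁻¹ * (x * e₂ * x⁻¹) * x := by rw [y2, he2]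
        _ = e₂ := by group
  have hysq : y * y = e₁ * e₂ := by
    rw [← hmz, hy]
    calc _ = m * (L.φ (A.i, 1) * L.φ (A.i, 1)) * m⁻¹ := by group
      _ = _ := by rw [← map_mul, Prod.mk_mul_mk, A.i_sq, one_mul, L.N_left]
  obtain ⟨e, he, hye⟩ : ∃ e ∈ L.E, y = x * e := ⟨x⁻¹ * y, hyx, (mul_inv_cancel_left x y).symm⟩
  have hcomm : x * e * x⁻¹ * e = 1 ∨ x * e * x⁻¹ * e = e₁ * e₂ := by
    obtain ⟨⟨c₀, c₁, c₂⟩, hv⟩ := A.basis.v_surj he
    have s1 := L.E_sq _ A.h₁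
    have s2 := L.E_sq _ A.h₂
    have c12 := L.E_comm _ A.h₁ _ A.h₂
    have cz1 := L.E_comm _ L.z_mem _ A.h₁
    have cz2 := L.E_comm _ L.z_mem _ A.h₂
    rw [← hv]
    simp only [Loc.Basis.v, Loc.vec, conj_mul (a := x)]
    have bz : x * Loc.bp L.z c₀ * x⁻¹ = Loc.bp L.z c₀ := by
      cases c₀ <;> simp [Loc.bp, conj_z hH]
    have b1 : x * Loc.bp e₁ c₁ * x⁻¹ = Loc.bp e₂ c₁ := by
      cases c₁ <;> simp [Loc.bp, he1]
    have b2 : x * Loc.bp e₂ c₂ * x⁻¹ = Loc.bp e₁ c₂ := by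
      cases c₂ <;> simp [Loc.bp, he2]
    change x * (Loc.bp L.z c₀ * Loc.bp e₁ c₁ * Loc.bp e₂ c₂) * x⁻¹ *
        (Loc.bp L.z c₀ * Loc.bp e₁ c₁ * Loc.bp e₂ c₂) = 1 ∨
      x * (Loc.bp L.z c₀ * Loc.bp e₁ c₁ * Loc.bp e₂ c₂) * x⁻¹ *
        (Loc.bp L.z c₀ * Loc.bp e₁ c₁ * Loc.bp e₂ c₂) = e₁ * e₂
    rw [show ∀ p q r : G, x * (p * q * r) * x⁻¹ = (x * p * x⁻¹) * (x * q * x⁻¹) * (x * r * x⁻¹) from
      fun p q r => by group, bz, b1, b2]
    have C : Commute (Loc.bp e₂ c₁ * Loc.bp e₁ c₂) (Loc.bp L.z c₀) :=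
      ((Loc.bp_comm cz2 _ _).symm).mul_left (Loc.bp_comm cz1 _ _).symm
    have hred : Loc.bp L.z c₀ * Loc.bp e₂ c₁ * Loc.bp e₁ c₂ *
        (Loc.bp L.z c₀ * Loc.bp e₁ c₁ * Loc.bp e₂ c₂) =
        Loc.bp e₂ c₁ * Loc.bp e₁ c₂ * (Loc.bp e₁ c₁ * Loc.bp e₂ c₂) := by
      calc _ = Loc.bp L.z c₀ * ((Loc.bp e₂ c₁ * Loc.bp e₁ c₂) * Loc.bp L.z c₀) *
            (Loc.bp e₁ c₁ * Loc.bp e₂ c₂) := by group
        _ = _ := by
          rw [C.eq, ← mul_assoc (Loc.bp L.z c₀), ← Loc.bp_xor L.zz, Bool.xor_self]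
          simp [Loc.bp]
    rw [hred]
    cases c₁ <;> cases c₂ <;> simp only [Loc.bp, mul_one, one_mul]
    · exact Or.inl trivial
    · exact Or.inr trivial
    · exact Or.inr c12.symm
    · refine Or.inl ?_
      rw [mul_assoc, ← mul_assoc e₁, s1, one_mul, s2]
  have hc' : Commute (x * x) e := by rw [hxx]; exact L.E_comm _ L.z_mem _ he
  have key : e₁ * e₂ = x * e * x⁻¹ * e * L.z := by
    rw [← hysq, ← hxx, hye]
    calc x * e * (x * e) = x * e * x⁻¹ * ((x * x) * e) := by group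
      _ = _ := by rw [hc'.eq]; group
  rcases hcomm with h | h <;> rw [h] at key
  · rw [one_mul] at key
    have := A.basis.v_inj (A.v_sum.trans (key.trans A.basis.v_z.symm))
    simp at this
  · exact L.z_ne (mul_eq_left.1 key.symm)

theorem Swap.inv {A : Axes L} {x : G} (hx : A.Swap x) : x⁻¹ = x :=
  inv_eq_of_mul_eq_one_right hx.sq

theorem Swap.s_rel {A : Axes L} {x : G} (hx : A.Swap x) :
    x * L.φ (A.s, 1) * x * L.φ (A.s, 1) * (L.φ (A.i, 1))⁻¹ = 1 := by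
  obtain ⟨u, hu⟩ := L.norm1 x hx.memH A.s
  have key : ∀ {p p' r r' : SL}, x * L.φ (p, 1) * x⁻¹ = L.φ (p', 1) → A.s * p' * A.s⁻¹ = r →
      x * L.φ (r, 1) * x⁻¹ = L.φ (r', 1) → u * p * u⁻¹ = r' := by
    intro p p' r r' h1 h2 h3
    refine L.φ_left_inj ?_
    rw [← h3, ← h2, show ((u * p * u⁻¹, 1) : SL × SL) = (u, 1) * (p, 1) * (u, 1)⁻¹ by simp,
      show ((A.s * p' * A.s⁻¹, 1) : SL × SL) = (A.s, 1) * (p', 1) * (A.s, 1)⁻¹ by simp,
      map_mul, map_mul, map_inv, map_mul, map_mul, map_inv, ← hu, ← h1, hx.inv]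
    simp only [mul_inv_rev, hx.inv, mul_assoc]
  have hij : x * L.φ (A.i * A.j, 1) * x⁻¹ = L.φ (A.j * A.i, 1) := by
    rw [show ((A.j * A.i, 1) : SL × SL) = (A.j, 1) * (A.i, 1) by simp,
      show ((A.i * A.j, 1) : SL × SL) = (A.i, 1) * (A.j, 1) by simp, map_mul, map_mul]
    calc x * (L.φ (A.i, 1) * L.φ (A.j, 1)) * x⁻¹
        = (x * L.φ (A.i, 1) * x⁻¹) * (x * L.φ (A.j, 1) * x⁻¹) := by group
      _ = _ := by rw [hx.i, hx.j]
  have hu3 : u ^ 3 = 1 := by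
    refine L.φ_left_inj ?_
    rw [show ((u ^ 3, 1) : SL × SL) = (u, 1) ^ 3 by simp, map_pow, ← hu, conj_pow, ← map_pow,
      show ((A.s, 1) : SL × SL) ^ 3 = 1 by simp [A.s_pow], map_one, mul_one, mul_inv_cancel]
    exact (map_one L.φ).symm
  have e := inverted_rot A.i A.i_sq A.j A.j_sq A.ij A.s A.s_pow A.s_i A.s_j u hu3
    (key hx.i A.s_j hij) (key hx.j A.s_i hx.j)
  calc x * L.φ (A.s, 1) * x * L.φ (A.s, 1) * (L.φ (A.i, 1))⁻¹
      = x * L.φ (A.s, 1) * x⁻¹ * L.φ (A.s, 1) * (L.φ (A.i, 1))⁻¹ := by rw [hx.inv]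
    _ = 1 := by
      rw [hu, e, ← map_inv, ← map_mul, ← map_mul]
      simp [← Prod.one_eq_mk]

theorem Swap.q_rel {A : Axes L} {x : G} (hx : A.Swap x) :
    x * L.φ (1, A.q) * x * L.φ (1, A.q) * (L.φ (1, A.a))⁻¹ = 1 := by
  obtain ⟨u, hu⟩ := L.norm2 x hx.memH A.q
  have key : ∀ {p p' r r' : SL}, x * L.φ (1, p) * x⁻¹ = L.φ (1, p') → A.q * p' * A.q⁻¹ = r →
      x * L.φ (1, r) * x⁻¹ = L.φ (1, r') → u * p * u⁻¹ = r' := by
    intro p p' r r' h1 h2 h3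
    refine L.φ_right_inj ?_
    rw [← h3, ← h2, show ((1, u * p * u⁻¹) : SL × SL) = (1, u) * (1, p) * (1, u)⁻¹ by simp,
      show ((1, A.q * p' * A.q⁻¹) : SL × SL) = (1, A.q) * (1, p') * (1, A.q)⁻¹ by simp,
      map_mul, map_mul, map_inv, map_mul, map_mul, map_inv, ← hu, ← h1, hx.inv]
    simp only [mul_inv_rev, hx.inv, mul_assoc]
  have hab : x * L.φ (1, A.a * A.b) * x⁻¹ = L.φ (1, A.b * A.a) := by
    rw [show ((1, A.b * A.a) : SL × SL) = (1, A.b) * (1, A.a) by simp,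
      show ((1, A.a * A.b) : SL × SL) = (1, A.a) * (1, A.b) by simp, map_mul, map_mul]
    calc x * (L.φ (1, A.a) * L.φ (1, A.b)) * x⁻¹
        = (x * L.φ (1, A.a) * x⁻¹) * (x * L.φ (1, A.b) * x⁻¹) := by group
      _ = _ := by rw [hx.a, hx.b]
  have hu3 : u ^ 3 = 1 := by
    refine L.φ_right_inj ?_
    rw [show ((1, u ^ 3) : SL × SL) = (1, u) ^ 3 by simp, map_pow, ← hu, conj_pow, ← map_pow,
      show ((1, A.q) : SL × SL) ^ 3 = 1 by simp [A.q_pow], map_one, mul_one, mul_inv_cancel]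
    exact (map_one L.φ).symm
  have e := inverted_rot A.a A.a_sq A.b A.b_sq A.ab A.q A.q_pow A.q_a A.q_b u hu3
    (key hx.a A.q_b hab) (key hx.b A.q_a hx.b)
  calc x * L.φ (1, A.q) * x * L.φ (1, A.q) * (L.φ (1, A.a))⁻¹
      = x * L.φ (1, A.q) * x⁻¹ * L.φ (1, A.q) * (L.φ (1, A.a))⁻¹ := by rw [hx.inv]
    _ = 1 := by
      rw [hu, e, ← map_inv, ← map_mul, ← map_mul]
      simp [← Prod.one_eq_mk]

/-- The valuation of the letters. -/
def val (x g : G) : ℕ → G :=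
  gens (L.φ (A.i, 1)) (L.φ (1, A.a)) (L.φ (A.s, 1)) (L.φ (1, A.q)) x g

theorem sat_hRels {x : G} (hx : A.Swap x) (g : G) : Sat (A.val x g) hRels := by
  refine gens_sat fun v hv => ?_
  have hsi : A.s * A.i * A.s⁻¹ = A.j := A.s_i
  have hqa : A.q * A.a * A.q⁻¹ = A.b := A.q_a
  have i4 := four_of_sq _ A.i_sq
  have anti_i := anti A.i A.i_sq A.j A.j_sq A.ij
  have anti_a := anti A.a A.a_sq A.b A.b_sq A.ab
  have pairH : ∀ p : SL × SL, p = 1 → L.φ p = 1 := fun p e => by rw [e, map_one]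
  have rot : ∀ i : SL, i * i = N → ∀ j : SL, j * j = N → i * j * (i * j) = N →
      j * i * j⁻¹ * i = 1 ∧ i * j * (j⁻¹) * i⁻¹ = 1 := by decide +kernel
  simp only [hRels, List.mem_cons, List.not_mem_nil, or_false] at hv
  rcases hv with rfl | rfl | rfl | rfl | rfl | rfl | rfl | rfl | rfl | rfl | rfl | rfl | rfl |
    rfl | rfl | rfl | rfl <;>
    simp only [prodw, List.map_cons, List.map_nil, List.prod_cons, List.prod_nil, gens, mul_one]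
  · simp only [← map_mul]; refine pairH _ ?_; simp [← mul_assoc, A.i_sq, mul_assoc N, N_mul_self]
  · simp only [← map_mul]; refine pairH _ ?_
    simp only [Prod.mk_mul_mk, mul_one]; rw [← pow_three, A.s_pow]; rfl
  · simp only [← map_mul]; refine pairH _ ?_
    simp only [Prod.mk_mul_mk, mul_one]; rw [← pow_three, A.q_pow]; rfl
  · simp only [← map_inv, ← map_mul]
    simp [A.a_sq, ← mul_inv_rev, A.i_sq, inv_eq_of_mul_eq_one_right N_mul_self, L.φ_NN]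
  · simp only [← map_inv, ← map_mul]; refine pairH _ ?_; simp
  · simp only [← map_inv, ← map_mul]; refine pairH _ ?_; simp
  · simp only [← map_inv, ← map_mul]; refine pairH _ ?_; simp
  · simp only [← map_inv, ← map_mul]; refine pairH _ ?_; simp
  · simp only [← map_inv, ← map_mul]; refine pairH _ ?_
    simp only [Prod.inv_mk, Prod.mk_mul_mk, inv_one, one_mul, mul_one, Prod.mk_eq_one]
    refine ⟨?_, trivial⟩
    rw [show A.s * (A.i * (A.s⁻¹ * (A.i * (A.s * (A.i⁻¹ * (A.s⁻¹ * A.i)))))) =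
      (A.s * A.i * A.s⁻¹) * A.i * (A.s * A.i * A.s⁻¹)⁻¹ * A.i by group, hsi]
    exact (rot _ A.i_sq _ A.j_sq A.ij).1
  · simp only [← map_inv, ← map_mul]; refine pairH _ ?_
    simp only [Prod.inv_mk, Prod.mk_mul_mk, inv_one, one_mul, mul_one, Prod.mk_eq_one]
    refine ⟨trivial, ?_⟩
    rw [show A.q * (A.a * (A.q⁻¹ * (A.a * (A.q * (A.a⁻¹ * (A.q⁻¹ * A.a)))))) =
      (A.q * A.a * A.q⁻¹) * A.a * (A.q * A.a * A.q⁻¹)⁻¹ * A.a by group, hqa]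
    exact (rot _ A.a_sq _ A.b_sq A.ab).1
  · simp only [← map_inv, ← map_mul]; refine pairH _ ?_
    simp only [Prod.inv_mk, Prod.mk_mul_mk, inv_one, one_mul, mul_one, Prod.mk_eq_one]
    refine ⟨?_, trivial⟩
    rw [show A.s * (A.s * (A.i * (A.s⁻¹ * (A.s⁻¹ * (A.s * (A.i⁻¹ * (A.s⁻¹ * A.i⁻¹))))))) =
      (A.s * (A.s * A.i * A.s⁻¹) * A.s⁻¹) * (A.s * A.i * A.s⁻¹)⁻¹ * A.i⁻¹ by group, hsi, A.s_j]
    exact (rot _ A.i_sq _ A.j_sq A.ij).2
  · simp only [← map_inv, ← map_mul]; refine pairH _ ?_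
    simp only [Prod.inv_mk, Prod.mk_mul_mk, inv_one, one_mul, mul_one, Prod.mk_eq_one]
    refine ⟨trivial, ?_⟩
    rw [show A.q * (A.q * (A.a * (A.q⁻¹ * (A.q⁻¹ * (A.q * (A.a⁻¹ * (A.q⁻¹ * A.a⁻¹))))))) =
      (A.q * (A.q * A.a * A.q⁻¹) * A.q⁻¹) * (A.q * A.a * A.q⁻¹)⁻¹ * A.a⁻¹ by group, hqa, A.q_b]
    exact (rot _ A.a_sq _ A.b_sq A.ab).2
  · exact hx.sq
  · calc x * (L.φ (A.i, 1) * (x * (L.φ (A.s, 1) * ((L.φ (A.i, 1))⁻¹ * (L.φ (A.s, 1))⁻¹))))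
        = x * L.φ (A.i, 1) * x⁻¹ * L.φ ((A.s, 1) * (A.i, 1) * (A.s, 1)⁻¹)⁻¹ := by
          rw [hx.inv, map_inv, map_mul, map_mul, map_inv]; group
      _ = 1 := by
          rw [hx.i, map_inv]
          simp [hsi]
  · calc x * (L.φ (1, A.a) * (x * (L.φ (1, A.q) * ((L.φ (1, A.a))⁻¹ * (L.φ (1, A.q))⁻¹))))
        = x * L.φ (1, A.a) * x⁻¹ * L.φ ((1, A.q) * (1, A.a) * (1, A.q)⁻¹)⁻¹ := by
          rw [hx.inv, map_inv, map_mul, map_mul, map_inv]; group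
      _ = 1 := by
          rw [hx.a, map_inv]
          simp [hqa]
  · exact (by group : _ = x * L.φ (A.s, 1) * x * L.φ (A.s, 1) * (L.φ (A.i, 1))⁻¹).trans hx.s_rel
  · exact (by group : _ = x * L.φ (1, A.q) * x * L.φ (1, A.q) * (L.φ (1, A.a))⁻¹).trans hx.q_rel

theorem val_z (x g : G) : prodw (A.val x g) zW = L.z := by
  simp only [zW, prodw, val, gens, List.map_cons, List.map_nil, List.prod_cons, List.prod_nil,
    mul_one, ← map_mul, Prod.mk_mul_mk, A.i_sq, L.N_left]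

theorem hGroup_eq {x : G} (hx : A.Swap x) (g : G) : hGroup (A.val x g) = L.H := by
  haveI : Finite L.H := Nat.finite_of_card_ne_zero (by rw [L.card_H]; norm_num)
  refine Subgroup.eq_of_le_of_card_ge ?_ (le_of_eq ?_)
  · rw [hGroup, Subgroup.closure_le]
    rintro _ ⟨k, hk, rfl⟩
    have hk' : k < 10 := hk
    interval_cases k
    exacts [L.mem_H _, L.H.inv_mem (L.mem_H _), L.mem_H _, L.H.inv_mem (L.mem_H _), L.mem_H _,
      L.H.inv_mem (L.mem_H _), L.mem_H _, L.H.inv_mem (L.mem_H _), hx.memH, L.H.inv_mem hx.memH]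
  · rw [L.card_H, card_hGroup (A.sat_hRels hx g) (by rw [A.val_z]; exact L.z_ne)]

end Axes

end CfsgLib.G2Rec
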