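import Cfsg.Agent.G2Rec.FrameSL
import Cfsg.Prelude.Def_Transfer

/-!
The two local subgroups in the recognition of `G₂(3)`: the central product of two copies of
`SL(2, 3)` and the subgroup inducing all automorphisms of an elementary abelian group of order eight.
-/

set_option autoImplicit false
set_option linter.style.haveILetI false

namespace CfsgLib.G2Rec

open CfsgLib.UFourType.Frame

/-- The quaternion group in `SL(2, 3)`. -/
def Q8S : Subgroup SL where
  carrier := {a | a ^ 4 = 1}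
  one_mem' := one_pow 4
  mul_mem' {a b} ha hb := (by decide +kernel : ∀ a b : SL, a ^ 4 = 1 → b ^ 4 = 1 → (a * b) ^ 4 = 1) a b ha hb
  inv_mem' {a} ha := by show a⁻¹ ^ 4 = 1; rw [inv_pow, show a ^ 4 = 1 from ha, inv_one]

theorem mem_Q8S {a : SL} : a ∈ Q8S ↔ a ^ 4 = 1 := Iff.rfl

theorem card_Q8S : Nat.card Q8S = 8 := by
  rw [show Nat.card Q8S = Nat.card {a : SL // a ^ 4 = 1} from rfl, Nat.card_eq_fintype_card]
  decide +kernel

/-- The hypotheses of the recognition, in the form used here. -/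
structure Loc (G : Type*) [Group G] where
  z : G
  H : Subgroup G
  M : Subgroup G
  E : Subgroup G
  φ : SL × SL →* G
  H_eq : H = Subgroup.centralizer ({z} : Set G)
  z_ne : z ≠ 1
  zz : z * z = 1
  N_left : φ (N, 1) = z
  N_right : φ (1, N) = z
  ker : ∀ p, φ p = 1 → p = 1 ∨ p = (N, N)
  mem_H : ∀ p, φ p ∈ H
  norm1 : ∀ h ∈ H, ∀ a, ∃ b, h * φ (a, 1) * h⁻¹ = φ (b, 1)
  norm2 : ∀ h ∈ H, ∀ a, ∃ b, h * φ (1, a) * h⁻¹ = φ (1, b)
  card_H : Nat.card H = 576
  index_two : ∀ x ∈ H, ∀ y ∈ H, (x * y ∈ φ.range ↔ (x ∈ φ.range ↔ y ∈ φ.range))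
  E_le : E ≤ M
  E_norm : ∀ m ∈ M, ∀ e ∈ E, m * e * m⁻¹ ∈ E
  E_comm : ∀ a ∈ E, ∀ b ∈ E, a * b = b * a
  E_sq : ∀ a ∈ E, a * a = 1
  card_E : Nat.card E = 8
  z_mem : z ∈ E
  cent : ∀ m ∈ M, (∀ e ∈ E, m * e = e * m) → m ∈ E
  card_M : Nat.card M = 1344

namespace Loc

variable {G : Type*} [Group G] (L : Loc G)

theorem mem_H_iff {x : G} : x ∈ L.H ↔ x * L.z = L.z * x := by
  rw [L.H_eq, Subgroup.mem_centralizer_singleton_iff]

theorem E_le_H : L.E ≤ L.H := fun e he => L.mem_H_iff.2 (L.E_comm e he L.z L.z_mem)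

theorem φ_mul_left (a : SL) (b : SL) : L.φ (a, b) = L.φ (a, 1) * L.φ (1, b) := by
  rw [← map_mul, Prod.mk_mul_mk, one_mul, mul_one]

theorem φ_NN : L.φ (N, N) = 1 := by rw [L.φ_mul_left, L.N_left, L.N_right, L.zz]

theorem φ_eq_cases {p q : SL × SL} (e : L.φ p = L.φ q) : p = q ∨ p = q * (N, N) := by
  rcases L.ker (q⁻¹ * p) (by rw [map_mul, map_inv, e, inv_mul_cancel]) with h | h
  · exact Or.inl (inv_mul_eq_one.1 h).symm
  · exact Or.inr (by rw [← h, mul_inv_cancel_left])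

theorem φ_left_inj {a b : SL} (e : L.φ (a, 1) = L.φ (b, 1)) : a = b := by
  rcases L.φ_eq_cases e with h | h
  · exact congrArg Prod.fst h
  · exact absurd ((congrArg Prod.snd h).trans (one_mul N)) (Ne.symm N_ne_one)

theorem φ_right_inj {a b : SL} (e : L.φ (1, a) = L.φ (1, b)) : a = b := by
  rcases L.φ_eq_cases e with h | h
  · exact congrArg Prod.snd h
  · exact absurd ((congrArg Prod.fst h).trans (one_mul N)) (Ne.symm N_ne_one)

theorem invol_left {a : SL} (h : L.φ (a, 1) * L.φ (a, 1) = 1) : L.φ (a, 1) = 1 ∨ L.φ (a, 1) = L.z := by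
  rw [← map_mul, Prod.mk_mul_mk, one_mul, ← map_one L.φ] at h
  rcases sq_one a (L.φ_left_inj h) with rfl | rfl
  · exact Or.inl (map_one L.φ)
  · exact Or.inr L.N_left

theorem invol_right {a : SL} (h : L.φ (1, a) * L.φ (1, a) = 1) : L.φ (1, a) = 1 ∨ L.φ (1, a) = L.z := by
  rw [← map_mul, Prod.mk_mul_mk, one_mul, ← map_one L.φ] at h
  rcases sq_one a (L.φ_right_inj h) with rfl | rfl
  · exact Or.inl (map_one L.φ)
  · exact Or.inr L.N_right

/-- Powers with a Boolean exponent. -/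
def bp (e : G) : Bool → G
  | false => 1
  | true => e

theorem bp_xor {e : G} (h : e * e = 1) (a b : Bool) : bp e (a ^^ b) = bp e a * bp e b := by
  cases a <;> cases b <;> simp [bp, h]

theorem bp_comm {e f : G} (h : e * f = f * e) (a b : Bool) : Commute (bp e a) (bp f b) := by
  cases a <;> cases b <;> simp [bp, Commute, SemiconjBy, h]

/-- The vectors spanned by `z` and two further elements. -/
def vec (e₁ e₂ : G) (v : Bits) : G := bp L.z v.1 * bp e₁ v.2.1 * bp e₂ v.2.2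

theorem bp_mem {e : G} (he : e ∈ L.E) (b : Bool) : bp e b ∈ L.E := by
  cases b
  · exact L.E.one_mem
  · exact he

theorem vec_mem {e₁ e₂ : G} (h₁ : e₁ ∈ L.E) (h₂ : e₂ ∈ L.E) (v : Bits) : L.vec e₁ e₂ v ∈ L.E :=
  L.E.mul_mem (L.E.mul_mem (L.bp_mem L.z_mem _) (L.bp_mem h₁ _)) (L.bp_mem h₂ _)

theorem vec_xor {e₁ e₂ : G} (h₁ : e₁ ∈ L.E) (h₂ : e₂ ∈ L.E) (u v : Bits) :
    L.vec e₁ e₂ (bxor u v) = L.vec e₁ e₂ u * L.vec e₁ e₂ v := by
  simp only [vec, bxor, bp_xor (L.E_sq _ L.z_mem), bp_xor (L.E_sq _ h₁), bp_xor (L.E_sq _ h₂)]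
  have c1 : Commute (bp L.z v.1) (bp e₁ u.2.1) := bp_comm (L.E_comm _ L.z_mem _ h₁) _ _
  have c2 : Commute (bp L.z v.1 * bp e₁ v.2.1) (bp e₂ u.2.2) :=
    (bp_comm (L.E_comm _ L.z_mem _ h₂) _ _).mul_left (bp_comm (L.E_comm _ h₁ _ h₂) _ _)
  calc bp L.z u.1 * bp L.z v.1 * (bp e₁ u.2.1 * bp e₁ v.2.1) * (bp e₂ u.2.2 * bp e₂ v.2.2)
      = bp L.z u.1 * (bp L.z v.1 * bp e₁ u.2.1) * bp e₁ v.2.1 * bp e₂ u.2.2 * bp e₂ v.2.2 := by group
    _ = bp L.z u.1 * bp e₁ u.2.1 * ((bp L.z v.1 * bp e₁ v.2.1) * bp e₂ u.2.2) * bp e₂ v.2.2 := by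
        rw [c1.eq]; group
    _ = _ := by rw [c2.eq]; group

/-- A basis of the four group. -/
structure Basis where
  e₁ : G
  e₂ : G
  h₁ : e₁ ∈ L.E
  h₂ : e₂ ∈ L.E
  n₁ : e₁ ≠ 1
  n₁' : e₁ ≠ L.z
  n₂ : e₂ ≠ 1
  n₂' : e₂ ≠ L.z
  n₂'' : e₂ ≠ e₁
  n₂''' : e₂ ≠ L.z * e₁

namespace Basis

variable {L} (b : L.Basis)

/-- The vectors. -/
def v (u : Bits) : G := L.vec b.e₁ b.e₂ u

theorem v_mem (u : Bits) : b.v u ∈ L.E := L.vec_mem b.h₁ b.h₂ u

theorem v_xor (u w : Bits) : b.v (bxor u w) = b.v u * b.v w := L.vec_xor b.h₁ b.h₂ u w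

theorem v_inj : Function.Injective b.v := by
  intro u w e
  have h : b.v (bxor u w) = 1 := by rw [b.v_xor, e]; exact L.E_sq _ (b.v_mem w)
  have hb : bxor u w = (false, false, false) := by
    generalize bxor u w = t at h
    obtain ⟨x, y, t⟩ := t
    have i1 : b.e₁⁻¹ = b.e₁ := inv_eq_of_mul_eq_one_right (L.E_sq _ b.h₁)
    cases x <;> cases y <;> cases t <;> simp [v, vec, bp] at h ⊢
    · exact b.n₂ h
    · exact b.n₁ h
    · exact b.n₂'' (by rw [← i1]; exact eq_inv_of_mul_eq_one_right h)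
    · exact L.z_ne h
    · exact b.n₂' (by rw [eq_inv_of_mul_eq_one_right h, inv_eq_of_mul_eq_one_right L.zz])
    · exact b.n₁' (by rw [eq_inv_of_mul_eq_one_right h, inv_eq_of_mul_eq_one_right L.zz])
    · exact b.n₂''' (by
        rw [eq_inv_of_mul_eq_one_right h, mul_inv_rev, i1, inv_eq_of_mul_eq_one_right L.zz,
          L.E_comm _ b.h₁ _ L.z_mem])
  exact bxor_eq u w hb

theorem v_surj {x : G} (hx : x ∈ L.E) : ∃ u, b.v u = x := by
  haveI : Finite L.E := Nat.finite_of_card_ne_zero (by rw [L.card_E]; norm_num)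
  have hb : Function.Bijective (fun u : Bits => (⟨b.v u, b.v_mem u⟩ : L.E)) := by
    rw [Nat.bijective_iff_injective_and_card]
    refine ⟨fun u w e => b.v_inj (congrArg Subtype.val e), ?_⟩
    rw [L.card_E, Nat.card_eq_fintype_card]; rfl
  obtain ⟨u, hu⟩ := hb.2 ⟨x, hx⟩
  exact ⟨u, congrArg Subtype.val hu⟩

theorem v_z : b.v (true, false, false) = L.z := by simp [v, vec, bp]

theorem v_one : b.v (false, true, false) = b.e₁ := by simp [v, vec, bp]

theorem v_two : b.v (false, false, true) = b.e₂ := by simp [v, vec, bp]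

theorem v_zero : b.v (false, false, false) = 1 := by simp [v, vec, bp]

/-- Coordinates. -/
noncomputable def co (x : G) (hx : x ∈ L.E) : Bits := (b.v_surj hx).choose

theorem v_co (x : G) (hx : x ∈ L.E) : b.v (b.co x hx) = x := (b.v_surj hx).choose_spec

/-- An element commuting with the basis centralises the four group. -/
theorem fix_all {m : G} (hz : m * L.z * m⁻¹ = L.z) (h1 : m * b.e₁ * m⁻¹ = b.e₁)
    (h2 : m * b.e₂ * m⁻¹ = b.e₂) : ∀ e ∈ L.E, m * e = e * m := by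
  intro e he
  obtain ⟨u, rfl⟩ := b.v_surj he
  have c : ∀ {y : G}, m * y * m⁻¹ = y → ∀ t, Commute m (bp y t) := by
    intro y hy t
    cases t
    · exact Commute.one_right m
    · exact mul_inv_eq_iff_eq_mul.1 hy
  exact (((c hz u.1).mul_right (c h1 u.2.1)).mul_right (c h2 u.2.2)).eq

/-- The images of the basis. -/
noncomputable def img (m : L.M) : Bits × Bits × Bits :=
  (b.co _ (L.E_norm m m.2 _ L.z_mem), b.co _ (L.E_norm m m.2 _ b.h₁),
    b.co _ (L.E_norm m m.2 _ b.h₂))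

theorem img_indep (m : L.M) : Indep (b.img m) := by
  have hj : Function.Injective fun y : G => (m : G) * y * (m : G)⁻¹ := fun x y e =>
    mul_left_cancel (mul_right_cancel e)
  have ne : ∀ {x y : G} (hx : x ∈ L.E) (hy : y ∈ L.E), x ≠ y →
      b.co _ (L.E_norm m m.2 _ hx) ≠ b.co _ (L.E_norm m m.2 _ hy) := by
    intro x y hx hy hne e
    exact hne (hj ((b.v_co _ (L.E_norm m m.2 _ hx)).symm.trans
      ((congrArg b.v e).trans (b.v_co _ (L.E_norm m m.2 _ hy)))))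
  have ne0 : ∀ {x : G} (hx : x ∈ L.E), x ≠ 1 →
      b.co _ (L.E_norm m m.2 _ hx) ≠ (false, false, false) := by
    intro x hx hne e
    have := b.v_co _ (L.E_norm m m.2 _ hx)
    rw [e, b.v_zero] at this
    exact hne (conj_eq_one_iff.1 this.symm)
  refine ⟨ne0 L.z_mem L.z_ne, ne0 b.h₁ b.n₁, ne b.h₁ L.z_mem b.n₁', ne0 b.h₂ b.n₂, ne b.h₂ L.z_mem b.n₂',
    ne b.h₂ b.h₁ b.n₂'', fun e => b.n₂''' (hj ?_)⟩
  show (m : G) * b.e₂ * (m : G)⁻¹ = (m : G) * (L.z * b.e₁) * (m : G)⁻¹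
  simp only [img] at e
  rw [← b.v_co _ (L.E_norm m m.2 _ b.h₂), e, b.v_xor, b.v_co, b.v_co]
  group

theorem img_eq_iff {m n : L.M} (h : b.img m = b.img n) : (m⁻¹ * n : L.M).1 ∈ L.E := by
  simp only [img, Prod.mk.injEq] at h
  have key : ∀ {x : G} (hx : x ∈ L.E),
      b.co _ (L.E_norm m m.2 _ hx) = b.co _ (L.E_norm n n.2 _ hx) →
        ((m : G)⁻¹ * n) * x * ((m : G)⁻¹ * n)⁻¹ = x := by
    intro x hx e
    have e' : (m : G) * x * (m : G)⁻¹ = (n : G) * x * (n : G)⁻¹ :=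
      (b.v_co _ (L.E_norm m m.2 _ hx)).symm.trans
        ((congrArg b.v e).trans (b.v_co _ (L.E_norm n n.2 _ hx)))
    calc ((m : G)⁻¹ * n) * x * ((m : G)⁻¹ * n)⁻¹ = (m : G)⁻¹ * ((n : G) * x * (n : G)⁻¹) * m := by group
      _ = x := by rw [← e']; group
  exact L.cent _ (L.M.mul_mem (L.M.inv_mem m.2) n.2)
    (b.fix_all (key L.z_mem h.1) (key b.h₁ h.2.1) (key b.h₂ h.2.2))

theorem img_congr {m n : L.M}
    (h : ∀ y ∈ L.E, (m : G) * y * (m : G)⁻¹ = (n : G) * y * (n : G)⁻¹) : b.img m = b.img n := by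
  have key : ∀ {y : G} (hy : y ∈ L.E),
      b.co _ (L.E_norm m m.2 _ hy) = b.co _ (L.E_norm n n.2 _ hy) := fun {y} hy => b.v_inj
    ((b.v_co _ (L.E_norm m m.2 _ hy)).trans ((h y hy).trans (b.v_co _ (L.E_norm n n.2 _ hy)).symm))
  simp only [img, key L.z_mem, key b.h₁, key b.h₂]

theorem exists_img {t : Bits × Bits × Bits} (ht : Indep t) : ∃ m : L.M, b.img m = t := by
  classical
  haveI : Finite L.M := Nat.finite_of_card_ne_zero (by rw [L.card_M]; norm_num)
  let f : L.M ⧸ L.E.subgroupOf L.M → {v : Bits × Bits × Bits // Indep v} :=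
    fun q => ⟨b.img q.out, b.img_indep q.out⟩
  have hf : Function.Injective f := by
    intro p q e
    rw [← QuotientGroup.out_eq' p, ← QuotientGroup.out_eq' q, QuotientGroup.eq]
    exact Subgroup.mem_subgroupOf.2 (b.img_eq_iff (congrArg Subtype.val e))
  have hc : Nat.card (L.M ⧸ L.E.subgroupOf L.M) = 168 := by
    have h := Subgroup.card_eq_card_quotient_mul_card_subgroup (L.E.subgroupOf L.M)
    rw [L.card_M, Nat.card_congr (Subgroup.subgroupOfEquivOfLe L.E_le).toEquiv, L.card_E] at h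
    omega
  have hb : Function.Bijective f :=
    (Nat.bijective_iff_injective_and_card f).2 ⟨hf, by rw [hc, card_indep]⟩
  obtain ⟨q, hq⟩ := hb.2 ⟨t, ht⟩
  exact ⟨q.out, congrArg Subtype.val hq⟩

/-- Every independent triple is an image of the basis under the second local subgroup. -/
theorem exists_move (x y w : Bits) (h : Indep (x, y, w)) :
    ∃ m ∈ L.M, m * L.z * m⁻¹ = b.v x ∧ m * b.e₁ * m⁻¹ = b.v y ∧ m * b.e₂ * m⁻¹ = b.v w := by
  obtain ⟨m, hm⟩ := b.exists_img h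
  simp only [img, Prod.mk.injEq] at hm
  exact ⟨m, m.2, by rw [← hm.1, b.v_co], by rw [← hm.2.1, b.v_co], by rw [← hm.2.2, b.v_co]⟩

end Basis

theorem exists_notMem {α : Type*} [Fintype α] {s : Finset α} (h : s.card < Fintype.card α) :
    ∃ x, x ∉ s := by
  by_contra! hc
  rw [Finset.eq_univ_of_forall hc, Finset.card_univ] at h
  exact lt_irrefl _ h

set_option maxHeartbeats 800000 in
theorem exists_basis : Nonempty L.Basis := by
  classical
  haveI : Finite L.E := Nat.finite_of_card_ne_zero (by rw [L.card_E]; norm_num)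
  haveI : Fintype L.E := Fintype.ofFinite _
  have hc : Fintype.card L.E = 8 := by rw [← Nat.card_eq_fintype_card, L.card_E]
  obtain ⟨⟨e₁, he₁⟩, hn₁⟩ : ∃ e : L.E, e ∉ ({1, ⟨L.z, L.z_mem⟩} : Finset L.E) :=
    exists_notMem (lt_of_le_of_lt Finset.card_le_two (by omega))
  obtain ⟨⟨e₂, he₂⟩, hn₂⟩ : ∃ e : L.E,
      e ∉ ({1, ⟨L.z, L.z_mem⟩, ⟨e₁, he₁⟩, ⟨L.z * e₁, L.E.mul_mem L.z_mem he₁⟩} : Finset L.E) :=
    exists_notMem (lt_of_le_of_lt Finset.card_le_four (by omega))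
  simp only [Finset.mem_insert, Finset.mem_singleton, not_or, ← Subtype.coe_inj,
    OneMemClass.coe_one] at hn₁ hn₂
  exact ⟨⟨e₁, e₂, he₁, he₂, hn₁.1, hn₁.2, hn₂.1, hn₂.2.1, hn₂.2.2.1, hn₂.2.2.2⟩⟩

theorem card_inter : Nat.card (L.M ⊓ L.H : Subgroup G) = 192 := by
  classical
  obtain ⟨b⟩ := L.exists_basis
  haveI : Finite L.M := Nat.finite_of_card_ne_zero (by rw [L.card_M]; norm_num)
  set K : Subgroup G := L.M ⊓ L.H with hK
  haveI : Finite K := Finite.of_injective (Subgroup.inclusion (inf_le_left : K ≤ L.M))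
    (Subgroup.inclusion_injective _)
  have hEK : L.E ≤ K := le_inf L.E_le L.E_le_H
  let T := {v : {v : Bits × Bits × Bits // Indep v} // v.1.1 = (true, false, false)}
  let f : K → T := fun k => ⟨⟨b.img ⟨k, k.2.1⟩, b.img_indep _⟩, b.v_inj (by
    show b.v (b.co _ (L.E_norm (k : G) k.2.1 _ L.z_mem)) = b.v (true, false, false)
    rw [b.v_co, b.v_z]
    exact mul_inv_eq_iff_eq_mul.2 (L.mem_H_iff.1 k.2.2))⟩
  have hsurj : Function.Surjective f := by
    rintro ⟨⟨t, ht⟩, h1⟩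
    obtain ⟨m, hm⟩ := b.exists_img ht
    refine ⟨⟨m, m.2, L.mem_H_iff.2 (mul_inv_eq_iff_eq_mul.1 ?_)⟩,
      Subtype.ext (Subtype.ext hm)⟩
    have h1' : t.1 = (true, false, false) := h1
    rw [← hm] at h1'
    have h2 := b.v_co _ (L.E_norm m m.2 _ L.z_mem)
    rw [show b.co _ (L.E_norm m m.2 _ L.z_mem) = _ from h1', b.v_z] at h2
    exact h2.symm
  let g : K ⧸ L.E.subgroupOf K → T := fun q => f q.out
  have ginj : Function.Injective g := by
    intro p q e
    rw [← QuotientGroup.out_eq' p, ← QuotientGroup.out_eq' q, QuotientGroup.eq]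
    exact Subgroup.mem_subgroupOf.2
      (b.img_eq_iff (congrArg (fun x : T => x.1.1) e) : _)
  have gsurj : Function.Surjective g := by
    intro t
    obtain ⟨k, rfl⟩ := hsurj t
    refine ⟨QuotientGroup.mk k, ?_⟩
    obtain ⟨e, he⟩ := QuotientGroup.mk_out_eq_mul (L.E.subgroupOf K) k
    refine Subtype.ext (Subtype.ext ?_)
    show b.img _ = b.img _
    have hfix : ∀ x ∈ L.E, ((QuotientGroup.mk k : K ⧸ L.E.subgroupOf K).out : G) * x *
        ((QuotientGroup.mk k : K ⧸ L.E.subgroupOf K).out : G)⁻¹ = (k : G) * x * (k : G)⁻¹ := by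
      intro x hx
      rw [show ((QuotientGroup.mk k : K ⧸ L.E.subgroupOf K).out : G) = k * (e : K) from
        congrArg Subtype.val he]
      have := L.E_comm _ (Subgroup.mem_subgroupOf.1 e.2) x hx
      calc _ = (k : G) * ((e : K) * x * ((e : K) : G)⁻¹) * (k : G)⁻¹ := by group
        _ = _ := by rw [this, mul_inv_cancel_right]
    exact b.img_congr hfix
  have hq : Nat.card (K ⧸ L.E.subgroupOf K) = 24 := by
    rw [Nat.card_eq_of_bijective g ⟨ginj, gsurj⟩, Nat.card_eq_fintype_card]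
    exact card_indep_first _ (by decide)
  rw [Subgroup.card_eq_card_quotient_mul_card_subgroup (L.E.subgroupOf K), hq,
    Nat.card_congr (Subgroup.subgroupOfEquivOfLe hEK).toEquiv, L.card_E]

theorem quat_le {p : SL × SL} (h₁ : p.1 ^ 4 = 1) (h₂ : p.2 ^ 4 = 1) : L.φ p ∈ L.M := by
  classical
  haveI : Finite L.H := Nat.finite_of_card_ne_zero (by rw [L.card_H]; norm_num)
  haveI : Fact (Nat.Prime 2) := ⟨Nat.prime_two⟩
  let φ' : SL × SL →* L.H := L.φ.codRestrict L.H L.mem_H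
  let Q : Subgroup L.H := (Q8S.prod Q8S).map φ'
  have hQn : Q.Normal := by
    refine ⟨?_⟩
    rintro _ ⟨⟨a, b⟩, ⟨ha, hb⟩, rfl⟩ h
    obtain ⟨a', ha'⟩ := L.norm1 h h.2 a
    obtain ⟨b', hb'⟩ := L.norm2 h h.2 b
    refine ⟨(a', b'), ⟨?_, ?_⟩, Subtype.ext ?_⟩
    · refine mem_Q8S.2 (L.φ_left_inj ?_)
      rw [show ((a' ^ 4, 1) : SL × SL) = (a', 1) ^ 4 by simp, map_pow, ← ha', conj_pow, ← map_pow,
        show ((a, 1) : SL × SL) ^ 4 = 1 by simp [mem_Q8S.1 ha], map_one, mul_one, mul_inv_cancel]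
      exact (map_one L.φ).symm
    · refine mem_Q8S.2 (L.φ_right_inj ?_)
      rw [show ((1, b' ^ 4) : SL × SL) = (1, b') ^ 4 by simp, map_pow, ← hb', conj_pow, ← map_pow,
        show ((1, b) : SL × SL) ^ 4 = 1 by simp [mem_Q8S.1 hb], map_one, mul_one, mul_inv_cancel]
      exact (map_one L.φ).symm
    · show L.φ (a', b') = (h : G) * L.φ (a, b) * (h : G)⁻¹
      rw [L.φ_mul_left, L.φ_mul_left a, ← ha', ← hb']
      group
  have hQp : IsPGroup 2 Q := by
    refine IsPGroup.map (fun g => ⟨2, Subtype.ext ?_⟩) φ'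
    obtain ⟨⟨a, b⟩, ha, hb⟩ := g
    show ((a, b) : SL × SL) ^ (2 ^ 2) = 1
    rw [Prod.pow_mk, show (2 : ℕ) ^ 2 = 4 by norm_num, mem_Q8S.1 ha, mem_Q8S.1 hb,
      Prod.mk_one_one]
  let R : Subgroup L.H := (L.M ⊓ L.H).subgroupOf L.H
  have hR : Nat.card R = 192 := by
    rw [Nat.card_congr (Subgroup.subgroupOfEquivOfLe inf_le_right).toEquiv, L.card_inter]
  obtain ⟨S⟩ : Nonempty (Sylow 2 R) := inferInstance
  have hfac : (192 : ℕ).factorization 2 = 6 := by
    rw [show (192 : ℕ) = 2 ^ 6 * 3 by norm_num, Nat.factorization_mul (by norm_num) (by norm_num),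
      Nat.Prime.factorization_pow Nat.prime_two]
    simp [Nat.Prime.factorization Nat.prime_three]
  have hfac' : (576 : ℕ).factorization 2 = 6 := by
    rw [show (576 : ℕ) = 2 ^ 6 * 3 ^ 2 by norm_num, Nat.factorization_mul (by norm_num) (by norm_num),
      Nat.Prime.factorization_pow Nat.prime_two, Nat.Prime.factorization_pow Nat.prime_three]
    simp
  have hS : Nat.card ((S : Subgroup R).map R.subtype) = 2 ^ (Nat.card L.H).factorization 2 := by
    rw [Subgroup.card_map_of_injective R.subtype_injective, S.card_eq_multiplicity, hR, L.card_H,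
      hfac, hfac']
  let P : Sylow 2 L.H := Sylow.ofCard _ hS
  have hle : Q ⊔ (P : Subgroup L.H) = P :=
    P.is_maximal' (IsPGroup.to_sup_of_normal_left hQp P.isPGroup') le_sup_right
  have hp : (⟨L.φ p, L.mem_H p⟩ : L.H) ∈ ((S : Subgroup R).map R.subtype) := by
    show _ ∈ (P : Subgroup L.H)
    rw [← hle]
    exact Subgroup.mem_sup_left ⟨p, ⟨h₁, h₂⟩, rfl⟩
  obtain ⟨r, -, hr⟩ := hp
  have := (Subgroup.mem_subgroupOf.1 r.2).1
  rwa [show ((r : L.H) : G) = L.φ p from congrArg Subtype.val hr] at this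

theorem conj_quat {e : G} (he : e ∈ L.E) {a b : SL} (ha : a ^ 4 = 1) (hb : b ^ 4 = 1) :
    L.φ (a, b) * e * (L.φ (a, b))⁻¹ = e ∨ L.φ (a, b) * e * (L.φ (a, b))⁻¹ = L.z * e := by
  have one : ∀ p : SL × SL, p.1 ^ 4 = 1 → p.2 ^ 4 = 1 → (∃ c, e * L.φ p * e⁻¹ = c ∧
      ((c * (L.φ p)⁻¹) * (c * (L.φ p)⁻¹) = 1 → c * (L.φ p)⁻¹ = 1 ∨ c * (L.φ p)⁻¹ = L.z)) →
      L.φ p * e * (L.φ p)⁻¹ = e ∨ L.φ p * e * (L.φ p)⁻¹ = L.z * e := by
    intro p h1 h2 ⟨c, hc, hd⟩
    have hE : c * (L.φ p)⁻¹ ∈ L.E := by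
      rw [← hc, show e * L.φ p * e⁻¹ * (L.φ p)⁻¹ = e * (L.φ p * e⁻¹ * (L.φ p)⁻¹) by group]
      exact L.E.mul_mem he (L.E_norm _ (L.quat_le h1 h2) _ (L.E.inv_mem he))
    have hi : (L.φ p * e * (L.φ p)⁻¹) * e⁻¹ = (c * (L.φ p)⁻¹)⁻¹ := by
      rw [← hc]; group
    rw [inv_eq_of_mul_eq_one_right (L.E_sq _ hE)] at hi
    rcases hd (L.E_sq _ hE) with h | h
    · exact Or.inl (mul_inv_eq_one.1 (hi.trans h))
    · exact Or.inr (mul_inv_eq_iff_eq_mul.1 (hi.trans h))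
  have h1 := one (a, 1) ha (one_pow 4) (by
    obtain ⟨a', ha'⟩ := L.norm1 e (L.E_le_H he) a
    refine ⟨_, ha', ?_⟩
    rw [← map_inv, ← map_mul, Prod.inv_mk, inv_one, Prod.mk_mul_mk, one_mul]
    exact L.invol_left)
  have h2 := one (1, b) (one_pow 4) hb (by
    obtain ⟨b', hb'⟩ := L.norm2 e (L.E_le_H he) b
    refine ⟨_, hb', ?_⟩
    rw [← map_inv, ← map_mul, Prod.inv_mk, inv_one, Prod.mk_mul_mk, one_mul]
    exact L.invol_right)
  have hz : L.φ (a, 1) * L.z * (L.φ (a, 1))⁻¹ = L.z :=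
    mul_inv_eq_iff_eq_mul.2 (L.mem_H_iff.1 (L.mem_H _))
  have key : L.φ (a, b) * e * (L.φ (a, b))⁻¹ =
      L.φ (a, 1) * (L.φ (1, b) * e * (L.φ (1, b))⁻¹) * (L.φ (a, 1))⁻¹ := by
    rw [L.φ_mul_left]; group
  rw [key]
  rcases h2 with h2 | h2 <;> rw [h2]
  · exact h1
  · rw [← conj_mul, hz]
    rcases h1 with h1 | h1 <;> rw [h1]
    · exact Or.inr rfl
    · exact Or.inl (by rw [← mul_assoc, L.zz, one_mul])

/-- The four group consists of products of quaternion elements. -/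
theorem exists_quat {e : G} (he : e ∈ L.E) : ∃ p : SL × SL, p.1 ^ 4 = 1 ∧ p.2 ^ 4 = 1 ∧ L.φ p = e := by
  classical
  obtain ⟨b⟩ := L.exists_basis
  haveI : Finite L.E := Nat.finite_of_card_ne_zero (by rw [L.card_E]; norm_num)
  let P : Subgroup (SL × SL) := Q8S.prod Q8S
  let S : Subgroup P := (L.E.comap L.φ).subgroupOf P
  let fl : P → Bool × Bool := fun q =>
    (decide (L.φ q * b.e₁ * (L.φ q)⁻¹ = b.e₁), decide (L.φ q * b.e₂ * (L.φ q)⁻¹ = b.e₂))
  have hfl : ∀ q q' : P, fl q = fl q' → q⁻¹ * q' ∈ S := by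
    intro q q' h
    simp only [fl, Prod.mk.injEq, decide_eq_decide] at h
    have same : ∀ {y : G}, y ∈ L.E →
        (L.φ q * y * (L.φ q)⁻¹ = y ↔ L.φ q' * y * (L.φ q')⁻¹ = y) →
        L.φ q * y * (L.φ q)⁻¹ = L.φ q' * y * (L.φ q')⁻¹ := by
      intro y hy hiff
      rcases L.conj_quat hy q.2.1 q.2.2 with a1 | a1 <;>
        rcases L.conj_quat hy q'.2.1 q'.2.2 with a2 | a2
      · exact a1.trans a2.symm
      · exact a1.trans (hiff.1 a1).symm
      · exact (hiff.2 a2).trans a2.symm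
      · exact a1.trans a2.symm
    have mk : ∀ {y : G}, L.φ q * y * (L.φ q)⁻¹ = L.φ q' * y * (L.φ q')⁻¹ →
        L.φ (q⁻¹ * q' : P) * y * (L.φ (q⁻¹ * q' : P))⁻¹ = y := by
      intro y hy
      rw [Subgroup.coe_mul, Subgroup.coe_inv, map_mul, map_inv]
      calc _ = (L.φ q)⁻¹ * (L.φ q' * y * (L.φ q')⁻¹) * L.φ q := by group
        _ = y := by rw [← hy]; group
    refine Subgroup.mem_subgroupOf.2 (L.cent _ (L.quat_le (q⁻¹ * q').2.1 (q⁻¹ * q').2.2)
      (b.fix_all ?_ (mk (same b.h₁ h.1)) (mk (same b.h₂ h.2))))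
    exact mul_inv_eq_iff_eq_mul.2 (L.mem_H_iff.1 (L.mem_H _))
  let g : P ⧸ S → Bool × Bool := fun q => fl q.out
  have ginj : Function.Injective g := by
    intro p q e
    rw [← QuotientGroup.out_eq' p, ← QuotientGroup.out_eq' q, QuotientGroup.eq]
    exact hfl _ _ e
  have hidx : Nat.card (P ⧸ S) ≤ 4 := by
    refine (Nat.card_le_card_of_injective g ginj).trans (le_of_eq ?_)
    rw [Nat.card_eq_fintype_card]; rfl
  have hP : Nat.card P = 64 := by
    rw [Nat.card_congr (Subgroup.prodEquiv Q8S Q8S).toEquiv, Nat.card_prod, card_Q8S]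
  have hS : 16 ≤ Nat.card S := by
    have h := Subgroup.card_eq_card_quotient_mul_card_subgroup S
    rw [hP] at h
    nlinarith
  let θ : S →* L.E :=
    (L.φ.comp (P.subtype.comp S.subtype)).codRestrict L.E fun s => Subgroup.mem_subgroupOf.1 s.2
  have hker : Nat.card θ.ker ≤ 2 := by
    let k : θ.ker → Bool := fun x => decide ((((x : S) : P) : SL × SL) = 1)
    refine (Nat.card_le_card_of_injective k ?_).trans (by simp)
    intro x y e
    have hx := L.ker _ (congrArg Subtype.val (MonoidHom.mem_ker.1 x.2))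
    have hy := L.ker _ (congrArg Subtype.val (MonoidHom.mem_ker.1 y.2))
    simp only [k, decide_eq_decide] at e
    refine Subtype.ext (Subtype.ext (Subtype.ext ?_))
    rcases hx with hx | hx <;> rcases hy with hy | hy
    · exact hx.trans hy.symm
    · exact hx.trans (e.1 hx).symm
    · exact (e.2 hy).trans hy.symm
    · exact hx.trans hy.symm
  have hrange : θ.range = ⊤ := by
    refine Subgroup.eq_top_of_card_eq _ (le_antisymm (Subgroup.card_le_card_group _) ?_)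
    rw [L.card_E]
    have h := Subgroup.card_eq_card_quotient_mul_card_subgroup θ.ker
    rw [Nat.card_congr (QuotientGroup.quotientKerEquivRange θ).toEquiv] at h
    nlinarith
  obtain ⟨s, hs⟩ := MonoidHom.mem_range.1 (hrange ▸ Subgroup.mem_top (⟨e, he⟩ : L.E))
  exact ⟨((s : P) : SL × SL), (s : P).2.1, (s : P).2.2, congrArg Subtype.val hs⟩

theorem exists_gen {e : G} (he : e ∈ L.E) (h1 : e ≠ 1) (hz : e ≠ L.z) :
    ∃ a b : SL, a * a = N ∧ b * b = N ∧ L.φ (a, b) = e := by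
  obtain ⟨⟨a, b⟩, ha, hb, rfl⟩ := L.exists_quat he
  have hsq := L.E_sq _ he
  rw [← map_mul] at hsq
  rcases sq_quat a ha with rfl | rfl | ha' <;> rcases sq_quat b hb with rfl | rfl | hb'
  · exact absurd (map_one L.φ) h1
  · exact absurd L.N_right hz
  · rcases L.ker _ hsq with h | h
    · exact absurd (hb'.symm.trans (congrArg Prod.snd h)) N_ne_one
    · exact absurd ((one_mul (1 : SL)).symm.trans (congrArg Prod.fst h)) (Ne.symm N_ne_one)
  · exact absurd L.N_left hz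
  · exact absurd L.φ_NN h1
  · rcases L.ker _ hsq with h | h
    · exact absurd (hb'.symm.trans (congrArg Prod.snd h)) N_ne_one
    · exact absurd (N_mul_self.symm.trans (congrArg Prod.fst h)) (Ne.symm N_ne_one)
  · rcases L.ker _ hsq with h | h
    · exact absurd (ha'.symm.trans (congrArg Prod.fst h)) N_ne_one
    · exact absurd ((one_mul (1 : SL)).symm.trans (congrArg Prod.snd h)) (Ne.symm N_ne_one)
  · rcases L.ker _ hsq with h | h
    · exact absurd (ha'.symm.trans (congrArg Prod.fst h)) N_ne_one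
    · exact absurd (N_mul_self.symm.trans (congrArg Prod.snd h)) (Ne.symm N_ne_one)
  · exact ⟨a, b, ha', hb', rfl⟩

end Loc

end CfsgLib.G2Rec
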