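import Cfsg.Agent.G2Rec.FrameGens
import Cfsg.Agent.G2Rec.Data.ColC
import Cfsg.Agent.G2Rec.Data.ColS0
import Cfsg.Agent.G2Rec.Data.ColS1

/-!
The element interchanging `z` with a second involution of the four group.
-/

set_option autoImplicit false
set_option linter.style.haveILetI false
set_option linter.unusedSimpArgs false

namespace CfsgLib.G2Rec

open CfsgLib.CosetEnum CfsgLib.UFourType.Frame
open CfsgLib.UFourType (invW)
open CfsgLib.MTwelveUnique

variable {G : Type*} [Group G]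

/-- The linear map with the given images of the three basis vectors. -/
def lin (p q r c : Bits) : Bits :=
  bxor (bxor (if c.1 then p else (false, false, false)) (if c.2.1 then q else (false, false, false)))
    (if c.2.2 then r else (false, false, false))

namespace Loc.Basis

variable {L : Loc G} (b : L.Basis)

theorem v_split (c : Bits) :
    b.v c = b.v (c.1, false, false) * b.v (false, c.2.1, false) * b.v (false, false, c.2.2) := by
  rw [← b.v_xor, ← b.v_xor]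
  congr 1
  obtain ⟨x, y, w⟩ := c
  cases x <;> cases y <;> cases w <;> rfl

theorem conj_v {y : G} {p q r : Bits} (hz : y * L.z * y⁻¹ = b.v p) (h1 : y * b.e₁ * y⁻¹ = b.v q)
    (h2 : y * b.e₂ * y⁻¹ = b.v r) (c : Bits) : y * b.v c * y⁻¹ = b.v (lin p q r c) := by
  have key : ∀ (t : Bool) {u : G} {s : Bits}, y * u * y⁻¹ = b.v s →
      y * Loc.bp u t * y⁻¹ = b.v (if t then s else (false, false, false)) := by
    intro t u s h
    cases t
    · simp [Loc.bp, b.v_zero]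
    · simpa [Loc.bp] using h
  calc y * b.v c * y⁻¹
      = (y * Loc.bp L.z c.1 * y⁻¹) * (y * Loc.bp b.e₁ c.2.1 * y⁻¹) *
          (y * Loc.bp b.e₂ c.2.2 * y⁻¹) := by rw [v, Loc.vec]; group
    _ = _ := by rw [key _ hz, key _ h1, key _ h2, ← b.v_xor, ← b.v_xor, lin]

theorem pow_conj_v {y : G} {p q r : Bits} (hz : y * L.z * y⁻¹ = b.v p) (h1 : y * b.e₁ * y⁻¹ = b.v q)
    (h2 : y * b.e₂ * y⁻¹ = b.v r) : ∀ (n : ℕ) (c : Bits),
      y ^ n * b.v c * (y ^ n)⁻¹ = b.v ((lin p q r)^[n] c) := by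
  intro n
  induction n with
  | zero => intro c; simp
  | succ n ih =>
    intro c
    rw [Function.iterate_succ', Function.comp, ← b.conj_v hz h1 h2, ← ih c, pow_succ', mul_inv_rev]
    group

/-- A power fixing the four group is a vector fixed by the map. -/
theorem pow_mem_fixed {y : G} (hy : y ∈ L.M) {p q r : Bits} (hz : y * L.z * y⁻¹ = b.v p)
    (h1 : y * b.e₁ * y⁻¹ = b.v q) (h2 : y * b.e₂ * y⁻¹ = b.v r) (n : ℕ)
    (hn : ∀ c, (lin p q r)^[n] c = c) : ∃ c, y ^ n = b.v c ∧ lin p q r c = c := by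
  have hmem : y ^ n ∈ L.E := by
    refine L.cent _ (L.M.pow_mem hy n) fun e he => ?_
    obtain ⟨c, rfl⟩ := b.v_surj he
    exact mul_inv_eq_iff_eq_mul.1 ((b.pow_conj_v hz h1 h2 n c).trans (congrArg b.v (hn c)))
  obtain ⟨c, hc⟩ := b.v_surj hmem
  refine ⟨c, hc.symm, b.v_inj ?_⟩
  rw [← b.conj_v hz h1 h2, hc, mul_inv_eq_iff_eq_mul]
  exact (Commute.self_pow y n).eq

end Loc.Basis

namespace Axes

variable {L : Loc G} {A : Axes L}

variable (A) in
/-- An element interchanging `z` and `i * a`, fixing `j * b`, with `g i g⁻¹ = x t`. -/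
structure Move (x g : G) : Prop where
  memM : g ∈ L.M
  z : g * L.z * g⁻¹ = L.φ (A.i, A.a)
  e₁ : g * L.φ (A.i, A.a) * g⁻¹ = L.z
  e₂ : g * L.φ (A.j, A.b) * g⁻¹ = L.φ (A.j, A.b)
  i : g * L.φ (A.i, 1) * g⁻¹ = x * A.t

theorem val_t (x g : G) : prodw (A.val x g) tW = A.t := by
  simp only [tW, prodw, val, gens, List.map_cons, List.map_nil, List.prod_cons, List.prod_nil,
    mul_one, ← map_mul, Prod.mk_mul_mk, one_mul, Axes.t]

theorem val_e₁ (x g : G) : prodw (A.val x g) e1W = L.φ (A.i, A.a) := by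
  simp only [e1W, prodw, val, gens, List.map_cons, List.map_nil, List.prod_cons, List.prod_nil,
    mul_one, ← map_mul, Prod.mk_mul_mk, one_mul]

theorem val_e₂ (x g : G) : prodw (A.val x g) e2W = L.φ (A.j, A.b) := by
  simp only [e2W, prodw, val, gens, List.map_cons, List.map_nil, List.prod_cons, List.prod_nil,
    mul_one, ← map_inv, ← map_mul, Prod.inv_mk, Prod.mk_mul_mk, inv_one, one_mul]
  rw [← A.s_i, ← A.q_a, mul_assoc, mul_assoc]

theorem conj_left {h : SL} (p : SL × SL) :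
    L.φ p * L.φ (h, 1) * (L.φ p)⁻¹ = L.φ (p.1 * h * p.1⁻¹, 1) := by
  obtain ⟨a, b⟩ := p
  rw [← map_inv, ← map_mul, ← map_mul, Prod.inv_mk, Prod.mk_mul_mk, Prod.mk_mul_mk, mul_one,
    mul_inv_cancel]

theorem exists_move_of_swap (A : Axes L) {x₀ : G} (hx₀ : A.Swap x₀) :
    ∃ x g, A.Swap x ∧ A.Move x g := by
  obtain ⟨g, hgM, hgz, hg1, hg2⟩ := A.basis.exists_move (false, true, false) (true, false, false)
    (false, false, true) (by decide)
  rw [A.basis.v_one] at hgz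
  rw [A.basis.v_z] at hg1
  rw [A.basis.v_two] at hg2
  change g * L.z * g⁻¹ = L.φ (A.i, A.a) at hgz
  change g * L.φ (A.i, A.a) * g⁻¹ = L.z at hg1
  change g * L.φ (A.j, A.b) * g⁻¹ = L.φ (A.j, A.b) at hg2
  set e₁ := L.φ (A.i, A.a) with hd1
  set e₂ := L.φ (A.j, A.b) with hd2
  set u := L.φ (A.i, 1) with hu
  have hiM : u ∈ L.M := L.quat_le (p := (A.i, 1)) (four_of_sq _ A.i_sq) (one_pow 4)
  have huz : u * L.z * u⁻¹ = L.z := conj_z (L.mem_H _)
  have hu1 : u * e₁ * u⁻¹ = e₁ := by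
    rw [hu, hd1, ← map_inv, ← map_mul, ← map_mul, Prod.inv_mk, Prod.mk_mul_mk, Prod.mk_mul_mk,
      mul_inv_cancel_right, one_mul, inv_one, mul_one]
  have hu2 : u * e₂ * u⁻¹ = e₂ * L.z := by
    rw [hu, hd2, ← map_inv, ← map_mul, ← map_mul, Prod.inv_mk, Prod.mk_mul_mk, Prod.mk_mul_mk,
      (anti A.i A.i_sq A.j A.j_sq A.ij).1, one_mul, inv_one, mul_one, ← L.N_left, ← map_mul,
      Prod.mk_mul_mk, mul_one]
  set w := g * u * g⁻¹ with hw
  have move : ∀ {v v' : G}, g * v * g⁻¹ = v' → w * v' * w⁻¹ = g * (u * v * u⁻¹) * g⁻¹ := by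
    intro v v' h
    rw [hw, ← h]; group
  have w1 : w * L.z * w⁻¹ = L.z := by rw [move hg1, hu1, hg1]
  have w0 : w * e₁ * w⁻¹ = e₁ := by rw [move hgz, huz, hgz]
  have w2 : w * e₂ * w⁻¹ = e₂ * e₁ := by
    rw [move hg2, hu2]
    calc g * (e₂ * L.z) * g⁻¹ = (g * e₂ * g⁻¹) * (g * L.z * g⁻¹) := by group
      _ = _ := by rw [hg2, hgz]
  set r := x₀ * A.t with hr
  have r0 : r * L.z * r⁻¹ = L.z := conj_z (L.H.mul_mem hx₀.memH (L.mem_H _))
  have r1 : r * e₁ * r⁻¹ = e₁ := by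
    calc r * e₁ * r⁻¹ = x₀ * (A.t * e₁ * A.t⁻¹) * x₀⁻¹ := by rw [hr]; group
      _ = _ := by rw [A.t_e₁]; exact hx₀.e₂
  have r2 : r * e₂ * r⁻¹ = e₂ * e₁ := by
    calc r * e₂ * r⁻¹ = x₀ * (A.t * e₂ * A.t⁻¹) * x₀⁻¹ := by rw [hr]; group
      _ = (x₀ * e₁ * x₀⁻¹) * (x₀ * e₂ * x₀⁻¹) := by rw [A.t_e₂, ← hd1, ← hd2]; group
      _ = _ := by rw [hx₀.e₁, hx₀.e₂]
  have hd : r⁻¹ * w ∈ L.E := by
    refine L.cent _ (L.M.mul_mem (L.M.inv_mem (L.M.mul_mem hx₀.memM A.t_mem))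
      (L.M.mul_mem (L.M.mul_mem hgM hiM) (L.M.inv_mem hgM))) (A.basis.fix_all ?_ ?_ ?_)
    · calc r⁻¹ * w * L.z * (r⁻¹ * w)⁻¹ = r⁻¹ * (w * L.z * w⁻¹) * r := by group
        _ = r⁻¹ * (r * L.z * r⁻¹) * r := by rw [w1, r0]
        _ = L.z := by group
    · calc r⁻¹ * w * e₁ * (r⁻¹ * w)⁻¹ = r⁻¹ * (w * e₁ * w⁻¹) * r := by group
        _ = r⁻¹ * (r * e₁ * r⁻¹) * r := by rw [w0, r1]
        _ = e₁ := by group
    · calc r⁻¹ * w * e₂ * (r⁻¹ * w)⁻¹ = r⁻¹ * (w * e₂ * w⁻¹) * r := by group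
        _ = r⁻¹ * (r * e₂ * r⁻¹) * r := by rw [w2, r2]
        _ = e₂ := by group
  obtain ⟨⟨c₀, c₁, c₂⟩, hc⟩ := A.basis.v_surj hd
  have hwr : w = r * A.basis.v (c₀, c₁, c₂) := by rw [hc, mul_inv_cancel_left]
  have rsq : r * r = e₁ := by
    have h := prodw_eq_of_sameB (A.sat_hRels hx₀ 1) (v := [8, 4, 6, 8, 4, 6]) (w := e1W)
      (by decide +kernel)
    rw [A.val_e₁, show [8, 4, 6, 8, 4, 6] = ([8] ++ tW) ++ ([8] ++ tW) from rfl, prodw_append,
      prodw_append, A.val_t] at h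
    simpa [prodw, val, gens, hr] using h
  have hc2 : c₂ = false := by
    cases c₂
    · rfl
    exfalso
    have hcz := L.E_comm _ L.z_mem _ (A.basis.v_mem (c₀, c₁, true))
    have hfix : r⁻¹ * A.basis.v (c₀, c₁, true) * r = e₁ * A.basis.v (c₀, c₁, true) := by
      have rv := A.basis.conj_v (p := (true, false, false)) (q := (false, true, false))
        (r := (false, true, true)) (r0.trans A.basis.v_z.symm) (r1.trans A.basis.v_one.symm)
        (r2.trans ((L.E_comm _ A.h₂ _ A.h₁).trans A.v_sum.symm))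
      have back : ∀ c, lin (true, false, false) (false, true, false) (false, true, true)
          (lin (true, false, false) (false, true, false) (false, true, true) c) = c := by decide
      have h := rv (lin (true, false, false) (false, true, false) (false, true, true) (c₀, c₁, true))
      rw [back] at h
      calc r⁻¹ * A.basis.v (c₀, c₁, true) * r
          = A.basis.v (lin (true, false, false) (false, true, false) (false, true, true)
              (c₀, c₁, true)) := by rw [← h]; group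
        _ = A.basis.v (bxor (false, true, false) (c₀, c₁, true)) := by
            congr 1; cases c₀ <;> cases c₁ <;> rfl
        _ = _ := by rw [A.basis.v_xor, A.basis.v_one]; rfl
    have hww : w * w = e₁ := by
      rw [hw]
      calc g * u * g⁻¹ * (g * u * g⁻¹) = g * (u * u) * g⁻¹ := by group
        _ = e₁ := by rw [hu, ← map_mul, Prod.mk_mul_mk, A.i_sq, one_mul, L.N_left, hgz]
    have : w * w = r * r * (r⁻¹ * A.basis.v (c₀, c₁, true) * r * A.basis.v (c₀, c₁, true)) := by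
      rw [hwr]; group
    rw [hww, rsq, hfix, mul_assoc, L.E_sq _ (A.basis.v_mem _), mul_one, L.E_sq _ A.h₁] at this
    exact A.basis.n₁ this
  subst hc2
  have hwr' : w = r * (Loc.bp L.z c₀ * Loc.bp e₁ c₁) := by
    rw [hwr]; simp [Loc.Basis.v, Loc.vec, Loc.bp, basis, hd1]
  have hzE : Loc.bp L.z c₀ ∈ L.E := L.bp_mem L.z_mem _
  have zc : ∀ y ∈ L.H, Commute (Loc.bp L.z c₀) y := by
    intro y hy
    cases c₀
    · exact Commute.one_left y
    · exact (L.mem_H_iff.1 hy).symm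
  have hzH := L.E_le_H hzE
  refine ⟨x₀ * Loc.bp L.z c₀, g * Loc.bp e₂ c₁, ?_, ?_⟩
  · have cc : ∀ {y : G}, y ∈ L.H →
        x₀ * Loc.bp L.z c₀ * y * (x₀ * Loc.bp L.z c₀)⁻¹ = x₀ * y * x₀⁻¹ := by
      intro y hy
      calc _ = x₀ * (Loc.bp L.z c₀ * y) * (Loc.bp L.z c₀)⁻¹ * x₀⁻¹ := by group
        _ = _ := by rw [(zc y hy).eq]; group
    refine ⟨L.M.mul_mem hx₀.memM (L.E_le hzE), L.H.mul_mem hx₀.memH hzH, fun h => hx₀.notK ?_,
      (cc (L.mem_H _)).trans hx₀.i, (cc (L.mem_H _)).trans hx₀.j, (cc (L.mem_H _)).trans hx₀.a,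
      (cc (L.mem_H _)).trans hx₀.b, ?_⟩
    · refine ((L.index_two _ hx₀.memH _ hzH).1 h).2 ?_
      cases c₀
      · exact one_mem _
      · exact ⟨_, L.N_left⟩
    · calc x₀ * Loc.bp L.z c₀ * (x₀ * Loc.bp L.z c₀)
          = x₀ * (Loc.bp L.z c₀ * x₀) * Loc.bp L.z c₀ := by group
        _ = (x₀ * x₀) * (Loc.bp L.z c₀ * Loc.bp L.z c₀) := by rw [(zc x₀ hx₀.memH).eq]; group
        _ = 1 := by rw [hx₀.sq, L.E_sq _ hzE, mul_one]
  · have hfE : Loc.bp e₂ c₁ ∈ L.E := L.bp_mem A.h₂ _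
    have cf : ∀ {y : G}, y ∈ L.E →
        g * Loc.bp e₂ c₁ * y * (g * Loc.bp e₂ c₁)⁻¹ = g * y * g⁻¹ := by
      intro y hy
      calc _ = g * (Loc.bp e₂ c₁ * y) * (Loc.bp e₂ c₁)⁻¹ * g⁻¹ := by group
        _ = _ := by rw [L.E_comm _ hfE _ hy]; group
    refine ⟨L.M.mul_mem hgM (L.E_le hfE), (cf L.z_mem).trans hgz, (cf A.h₁).trans hg1,
      (cf A.h₂).trans hg2, ?_⟩
    have hui : Loc.bp e₂ c₁ * u * (Loc.bp e₂ c₁)⁻¹ = u * Loc.bp L.z c₁ := by
      cases c₁
      · simp [Loc.bp]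
      · show e₂ * u * e₂⁻¹ = u * L.z
        rw [hd2, hu, conj_left, (anti A.i A.i_sq A.j A.j_sq A.ij).2.1, ← L.N_left, ← map_mul,
          Prod.mk_mul_mk, mul_one]
    have hgb : g * Loc.bp L.z c₁ * g⁻¹ = Loc.bp e₁ c₁ := by
      cases c₁
      · simp [Loc.bp]
      · exact hgz
    calc g * Loc.bp e₂ c₁ * L.φ (A.i, 1) * (g * Loc.bp e₂ c₁)⁻¹
        = g * (Loc.bp e₂ c₁ * u * (Loc.bp e₂ c₁)⁻¹) * g⁻¹ := by rw [hu]; group
      _ = w * (g * Loc.bp L.z c₁ * g⁻¹) := by rw [hui, hw]; group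
      _ = r * Loc.bp L.z c₀ := by
        rw [hgb, hwr', mul_assoc r, mul_assoc (Loc.bp L.z c₀), L.E_sq _ (L.bp_mem A.h₁ _), mul_one]
      _ = _ := by
        rw [hr, mul_assoc, ← (zc A.t (L.mem_H _)).eq, ← mul_assoc]

theorem Move.act {x g : G} (hg : A.Move x g) :
    g * L.z * g⁻¹ = A.basis.v (false, true, false) ∧
    g * A.basis.e₁ * g⁻¹ = A.basis.v (true, false, false) ∧
    g * A.basis.e₂ * g⁻¹ = A.basis.v (false, false, true) := by
  rw [A.basis.v_one, A.basis.v_z, A.basis.v_two]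
  exact ⟨hg.z, hg.e₁, hg.e₂⟩

theorem Move.sq_cases {x g : G} (hg : A.Move x g) :
    ∃ p : Bool × Bool, g * g = A.basis.v (p.1, p.1, p.2) := by
  obtain ⟨hz, h1, h2⟩ := hg.act
  obtain ⟨⟨a, b, c⟩, hc, hf⟩ := A.basis.pow_mem_fixed hg.memM hz h1 h2 2 (by decide)
  have : a = b := by
    revert hf; revert a b c
    intro a b c _ hf
    cases a <;> cases b <;> cases c <;> first | rfl | simp [lin, bxor] at hf
  subst this
  exact ⟨(a, c), by rw [← pow_two, hc]⟩

theorem Move.mulZ {x g : G} (hg : A.Move x g) : A.Move x (g * L.z) := by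
  have cz : ∀ {y : G}, y * L.z = L.z * y → g * L.z * y * (g * L.z)⁻¹ = g * y * g⁻¹ := by
    intro y hy
    calc _ = g * (L.z * y) * L.z⁻¹ * g⁻¹ := by group
      _ = _ := by rw [← hy]; group
  exact ⟨L.M.mul_mem hg.memM (L.E_le L.z_mem), (cz rfl).trans hg.z,
    (cz (L.E_comm _ A.h₁ _ L.z_mem)).trans hg.e₁, (cz (L.E_comm _ A.h₂ _ L.z_mem)).trans hg.e₂,
    (cz (L.mem_H_iff.1 (L.mem_H _))).trans hg.i⟩

theorem exists_normal_move (A : Axes L) :
    ∃ x g, A.Swap x ∧ A.Move x g ∧ (g * g = 1 ∨ g * g = L.φ (A.j, A.b)) := by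
  obtain ⟨x₀, hx₀⟩ := A.exists_swap
  obtain ⟨x, g, hx, hg⟩ := A.exists_move_of_swap hx₀
  obtain ⟨⟨a, c⟩, h⟩ := hg.sq_cases
  have hv : A.basis.v (false, false, c) = 1 ∨ A.basis.v (false, false, c) = L.φ (A.j, A.b) := by
    cases c
    · exact Or.inl A.basis.v_zero
    · exact Or.inr A.basis.v_two
  cases a
  · exact ⟨x, g, hx, hg, by rw [h]; exact hv⟩
  · refine ⟨x, g * L.z, hx, hg.mulZ, ?_⟩
    have e : g * L.z * (g * L.z) = A.basis.v (false, false, c) := by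
      calc g * L.z * (g * L.z) = (g * L.z * g⁻¹) * ((g * g) * L.z) := by group
        _ = A.basis.v (false, true, false) * (A.basis.v (true, true, c) * A.basis.v (true, false, false)) := by
          rw [hg.act.1, h, A.basis.v_z]
        _ = _ := by rw [← A.basis.v_xor, ← A.basis.v_xor]; cases c <;> rfl
    rw [e]; exact hv

theorem Move.gx_cases {x g : G} (hx : A.Swap x) (hg : A.Move x g) :
    (g * x) ^ 3 = 1 ∨ (g * x) ^ 3 = A.basis.v (true, true, true) := by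
  obtain ⟨hz, h1, h2⟩ := hg.act
  have az : g * x * L.z * (g * x)⁻¹ = A.basis.v (false, true, false) := by
    rw [← hz]
    calc g * x * L.z * (g * x)⁻¹ = g * (x * L.z * x⁻¹) * g⁻¹ := by group
      _ = _ := by rw [conj_z hx.memH]
  have a1 : g * x * A.basis.e₁ * (g * x)⁻¹ = A.basis.v (false, false, true) := by
    rw [← h2]
    calc g * x * A.basis.e₁ * (g * x)⁻¹ = g * (x * A.basis.e₁ * x⁻¹) * g⁻¹ := by group
      _ = _ := by rw [show x * A.basis.e₁ * x⁻¹ = A.basis.e₂ from hx.e₁]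
  have a2 : g * x * A.basis.e₂ * (g * x)⁻¹ = A.basis.v (true, false, false) := by
    rw [← h1]
    calc g * x * A.basis.e₂ * (g * x)⁻¹ = g * (x * A.basis.e₂ * x⁻¹) * g⁻¹ := by group
      _ = _ := by rw [show x * A.basis.e₂ * x⁻¹ = A.basis.e₁ from hx.e₂]
  obtain ⟨c, hc, hf⟩ := A.basis.pow_mem_fixed (L.M.mul_mem hg.memM hx.memM) az a1 a2 3 (by decide)
  have : c = (false, false, false) ∨ c = (true, true, true) :=
    (by decide : ∀ c, lin (false, true, false) (false, false, true) (true, false, false) c = c →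
      c = (false, false, false) ∨ c = (true, true, true)) c hf
  rw [hc]
  rcases this with rfl | rfl
  · exact Or.inl A.basis.v_zero
  · exact Or.inr rfl

theorem Move.gt_pow {x g : G} (hg : A.Move x g) : (g * A.t) ^ 7 = 1 := by
  obtain ⟨hz, h1, h2⟩ := hg.act
  have az : g * A.t * L.z * (g * A.t)⁻¹ = A.basis.v (false, true, false) := by
    rw [← hz]
    calc g * A.t * L.z * (g * A.t)⁻¹ = g * (A.t * L.z * A.t⁻¹) * g⁻¹ := by group
      _ = _ := by rw [conj_z (L := L) (h := A.t) (L.mem_H _)]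
  have a1 : g * A.t * A.basis.e₁ * (g * A.t)⁻¹ = A.basis.v (false, false, true) := by
    rw [← h2]
    calc g * A.t * A.basis.e₁ * (g * A.t)⁻¹ = g * (A.t * A.basis.e₁ * A.t⁻¹) * g⁻¹ := by group
      _ = _ := by rw [show A.t * A.basis.e₁ * A.t⁻¹ = A.basis.e₂ from A.t_e₁]
  have a2 : g * A.t * A.basis.e₂ * (g * A.t)⁻¹ = A.basis.v (true, false, true) := by
    calc g * A.t * A.basis.e₂ * (g * A.t)⁻¹ = g * (A.t * A.basis.e₂ * A.t⁻¹) * g⁻¹ := by group
      _ = (g * A.basis.e₁ * g⁻¹) * (g * A.basis.e₂ * g⁻¹) := by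
        rw [show A.t * A.basis.e₂ * A.t⁻¹ = A.basis.e₁ * A.basis.e₂ from A.t_e₂]; group
      _ = _ := by rw [h1, h2, ← A.basis.v_xor]; rfl
  obtain ⟨c, hc, hf⟩ := A.basis.pow_mem_fixed (L.M.mul_mem hg.memM A.t_mem) az a1 a2 7
    (by decide +kernel)
  have : c = (false, false, false) :=
    (by decide : ∀ c, lin (false, true, false) (false, false, true) (true, false, true) c = c →
      c = (false, false, false)) c hf
  rw [hc, this, A.basis.v_zero]

theorem e₁_inv (A : Axes L) : (L.φ (A.i, A.a))⁻¹ = L.φ (A.i, A.a) :=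
  inv_eq_of_mul_eq_one_right (L.E_sq _ A.h₁)

theorem e₂_inv (A : Axes L) : (L.φ (A.j, A.b))⁻¹ = L.φ (A.j, A.b) :=
  inv_eq_of_mul_eq_one_right (L.E_sq _ A.h₂)

theorem prodw_gens_invW {i a s q x g : G} (w : List ℕ) (hw : ∀ v ∈ w, v < 12) :
    prodw (gens i a s q x g) (invW w) = (prodw (gens i a s q x g) w)⁻¹ :=
  prodw_invW_of_sat (R := []) ⟨gens_iv i a s q x g, rfl, by simp⟩ w hw

/-- The valuation for the second local subgroup: `t` and the identity replace `s` and `q`. -/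
def mval (A : Axes L) (x g : G) : ℕ → G :=
  gens (L.φ (A.i, 1)) (L.φ (1, A.a)) A.t 1 x g

theorem sat_pRels {x : G} (hx : A.Swap x) (g : G) : ∀ w ∈ pRels, prodw (A.mval x g) w = 1 := by
  intro w hw
  have h : sameB w [] = true := (by decide +kernel : pRels.all (fun w => sameB w []) = true) |>
    fun e => List.all_eq_true.1 e w hw
  have h1 := prodw_eq_of_sameB (A.sat_hRels hx g) h
  rw [show prodw (A.val x g) [] = 1 from rfl] at h1
  rw [← h1]
  have ts : L.φ (A.s, 1) * L.φ (1, A.q) = A.t := (L.φ_mul_left _ _).symm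
  have ts' : ∀ y : G, L.φ (A.s, 1) * (L.φ (1, A.q) * y) = A.t * y := fun y => by
    rw [← mul_assoc, ts]
  have ts'' : ∀ y : G, (L.φ (1, A.q))⁻¹ * ((L.φ (A.s, 1))⁻¹ * y) = A.t⁻¹ * y := fun y => by
    rw [← mul_assoc, ← mul_inv_rev, ts]
  have ts''' : (L.φ (1, A.q))⁻¹ * (L.φ (A.s, 1))⁻¹ = A.t⁻¹ := by rw [← mul_inv_rev, ts]
  simp only [pRels, List.mem_cons, List.not_mem_nil, or_false] at hw
  rcases hw with rfl | rfl | rfl | rfl | rfl | rfl | rfl | rfl | rfl | rfl | rfl | rfl | rfl <;>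
    simp only [prodw, mval, val, gens, List.map_cons, List.map_nil, List.prod_cons, List.prod_nil,
      mul_one, one_mul, inv_one, ts, ts', ts'', ts''']

theorem mval_sq (x g : G) (hs : g * g = 1 ∨ g * g = L.φ (A.j, A.b)) :
    ∃ sq, (sq = [] ∨ sq = e2W) ∧ prodw (A.mval x g) sq = g * g := by
  rcases hs with h | h <;> rw [h]
  · exact ⟨[], Or.inl rfl, rfl⟩
  · refine ⟨e2W, Or.inr rfl, ?_⟩
    simp only [e2W, prodw, mval, gens, List.map_cons, List.map_nil, List.prod_cons, List.prod_nil,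
      mul_one, one_mul, inv_one]
    rw [← A.t_e₁, show L.φ (A.i, A.a) = L.φ (A.i, 1) * L.φ (1, A.a) from L.φ_mul_left _ _]
    group

theorem mval_z12 (x g : G) : prodw (A.mval x g) z12W = A.basis.v (true, true, true) := by
  simp only [z12W, prodw, mval, gens, List.map_cons, List.map_nil, List.prod_cons, List.prod_nil,
    mul_one, one_mul, inv_one]
  have e1 : L.φ (A.i, 1) * L.φ (1, A.a) = L.φ (A.i, A.a) := (L.φ_mul_left _ _).symm
  rw [show L.φ (A.i, 1) * (L.φ (A.i, 1) * (L.φ (A.i, 1) * (L.φ (1, A.a) *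
      (A.t * (L.φ (A.i, 1) * (L.φ (1, A.a) * A.t⁻¹)))))) =
    (L.φ (A.i, 1) * L.φ (A.i, 1)) * (L.φ (A.i, 1) * L.φ (1, A.a)) *
      (A.t * (L.φ (A.i, 1) * L.φ (1, A.a)) * A.t⁻¹) by group, e1, A.t_e₁]
  rw [← map_mul, Prod.mk_mul_mk, A.i_sq, one_mul, L.N_left]
  simp [Loc.Basis.v, Loc.vec, Loc.bp, basis]

theorem sat_case {x g : G} (hx : A.Swap x) (hg : A.Move x g) {sq c : List ℕ}
    (hsq : prodw (A.mval x g) sq = g * g) (hc : prodw (A.mval x g) c = (g * x) ^ 3)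
    (hsl : ∀ v ∈ sq, v < 12) (hcl : ∀ v ∈ c, v < 12) : Sat (A.mval x g) (mCase sq c) := by
  refine gens_sat fun w hw => ?_
  change prodw (A.mval x g) w = 1
  simp only [mCase, List.mem_append, List.mem_cons, List.not_mem_nil, or_false, List.mem_singleton]
    at hw
  rcases hw with ((rfl | hw) | hw) | rfl | rfl | rfl
  · simp [prodw, mval, gens]
  · exact A.sat_pRels hx g w hw
  · simp only [mBase, List.mem_cons, List.not_mem_nil, or_false] at hw
    rcases hw with rfl | rfl | rfl | rfl <;>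
      simp only [prodw, mval, gens, List.map_cons, List.map_nil, List.prod_cons, List.prod_nil,
        mul_one, one_mul, inv_one]
    · calc _ = g * (L.φ (A.i, 1) * L.φ (A.i, 1)) * g⁻¹ *
            (L.φ (A.i, 1) * L.φ (1, A.a))⁻¹ := by group
        _ = 1 := by
          rw [← L.φ_mul_left, ← map_mul, Prod.mk_mul_mk, A.i_sq, one_mul, L.N_left, hg.z,
            mul_inv_cancel]
    · calc _ = g * (L.φ (A.i, 1) * L.φ (1, A.a)) * g⁻¹ *
            (L.φ (A.i, 1) * L.φ (A.i, 1))⁻¹ := by group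
        _ = 1 := by
          rw [← L.φ_mul_left, ← map_mul, Prod.mk_mul_mk, A.i_sq, one_mul, L.N_left, hg.e₁,
            mul_inv_cancel]
    · calc _ = g * (A.t * (L.φ (A.i, 1) * L.φ (1, A.a)) * A.t⁻¹) * g⁻¹ *
            (A.t * (L.φ (A.i, 1) * L.φ (1, A.a)) * A.t⁻¹)⁻¹ := by group
        _ = 1 := by rw [← L.φ_mul_left, A.t_e₁, hg.e₂, mul_inv_cancel]
    · rw [← hg.gt_pow]; simp only [pow_succ, pow_zero, one_mul, mul_assoc]
  · rw [prodw_append, mval, prodw_gens_invW sq hsl]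
    change g * (g * 1) * (prodw (A.mval x g) sq)⁻¹ = 1
    rw [hsq, mul_one, mul_inv_cancel]
  · rw [prodw_append, mval, prodw_gens_invW _ (by decide)]
    change g * (L.φ (A.i, 1) * (g⁻¹ * 1)) * (x * (A.t * (1 * 1)))⁻¹ = 1
    simp only [mul_one]
    rw [← mul_assoc, hg.i, mul_inv_cancel]
  · rw [prodw_append, mval, prodw_gens_invW c hcl]
    change g * (x * (g * (x * (g * (x * 1))))) * (prodw (A.mval x g) c)⁻¹ = 1
    rw [hc, mul_inv_eq_one]
    simp only [pow_succ, pow_zero, one_mul, mul_assoc, mul_one]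

theorem Move.normalised {x g : G} (hx : A.Swap x) (hg : A.Move x g)
    (hs : g * g = 1 ∨ g * g = L.φ (A.j, A.b)) :
    g * g = 1 ∧ (g * x) ^ 3 = A.basis.v (true, true, true) := by
  have refute : ∀ {sq c : List ℕ} {C : Cert} {S : ℕ}, C.ok (mCase sq c) [] = true →
      C.reads [0, 0] 0 0 S = true → Sat (A.mval x g) (mCase sq c) → False := by
    intro sq c C S hok hr hsat
    have h := mem_of_cert (K := (⊥ : Subgroup G)) hok hr hsat (by simp)
    rw [Subgroup.mem_bot] at h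
    refine L.z_ne (Eq.trans ?_ h)
    simp only [prodw, mval, gens, List.map_cons, List.map_nil, List.prod_cons, List.prod_nil,
      mul_one, ← map_mul, Prod.mk_mul_mk, A.i_sq, L.N_left]
  have l2 : ∀ v ∈ e2W, v < 12 := by decide
  have l3 : ∀ v ∈ z12W, v < 12 := by decide
  have l0 : ∀ v ∈ ([] : List ℕ), v < 12 := by simp
  obtain ⟨sq, hsq, hsqv⟩ := mval_sq (A := A) x g hs
  rcases hsq with rfl | rfl
  · have h1 : g * g = 1 := hsqv.symm
    refine ⟨h1, (hg.gx_cases hx).resolve_left fun hc => ?_⟩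
    exact refute colC_ok colC_reads (A.sat_case hx hg hsqv (hc.symm ▸ rfl) l0 l0)
  · exfalso
    rcases hg.gx_cases hx with hc | hc
    · exact refute colS0_ok colS0_reads (A.sat_case hx hg hsqv (hc.symm ▸ rfl) l2 l0)
    · exact refute colS1_ok colS1_reads
        (A.sat_case hx hg hsqv ((A.mval_z12 x g).trans hc.symm) l2 l3)

theorem exists_fr (A : Axes L) :
    ∃ f : Fr G, prodw f.γ zW = L.z ∧ hGroup f.γ = L.H ∧ f.γ 4 = L.φ (A.s, 1) ∧
      f.γ 6 = L.φ (1, A.q) := by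
  obtain ⟨x, g, hx, hg, hs⟩ := A.exists_normal_move
  obtain ⟨hgg, hgx⟩ := hg.normalised hx hs
  have hginv : g⁻¹ = g := inv_eq_of_mul_eq_one_right hgg
  have hsat : Sat (A.val x g) (hRels ++ gRels) := by
    refine (A.sat_hRels hx g).append fun w hw => ?_
    simp only [gRels, List.mem_cons, List.not_mem_nil, or_false] at hw
    rcases hw with rfl | rfl | rfl | rfl | rfl | rfl <;>
      simp only [prodw, val, gens, List.map_cons, List.map_nil, List.prod_cons, List.prod_nil,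
        mul_one]
    · exact hgg
    · calc _ = g * (L.φ (A.i, 1) * L.φ (A.i, 1)) * g * (L.φ (A.i, 1) * L.φ (1, A.a))⁻¹ := by group
        _ = g * L.z * g⁻¹ * (L.φ (A.i, A.a))⁻¹ := by
          rw [← L.φ_mul_left, ← map_mul, Prod.mk_mul_mk, A.i_sq, one_mul, L.N_left, hginv]
        _ = 1 := by rw [hg.z, mul_inv_cancel]
    · calc _ = g * (L.φ (A.s, 1) * L.φ (1, A.q) * (L.φ (A.i, 1) * L.φ (1, A.a)) *
            (L.φ (A.s, 1) * L.φ (1, A.q))⁻¹) * g * (L.φ (A.s, 1) * L.φ (1, A.q) *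
            (L.φ (A.i, 1) * L.φ (1, A.a)) * (L.φ (A.s, 1) * L.φ (1, A.q))⁻¹)⁻¹ := by group
        _ = g * L.φ (A.j, A.b) * g⁻¹ * (L.φ (A.j, A.b))⁻¹ := by
          rw [← L.φ_mul_left, ← L.φ_mul_left, show L.φ (A.s, A.q) = A.t from rfl, A.t_e₁, hginv]
        _ = 1 := by rw [hg.e₂, mul_inv_cancel]
    · calc _ = g * L.φ (A.i, 1) * g * (L.φ (A.s, 1) * L.φ (1, A.q))⁻¹ * x⁻¹ := by group
        _ = g * L.φ (A.i, 1) * g⁻¹ * A.t⁻¹ * x⁻¹ := by rw [← L.φ_mul_left, hginv]; rfl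
        _ = 1 := by rw [hg.i]; group
    · calc _ = (g * x) ^ 3 * ((L.φ (A.s, 1) * L.φ (1, A.q)) * (L.φ (A.i, 1) * L.φ (1, A.a))⁻¹ *
            (L.φ (A.s, 1) * L.φ (1, A.q))⁻¹ * (L.φ (A.i, 1) * L.φ (1, A.a))⁻¹ *
            (L.φ (A.i, 1) * L.φ (A.i, 1))⁻¹) := by simp only [pow_succ, pow_zero, one_mul]; group
        _ = (g * x) ^ 3 * ((A.t * L.φ (A.i, A.a) * A.t⁻¹) * L.φ (A.i, A.a) * L.z) := by
          rw [← L.φ_mul_left, ← L.φ_mul_left, ← map_mul, Prod.mk_mul_mk, A.i_sq, one_mul, L.N_left,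
            A.e₁_inv, inv_eq_of_mul_eq_one_right L.zz]
          rfl
        _ = A.basis.v (true, true, true) * (A.basis.v (false, false, true) *
              A.basis.v (false, true, false) * A.basis.v (true, false, false)) := by
          rw [hgx, A.t_e₁, A.basis.v_two, A.basis.v_one, A.basis.v_z]; rfl
        _ = 1 := by rw [← A.basis.v_xor, ← A.basis.v_xor, ← A.basis.v_xor]; exact A.basis.v_zero
    · rw [← hg.gt_pow, show A.t = L.φ (A.s, 1) * L.φ (1, A.q) from L.φ_mul_left _ _]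
      simp only [pow_succ, pow_zero, one_mul, mul_assoc]
  refine ⟨⟨A.val x g, hsat, by rw [A.val_z]; exact L.z_ne, ?_⟩, A.val_z x g, A.hGroup_eq hx g,
    rfl, rfl⟩
  rw [A.val_z, A.hGroup_eq hx g, L.H_eq]

end Axes

end CfsgLib.G2Rec
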