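import Cfsg.Agent.G2Rec.MTable
import Cfsg.Agent.G2Rec.Data.FACheck
import Cfsg.Agent.G2Rec.Data.FBCheck
import Cfsg.Agent.G2Rec.Data.FDCheck
import Cfsg.Agent.G2Rec.Data.FECheck

/-!
Any closed table of a surviving case bounds the group generated by the letters by `1344 · 3159`,
so a model of that order satisfying the same relators is isomorphic to it.
-/

set_option autoImplicit false

namespace CfsgLib.G2Rec

open CfsgLib.CosetEnum CfsgLib.MTwelveUnique
open CfsgLib.UFourType (Tab invW pathOf)

noncomputable section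

theorem fA_closed : Closed fAT 6 3159 fAWord (caseRels [2, 4, 7, 3]) mSub where
  le := le_rfl
  pos := by norm_num
  rows := by decide +kernel
  ok := fA_ok
  derived := fA_derived

theorem fB_closed : Closed fBT 6 3159 fBWord (caseRels [2, 6, 3]) mSub where
  le := le_rfl
  pos := by norm_num
  rows := by decide +kernel
  ok := fB_ok
  derived := fB_derived

theorem fD_closed : Closed fDT 6 3159 fDWord (splitRels [5] [4, 1, 5, 7] 0) mSub where
  le := le_rfl
  pos := by norm_num
  rows := by decide +kernel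
  ok := fD_ok
  derived := fD_derived

theorem fE_closed : Closed fET 6 3159 fEWord (splitRels [2, 4, 6, 3] [4, 6] 0) mSub where
  le := le_rfl
  pos := by norm_num
  rows := by decide +kernel
  ok := fE_ok
  derived := fE_derived

variable {G X : Type*} [Group G] [Group X] {γ : ℕ → G} {δ : ℕ → X} {T : Tab} {n : ℕ}
  {word : ℕ → List ℕ} {R : List (List ℕ)}

/-- Every element generated by the letters lies in a coset of a row. -/
theorem exists_row (c : Closed T 6 n word R mSub) (h : Sat γ R) {y : G} (hy : y ∈ fullGroup γ) :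
    ∃ i, i < n ∧ y * (rowRep γ T i)⁻¹ ∈ mGroup γ := by
  have hW : ∀ w ∈ mSub, prodw γ w ∈ mGroup γ := fun w hw =>
    Subgroup.subset_closure ⟨w, hw, rfl⟩
  have step : ∀ (y : G) (v : ℕ), v < 12 → (∃ i, i < n ∧ y * (rowRep γ T i)⁻¹ ∈ mGroup γ) →
      ∃ i, i < n ∧ y * γ v * (rowRep γ T i)⁻¹ ∈ mGroup γ := by
    rintro y v hv ⟨i, hi, hm⟩
    refine ⟨_, c.edge_lt hi (x := v) (by omega), ?_⟩
    have := (mGroup γ).mul_mem hm (c.edge_mem h hW hi (x := v) (by omega))
    simpa [mul_assoc] using this
  induction hy using Subgroup.closure_induction_right with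
  | one => exact ⟨0, c.pos, by simp [c.rowRep_zero]⟩
  | mul_right y z _ hz ih =>
    obtain ⟨v, hv, rfl⟩ := hz
    exact step y v hv ih
  | mul_inv_cancel y z _ hz ih =>
    obtain ⟨v, hv, rfl⟩ := hz
    rw [← h.iv v hv]
    exact step y _ (xor_lt (k := 6) le_rfl hv) ih

theorem card_fullGroup_le [Finite G] (c : Closed T 6 n word R mSub) (h : Sat γ R) :
    Nat.card (fullGroup γ) ≤ Nat.card (mGroup γ) * n := by
  have hsub : ((fullGroup γ : Subgroup G) : Set G) ⊆
      (fun p : mGroup γ × Fin n => (p.1 : G) * rowRep γ T p.2) '' Set.univ := fun y hy => by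
    obtain ⟨i, hi, hm⟩ := exists_row c h hy
    exact ⟨(⟨_, hm⟩, ⟨i, hi⟩), trivial, by simp⟩
  have h1 := Set.ncard_le_ncard hsub (Set.toFinite _)
  have h2 := Set.ncard_image_le (f := fun p : mGroup γ × Fin n => (p.1 : G) * rowRep γ T p.2)
    (Set.finite_univ (α := mGroup γ × Fin n))
  rw [Set.ncard_univ, Nat.card_prod, Nat.card_eq_fintype_card (α := Fin n), Fintype.card_fin] at h2
  exact h1.trans h2

/-- The diagonal valuation. -/
def pairVal (γ : ℕ → G) (δ : ℕ → X) (v : ℕ) : G × X := (γ v, δ v)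

theorem prodw_pairVal (w : List ℕ) :
    prodw (pairVal γ δ) w = (prodw γ w, prodw δ w) := by
  induction w with
  | nil => rfl
  | cons x w ih => rw [prodw_cons, ih, prodw_cons, prodw_cons]; rfl

theorem sat_pairVal (h : Sat γ R) (h' : Sat δ R) : Sat (pairVal γ δ) R where
  iv v hv := Prod.ext (h.iv v hv) (h'.iv v hv)
  eps := Prod.ext h.eps h'.eps
  rel w hw := by rw [prodw_pairVal, h.rel w hw, h'.rel w hw]; rfl

/-- A model of full order satisfying the relators of a table is isomorphic to the group generated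
by the letters. -/
theorem nonempty_mulEquiv [Finite G] [Finite X] (c : Closed T 6 3159 word R mSub)
    (hR : ∀ w ∈ hRels ++ gRels, w ∈ R) (hγ : Sat γ R) (hδ : Sat δ R)
    (hX : Nat.card X = 4245696) (hs : IsSimpleGroup X) (htop : fullGroup δ = ⊤)
    (hz : prodw γ zW ≠ 1) : Nonempty (fullGroup γ ≃* X) := by
  have hd := sat_pairVal hγ hδ
  set D := fullGroup (pairVal γ δ) with hD
  have hcard : Nat.card D ≤ 4245696 := by
    have := card_fullGroup_le c hd
    have := card_mGroup_le (hd.mono hR)
    rw [← hD] at *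
    calc Nat.card D ≤ Nat.card (mGroup (pairVal γ δ)) * 3159 := by assumption
      _ ≤ 1344 * 3159 := Nat.mul_le_mul_right _ this
      _ = 4245696 := by norm_num
  have h2 : D.map (MonoidHom.snd G X) = ⊤ := by
    rw [hD, fullGroup, MonoidHom.map_closure, ← htop, fullGroup, Set.image_image]
    rfl
  have h1 : D.map (MonoidHom.fst G X) = fullGroup γ := by
    rw [hD, fullGroup, MonoidHom.map_closure, fullGroup, Set.image_image]
    rfl
  let p : D →* X := (MonoidHom.snd G X).comp D.subtype
  have hp : Function.Surjective p := fun x => by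
    obtain ⟨y, hy, e⟩ := (h2.symm ▸ Subgroup.mem_top x : x ∈ D.map (MonoidHom.snd G X))
    exact ⟨⟨y, hy⟩, e⟩
  have hbij : Function.Bijective p := (Nat.bijective_iff_surjective_and_card p).2
    ⟨hp, le_antisymm (hcard.trans hX.ge) (Nat.card_le_card_of_surjective p hp)⟩
  let e : D ≃* X := MulEquiv.ofBijective p hbij
  let q : X →* fullGroup γ := (((MonoidHom.fst G X).comp D.subtype).comp e.symm.toMonoidHom).codRestrict
    (fullGroup γ) fun x => h1 ▸ Subgroup.mem_map_of_mem _ (e.symm x).2
  have hq : Function.Surjective q := by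
    rintro ⟨y, hy⟩
    obtain ⟨d, hd', rfl⟩ := (h1.symm ▸ hy : y ∈ D.map (MonoidHom.fst G X))
    exact ⟨e ⟨d, hd'⟩, Subtype.ext (by simp [q])⟩
  have hker : q.ker = ⊥ := by
    refine (hs.eq_bot_or_eq_top_of_normal q.ker inferInstance).resolve_right fun htop' => hz ?_
    have hz' : prodw γ zW ∈ fullGroup γ := by
      simpa [prodw, zW] using (fullGroup γ).mul_mem
        (Subgroup.subset_closure (⟨0, by simp, rfl⟩ : γ 0 ∈ γ '' {v | v < 12}))
        (Subgroup.subset_closure (⟨0, by simp, rfl⟩ : γ 0 ∈ γ '' {v | v < 12}))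
    obtain ⟨x, hx⟩ := hq ⟨_, hz'⟩
    have hx' : q x = 1 := by
      rw [← MonoidHom.mem_ker, htop']
      trivial
    rw [hx'] at hx
    exact (congrArg Subtype.val hx).symm
  exact ⟨(MulEquiv.ofBijective q ⟨(MonoidHom.ker_eq_bot_iff q).1 hker, hq⟩).symm⟩

end

end CfsgLib.G2Rec
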