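import Cfsg.Agent.G2Rec.HTable
import Cfsg.Agent.G2Rec.Data.MCheck

/-!
The second local subgroup: at most 1344 elements, read off its table, and equality of words in
its generators.
-/

set_option autoImplicit false

namespace CfsgLib.G2Rec

open CfsgLib.CosetEnum CfsgLib.MTwelveUnique
open CfsgLib.UFourType (Tab invW pathOf)

noncomputable section

theorem m_closed : Closed mT 6 1344 mWord mRels [] where
  le := le_rfl
  pos := by norm_num
  rows := by decide +kernel
  ok := m_ok
  derived := m_derived

/-- The word in `i a s q x g` of a word in the generators of the second local subgroup. -/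
def mSubst : List ℕ → List ℕ
  | [] => []
  | 4 :: w => 4 :: 6 :: mSubst w
  | 5 :: w => 7 :: 5 :: mSubst w
  | 6 :: w => mSubst w
  | 7 :: w => mSubst w
  | x :: w => x :: mSubst w

variable {G : Type*} [Group G]

/-- The valuation with `4` for the diagonal element and `6` for the identity. -/
def mVal (γ : ℕ → G) : ℕ → G
  | 4 => γ 4 * γ 6
  | 5 => (γ 4 * γ 6)⁻¹
  | 6 => 1
  | 7 => 1
  | x => γ x

variable {γ : ℕ → G} {R : List (List ℕ)}

theorem prodw_mVal (h : Sat γ R) : ∀ w : List ℕ,
    prodw (mVal γ) w = prodw γ (mSubst w)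
  | [] => rfl
  | x :: w => by
    have ih := prodw_mVal h w
    have e7 : γ 7 = (γ 6)⁻¹ := by simpa using h.iv 6 (by norm_num)
    have e5 : γ 5 = (γ 4)⁻¹ := by simpa using h.iv 4 (by norm_num)
    match x with
    | 4 => simp [mSubst, prodw_cons, mVal, ih, mul_assoc]
    | 5 => simp [mSubst, prodw_cons, mVal, ih, e5, e7, mul_assoc]
    | 6 => simp [mSubst, prodw_cons, mVal, ih]
    | 7 => simp [mSubst, prodw_cons, mVal, ih]
    | 0 => simp [mSubst, prodw_cons, mVal, ih]
    | 1 => simp [mSubst, prodw_cons, mVal, ih]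
    | 2 => simp [mSubst, prodw_cons, mVal, ih]
    | 3 => simp [mSubst, prodw_cons, mVal, ih]
    | n + 8 => simp [mSubst, prodw_cons, mVal, ih]

theorem pRels_rows : pRels.all (fun w => sameB (mSubst w) []) = true := by decide +kernel

theorem gRels_subst : gRels.all (fun w => decide (mSubst w = w)) = true := by decide +kernel

theorem sat_mVal (h : Sat γ (hRels ++ gRels)) : Sat (mVal γ) mRels where
  iv v hv := by
    interval_cases v <;> first
      | exact h.iv _ (by norm_num)
      | exact rfl
      | exact (inv_inv _).symm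
      | exact inv_one.symm
  eps := h.eps
  rel w hw := by
    rw [prodw_mVal h]
    simp only [mRels, List.mem_append, List.mem_singleton] at hw
    rcases hw with (rfl | hw) | hw
    · rfl
    · exact prodw_eq_of_sameB (h.mono fun _ h => List.mem_append_left _ h)
        (List.all_eq_true.1 pRels_rows w hw)
    · rw [of_decide_eq_true (List.all_eq_true.1 gRels_subst w hw)]
      exact h.rel w (List.mem_append_right _ hw)

/-- The element of a row of the second local subgroup. -/
def mEl (γ : ℕ → G) (i : ℕ) : G := prodw (mVal γ) (mWord i)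

/-- Words in the generators of the second local subgroup with the same row. -/
def mSame (v w : List ℕ) : Bool :=
  v.all (fun x => Nat.blt x 12) && (w.all (fun x => Nat.blt x 12) &&
    Nat.beq (mT.walk 0 v) (mT.walk 0 w))

theorem prodw_eq_of_mSame (h : Sat γ (hRels ++ gRels)) {v w : List ℕ} (e : mSame v w = true) :
    prodw γ (mSubst v) = prodw γ (mSubst w) := by
  simp only [mSame, Bool.and_eq_true, List.all_eq_true, Nat.blt_eq, Nat.beq_eq] at e
  rw [← prodw_mVal h, ← prodw_mVal h, m_closed.prodw_eq_word (sat_mVal h) rfl e.1,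
    m_closed.prodw_eq_word (sat_mVal h) rfl e.2.1, e.2.2]

theorem mSub_lt : mSub.all (fun w => w.all (fun x => Nat.blt x 12) && decide (mSubst
    (w.filter fun x => !(Nat.beq x 6)) = w)) = true := by decide +kernel

theorem exists_mEl (h : Sat γ (hRels ++ gRels)) {y : G} (hy : y ∈ mGroup γ) :
    ∃ w : List ℕ, (∀ x ∈ w, x < 12) ∧ prodw (mVal γ) w = y := by
  induction hy using Subgroup.closure_induction with
  | mem y hy =>
    obtain ⟨w, hw, rfl⟩ := hy
    have := List.all_eq_true.1 mSub_lt w hw
    simp only [Bool.and_eq_true, List.all_eq_true, Nat.blt_eq, decide_eq_true_eq] at this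
    refine ⟨w.filter fun x => !(Nat.beq x 6), fun x hx => this.1 x (List.mem_filter.1 hx).1, ?_⟩
    rw [prodw_mVal h, this.2]
  | one => exact ⟨[], by simp, rfl⟩
  | mul a b _ _ ha hb =>
    obtain ⟨v, hv, rfl⟩ := ha
    obtain ⟨w, hw, rfl⟩ := hb
    exact ⟨v ++ w, fun y hy => (List.mem_append.1 hy).elim (hv y) (hw y), prodw_append _ v w⟩
  | inv a _ ha =>
    obtain ⟨v, hv, rfl⟩ := ha
    exact ⟨invW v, Closed.mem_invW (k := 6) m_closed hv,
      prodw_invW_of_sat (sat_mVal h) v hv⟩

/-- The elements of the second local subgroup are elements of rows. -/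
theorem mem_mGroup (h : Sat γ (hRels ++ gRels)) {y : G} (hy : y ∈ mGroup γ) :
    ∃ i, i < 1344 ∧ mEl γ i = y := by
  obtain ⟨w, hw, rfl⟩ := exists_mEl h hy
  exact ⟨_, m_closed.walk_lt hw m_closed.pos, (m_closed.prodw_eq_word (sat_mVal h) rfl hw).symm⟩

theorem card_mGroup_le (h : Sat γ (hRels ++ gRels)) : Nat.card (mGroup γ) ≤ 1344 := by
  have hsub : ((mGroup γ : Subgroup G) : Set G) ⊆ (fun i : Fin 1344 => mEl γ i) '' Set.univ :=
    fun y hy => by
      obtain ⟨i, hi, e⟩ := mem_mGroup h hy
      exact ⟨⟨i, hi⟩, trivial, e⟩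
  have h1 := Set.ncard_le_ncard hsub (Set.toFinite _)
  have h2 := Set.ncard_image_le (f := fun i : Fin 1344 => mEl γ i) Set.finite_univ
  rw [Set.ncard_univ, Nat.card_eq_fintype_card, Fintype.card_fin] at h2
  exact h1.trans h2

end

end CfsgLib.G2Rec
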