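import Cfsg.Agent.G2Three.Main
import Cfsg.Agent.GTwoFour.Main
import Cfsg.Agent.G2Rec.Defs
import Cfsg.Agent.S1055
import Cfsg.Agent.S1059

/-!
# A model of the recognition relators in `G₂(3)`

Six explicit elements of `G₂(3)`, written as products of root elements, satisfy `modelRels` and
generate the group: both are checked on the seven dimensional module.
-/

set_option autoImplicit false
set_option maxRecDepth 100000

namespace CfsgLib.G2Rec

open Cfsg.Lie CfsgLib.CosetEnum CfsgLib.G2Three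

noncomputable section

variable {α : Type*}

/-- The matrices of the root elements on the module. -/
def rootTab : List (List (List ℕ)) :=
  [
    [[1, 0, 0, 0, 0, 0, 0], [0, 1, 0, 0, 0, 1, 0], [0, 0, 1, 0, 0, 0, 2], [0, 0, 0, 1, 0, 0, 0], [0, 0, 0, 0, 1, 0, 0], [0, 0, 0, 0, 0, 1, 0], [0, 0, 0, 0, 0, 0, 1]],
    [[1, 0, 0, 0, 0, 0, 0], [0, 1, 0, 0, 1, 0, 0], [0, 0, 1, 0, 0, 0, 0], [0, 0, 0, 1, 0, 0, 2], [0, 0, 0, 0, 1, 0, 0], [0, 0, 0, 0, 0, 1, 0], [0, 0, 0, 0, 0, 0, 1]],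
    [[1, 0, 0, 0, 0, 0, 1], [1, 1, 0, 0, 0, 0, 2], [0, 0, 1, 0, 1, 0, 0], [0, 0, 0, 1, 0, 2, 0], [0, 0, 0, 0, 1, 0, 0], [0, 0, 0, 0, 0, 1, 0], [0, 0, 0, 0, 0, 0, 1]],
    [[1, 0, 0, 0, 0, 2, 0], [0, 1, 0, 1, 0, 0, 0], [2, 0, 1, 0, 0, 2, 0], [0, 0, 0, 1, 0, 0, 0], [0, 0, 0, 0, 1, 0, 2], [0, 0, 0, 0, 0, 1, 0], [0, 0, 0, 0, 0, 0, 1]],
    [[1, 0, 0, 0, 2, 0, 0], [0, 1, 2, 0, 0, 0, 0], [0, 0, 1, 0, 0, 0, 0], [2, 0, 0, 1, 2, 0, 0], [0, 0, 0, 0, 1, 0, 0], [0, 0, 0, 0, 0, 1, 1], [0, 0, 0, 0, 0, 0, 1]],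
    [[1, 0, 0, 0, 0, 0, 0], [0, 1, 0, 0, 0, 0, 0], [0, 0, 1, 2, 0, 0, 0], [0, 0, 0, 1, 0, 0, 0], [0, 0, 0, 0, 1, 1, 0], [0, 0, 0, 0, 0, 1, 0], [0, 0, 0, 0, 0, 0, 1]],
    [[1, 0, 0, 0, 0, 0, 0], [0, 1, 0, 0, 0, 0, 0], [0, 0, 1, 0, 0, 0, 0], [0, 0, 2, 1, 0, 0, 0], [0, 0, 0, 0, 1, 0, 0], [0, 0, 0, 0, 1, 1, 0], [0, 0, 0, 0, 0, 0, 1]],
    [[1, 0, 0, 1, 0, 0, 0], [0, 1, 0, 0, 0, 0, 0], [0, 2, 1, 0, 0, 0, 0], [0, 0, 0, 1, 0, 0, 0], [1, 0, 0, 2, 1, 0, 0], [0, 0, 0, 0, 0, 1, 0], [0, 0, 0, 0, 0, 1, 1]],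
    [[1, 0, 1, 0, 0, 0, 0], [0, 1, 0, 0, 0, 0, 0], [0, 0, 1, 0, 0, 0, 0], [0, 1, 0, 1, 0, 0, 0], [0, 0, 0, 0, 1, 0, 0], [1, 0, 2, 0, 0, 1, 0], [0, 0, 0, 0, 2, 0, 1]],
    [[1, 2, 0, 0, 0, 0, 0], [0, 1, 0, 0, 0, 0, 0], [0, 0, 1, 0, 0, 0, 0], [0, 0, 0, 1, 0, 0, 0], [0, 0, 1, 0, 1, 0, 0], [0, 0, 0, 2, 0, 1, 0], [2, 2, 0, 0, 0, 0, 1]],
    [[1, 0, 0, 0, 0, 0, 0], [0, 1, 0, 0, 0, 0, 0], [0, 0, 1, 0, 0, 0, 0], [0, 0, 0, 1, 0, 0, 0], [0, 1, 0, 0, 1, 0, 0], [0, 0, 0, 0, 0, 1, 0], [0, 0, 0, 2, 0, 0, 1]],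
    [[1, 0, 0, 0, 0, 0, 0], [0, 1, 0, 0, 0, 0, 0], [0, 0, 1, 0, 0, 0, 0], [0, 0, 0, 1, 0, 0, 0], [0, 0, 0, 0, 1, 0, 0], [0, 1, 0, 0, 0, 1, 0], [0, 0, 2, 0, 0, 0, 1]]]

/-- The six generators as words in the root elements. -/
def genWords : List (List ℕ) :=
  [
    [1, 9, 0, 8, 5, 4, 9, 5, 2],
    [0, 1, 3, 10, 6, 7, 7, 1, 1],
    [0, 1, 7, 1, 11, 10, 4, 10],
    [1, 4, 10, 4, 4, 1, 1],
    [1, 10, 2, 4, 6, 1, 10],
    [0, 2, 5, 6, 10, 2, 9, 9]]

/-- The root elements as words in the six generators. -/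
def rootWords : List (List ℕ) :=
  [
    [8, 10, 5, 10, 6, 3, 10, 4, 10, 8],
    [3, 10, 4, 10, 7, 10, 5, 10, 2],
    [5, 7, 10, 0, 5, 10, 6, 4],
    [4, 7, 10, 8, 7, 10, 8, 5, 10, 8, 7, 10, 3],
    [10, 4, 7, 10, 8, 7, 10, 4, 10, 7, 10, 4, 3],
    [0, 2, 6, 10, 5, 10, 7, 10, 5, 1, 10, 7, 2],
    [7, 10, 4, 10, 6, 10, 5, 10, 6],
    [7, 10, 5, 10, 8, 5, 10, 5, 10, 7, 5],
    [10, 7, 10, 7, 10, 1, 4, 10, 6, 10, 6, 10],
    [6, 10, 5, 8, 10, 4, 10, 7, 10, 7],
    [0, 5, 10, 1, 7, 10, 4, 0],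
    [6, 10, 4, 10, 6, 10, 5, 10, 7]]

/-- The product of two tables modulo three. -/
def mulTab (A B : List (List ℕ)) : List (List ℕ) :=
  (List.range 7).map fun i => (List.range 7).map fun j =>
    ((List.range 7).foldr (fun l acc => (A.getD i []).getD l 0 * (B.getD l []).getD j 0 + acc) 0) % 3

/-- The identity table. -/
def oneTab : List (List ℕ) :=
  (List.range 7).map fun i => (List.range 7).map fun j => if i = j then 1 else 0

/-- The table of a word in the root elements. -/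
def evalTab : List ℕ → List (List ℕ)
  | [] => oneTab
  | r :: l => mulTab (rootTab.getD r []) (evalTab l)

/-- The root word of a letter. -/
def letterWord (v : ℕ) : List ℕ :=
  if v < 12 then
    if v % 2 = 0 then genWords.getD (v / 2) []
    else (genWords.getD (v / 2) []).reverse.flatMap fun r => [r, r]
  else []

/-- An element given by a word in the root elements. -/
def rootElem (l : List ℕ) : G23 := wordElt (l.map fun r => Fin.ofNat 12 r)

theorem rootTab_ok_nat : ∀ r : Fin 12, ∀ i j : Fin 7,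
    ((genTab.getD r []).getD (pos (sub i)) []).getD (pos (sub j)) 0 =
      ((rootTab.getD r []).getD i []).getD j 0 := by
  decide +kernel

theorem rootTab_ok (r : Fin 12) (i j : Fin 7) : rT r i j = ent2 (rootTab.getD r []) i j := by
  show ((((genTab.getD r []).getD (pos (sub i)) []).getD (pos (sub j)) 0 : ℕ) : K3) = _
  rw [rootTab_ok_nat r i j]
  rfl

theorem oneTab_ok : ∀ i j : Fin 7, (if i = j then (1 : K3) else 0) = ent2 oneTab i j := by
  decide +kernel

theorem getD_map_range (f : ℕ → α) (d : α) {n i : ℕ} (hi : i < n) :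
    ((List.range n).map f).getD i d = f i := by
  rw [List.getD_eq_getElem?_getD, List.getElem?_map, List.getElem?_range hi]
  rfl

theorem foldr_range (f : ℕ → ℕ) : ∀ n : ℕ,
    (List.range n).foldr (fun l acc => f l + acc) 0 = ∑ l : Fin n, f l
  | 0 => rfl
  | n + 1 => by
    rw [List.range_succ_eq_map, List.foldr_cons, List.foldr_map, foldr_range (fun l => f (l + 1)) n,
      Fin.sum_univ_succ]
    rfl

theorem ent2_mulTab (A B : List (List ℕ)) (i j : Fin 7) :
    ent2 (mulTab A B) i j = ∑ l : Fin 7, ent2 A i l * ent2 B l j := by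
  show ((((mulTab A B).getD i []).getD j 0 : ℕ) : K3) = _
  rw [mulTab, getD_map_range _ _ i.isLt, getD_map_range _ _ j.isLt, ZMod.natCast_mod, foldr_range,
    Nat.cast_sum]
  refine Finset.sum_congr rfl fun l _ => ?_
  rw [Nat.cast_mul]
  rfl

theorem rho_rootElem : ∀ (l : List ℕ), (∀ r ∈ l, r < 12) → ∀ i j,
    rho (rootElem l) i j = ent2 (evalTab l) i j
  | [], _, i, j => by
    rw [rootElem, List.map_nil, wordElt, List.map_nil, List.prod_nil, map_one, Matrix.one_apply]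
    exact oneTab_ok i j
  | r :: l, hl, i, j => by
    have hr : (Fin.ofNat 12 r).val = r := Nat.mod_eq_of_lt (hl r (List.mem_cons_self))
    rw [rootElem, List.map_cons, wordElt, List.map_cons, List.prod_cons, map_mul, rho_gen,
      Matrix.mul_apply, hr, evalTab, ent2_mulTab]
    refine Finset.sum_congr rfl fun k _ => ?_
    have h := rho_rootElem l (fun x hx => hl x (List.mem_cons_of_mem r hx)) k j
    rw [rootElem, wordElt] at h
    rw [← h, rootTab_ok ⟨r, hl r (List.mem_cons_self)⟩ i k]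

theorem rootElem_append (u v : List ℕ) : rootElem (u ++ v) = rootElem u * rootElem v := by
  simp [rootElem, wordElt]

theorem rootElem_eq_of_eval {u v : List ℕ} (hu : ∀ r ∈ u, r < 12) (hv : ∀ r ∈ v, r < 12)
    (h : evalTab u = evalTab v) : rootElem u = rootElem v :=
  rho_injective (Matrix.ext fun i j => by rw [rho_rootElem u hu, rho_rootElem v hv, h])

theorem letterWord_lt (v : ℕ) : ∀ r ∈ letterWord v, r < 12 := by
  have h : ∀ v : Fin 13, (letterWord v).all (fun r => r < 12) = true := by decide +kernel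
  intro r hr
  by_cases hv : v < 13
  · simpa using List.all_eq_true.1 (h ⟨v, hv⟩) r hr
  · rw [letterWord, if_neg (by omega)] at hr
    simp at hr

/-- The model valuation. -/
def model (v : ℕ) : G23 := rootElem (letterWord v)

theorem prodw_model (w : List ℕ) : prodw model w = rootElem (w.flatMap letterWord) := by
  induction w with
  | nil => rfl
  | cons x w ih => rw [prodw_cons, ih, List.flatMap_cons, rootElem_append]; rfl

theorem flatMap_lt (w : List ℕ) : ∀ r ∈ w.flatMap letterWord, r < 12 := by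
  intro r hr
  obtain ⟨v, -, hv⟩ := List.mem_flatMap.1 hr
  exact letterWord_lt v r hv

theorem model_rels : ∀ w ∈ modelRels, evalTab (w.flatMap letterWord) = oneTab := by
  decide +kernel

theorem model_inv_ok : ∀ v : Fin 12,
    evalTab ([(v : ℕ), Nat.xor v 1].flatMap letterWord) = oneTab := by
  decide +kernel

theorem model_sat : Sat model modelRels where
  iv v hv := by
    refine eq_inv_of_mul_eq_one_right ?_
    have h : prodw model [v, Nat.xor v 1] = 1 := by
      rw [prodw_model, rootElem_eq_of_eval (v := []) (flatMap_lt _) (by simp) (model_inv_ok ⟨v, hv⟩)]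
      rfl
    simpa [prodw] using h
  eps := rfl
  rel w hw := by
    rw [prodw_model, rootElem_eq_of_eval (v := []) (flatMap_lt _) (by simp) (model_rels w hw)]
    rfl

theorem rootWords_ok : ∀ r : Fin 12,
    evalTab ((rootWords.getD r []).flatMap letterWord) = evalTab [(r : ℕ)] ∧
      (rootWords.getD r []).all (fun v => v < 12) = true := by
  decide +kernel

theorem gen_mem_fullGroup (r : Fin 12) : gen r ∈ fullGroup model := by
  obtain ⟨h1, h2⟩ := rootWords_ok r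
  have h : gen r = prodw model (rootWords.getD r []) := by
    rw [prodw_model, rootElem_eq_of_eval (flatMap_lt _) (by simp) h1]
    simp [rootElem, wordElt, Fin.ofNat, Nat.mod_eq_of_lt r.isLt]
  rw [h]
  refine Subgroup.list_prod_mem _ fun x hx => ?_
  obtain ⟨v, hv, rfl⟩ := List.mem_map.1 hx
  exact Subgroup.subset_closure ⟨v, by simpa using List.all_eq_true.1 h2 v hv, rfl⟩

theorem fullGroup_model : fullGroup model = ⊤ := by
  have hkey : ∀ g ∈ G23, g ∈ (fullGroup model).map G23.subtype := by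
    intro g hg
    induction hg using Subgroup.closure_induction with
    | mem x hx =>
      obtain ⟨r, t, he⟩ := hx
      obtain ⟨h0, h1, h2⟩ := xMat_eq r
      have hg1 : ((gen r).1).1 = gT r := by
        show ((Chevalley.X goodG2 (rootIx r) (1 : K3) : GL Ix K3) : Matrix Ix Ix K3) = _
        rw [Chevalley.coe_X, ← Chevalley.x_eq_xR goodG2, ChevalleyDatum.x,
          dif_pos (rootIx r).isLt]
        exact h1
      have ht : t = 0 ∨ t = 1 ∨ t = 2 := by clear he h0 h1 h2; revert t; decide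
      rcases ht with rfl | rfl | rfl
      · exact ⟨1, one_mem _, Units.ext (by rw [he, h0]; rfl)⟩
      · exact ⟨gen r, gen_mem_fullGroup r, Units.ext (by rw [he, h1]; exact hg1)⟩
      · exact ⟨gen r * gen r, mul_mem (gen_mem_fullGroup r) (gen_mem_fullGroup r),
          Units.ext (by rw [he, h2, ← hg1]; rfl)⟩
    | one => exact one_mem _
    | mul x y _ _ hx hy => exact mul_mem hx hy
    | inv x _ hx => exact inv_mem hx
  rw [Subgroup.eq_top_iff']
  intro g
  obtain ⟨y, hy, e⟩ := hkey g.1 g.2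
  rwa [← show y = g from Subtype.ext e]

/-- The relators hold in `G₂(3)` for generators of the whole group. -/
theorem exists_model (F : Type) [Field F] [Fintype F] (hF : Fintype.card F = 3) :
    ∃ δ : ℕ → Cfsg.Lie.chevG2.group F, Sat δ modelRels ∧ fullGroup δ = ⊤ := by
  let e : G23 ≃* ↥(chevG2.group F) := GTwoFour.groupEquiv (ZMod.ringEquivOfPrime F Nat.prime_three hF)
  refine ⟨fun v => e (model v), ⟨fun v hv => ?_, ?_, fun w hw => ?_⟩, ?_⟩
  · rw [model_sat.iv v hv, map_inv]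
  · rw [model_sat.eps, map_one]
  · have h := congrArg e (model_sat.rel w hw)
    rw [map_one, prodw, map_list_prod, List.map_map] at h
    exact h
  · have h := congrArg (Subgroup.map e.toMonoidHom) fullGroup_model
    rw [fullGroup, MonoidHom.map_closure, ← MonoidHom.range_eq_map,
      MonoidHom.range_eq_top.2 e.surjective, ← Set.image_comp] at h
    exact h

/-- `G₂(3)` is simple of order 4245696. -/
theorem isSimple_and_card (F : Type) [Field F] [Fintype F] (hF : Fintype.card F = 3) :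
    IsSimpleGroup (Cfsg.Lie.chevG2.group F) ∧ Nat.card (Cfsg.Lie.chevG2.group F) = 4245696 := by
  refine ⟨(Cfsg.Agent.S1055.result (F := F) ?_).1, ?_⟩
  · classical
    obtain ⟨a, -, ha⟩ := Finset.exists_mem_notMem_of_card_lt_card (s := ({0, 1} : Finset F))
      (t := Finset.univ) (Finset.card_le_two.trans_lt (by rw [Finset.card_univ]; omega))
    simp only [Finset.mem_insert, Finset.mem_singleton, not_or] at ha
    exact ⟨a, ha⟩
  · rw [Cfsg.Agent.S1059.result hF]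
    norm_num

end

end CfsgLib.G2Rec
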