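import Cfsg.Agent.G2Rec.HTable
import Cfsg.Agent.G2Three.Main
import Cfsg.Agent.GTwoFour.Main
import Cfsg.Agent.S1059

/-!
# The generated subgroup is the whole group

The centralizer of `z` contains a Sylow 2-subgroup, so all involutions are conjugate. Were the
generated copy `K` of `G₂(3)` proper, a coset of `K` would hold at least 7371 involutions, giving a
subgroup `D ≤ K` of odd order at least 7371 and an involution inverting 7371 of its elements.
Sylow's theorem for the prime 13 leaves only `|D| = 9477`, when more than three quarters of `D` are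
inverted, so `D` is abelian and has an element of order 39, which `G₂(3)` has not.
-/

set_option autoImplicit false
set_option linter.style.haveILetI false

namespace CfsgLib.G2Rec

open Subgroup CfsgLib.CosetEnum
open CfsgLib.UFourType (invW)

noncomputable section

/-- Generators of a Sylow 2-subgroup of the centralizer. -/
def sGens : List (List ℕ) := qGens ++ [[8]]

/-- The words of the elements of the Sylow 2-subgroup. -/
def sWord (t : ℕ) : List ℕ :=
  List.replicate (t % 4) 0 ++ List.replicate (t / 4 % 2) 2 ++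
    (List.replicate (t / 8 % 2) jW).flatten ++ (List.replicate (t / 16 % 2) bW).flatten ++
      List.replicate (t / 32 % 2) 8

/-- An outer involution of the centralizer. -/
def outW : List ℕ := [8, 4, 6] ++ e2W

/-- An involution conjugate to `outW` by `g`. -/
def inW : List ℕ := [0] ++ e2W

/-- The rows of the Sylow 2-subgroup. -/
def sRows : List ℕ := (List.range 64).map fun t => idx (sWord t)

theorem s_lt : (List.range 64).all (fun t => (sWord t).all fun x => Nat.blt x 10) = true := by
  decide +kernel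

theorem s_nodup : sRows.Nodup := by decide +kernel

theorem s_closed : (List.range 64).all (fun t => sGens.all fun q =>
    sRows.any (Nat.beq (idx (sWord t ++ q))) &&
      sRows.any (Nat.beq (idx (sWord t ++ invW q)))) = true := by decide +kernel

theorem s_exp : (List.range 64).all (fun t =>
    sameB ((List.replicate 16 (sWord t)).flatten) []) = true := by decide +kernel

theorem s_invol : (List.range 64).all (fun t =>
    !(sameB (sWord t ++ sWord t) []) || sameB (sWord t) [] || sameB (sWord t) zW ||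
      (List.range 576).any (fun i =>
        sameB (hWord i ++ sWord t ++ invW (hWord i)) e1W ||
          sameB (hWord i ++ sWord t ++ invW (hWord i)) outW)) = true := by decide +kernel

theorem in_invol : (List.range 576).any (fun i =>
    sameB (hWord i ++ inW ++ invW (hWord i)) e1W) = true := by decide +kernel

theorem words_ok : sameB (e1W ++ e1W) [] = true ∧ sameB [0, 2, 2, 2] zW = false ∧
    sGens.all (fun q => q.all fun x => Nat.blt x 10) = true ∧ sameB [0, 0, 0, 0] [] = true := by
  decide +kernel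

variable {G : Type*} [Group G]

theorem hGroup_le_fullGroup (γ : ℕ → G) : hGroup γ ≤ fullGroup γ :=
  closure_mono (Set.image_mono fun v (hv : v < 10) => show v < 12 by omega)

theorem centralizer_le_fullGroup (f : Fr G) :
    centralizer ({prodw f.γ zW} : Set G) ≤ fullGroup f.γ :=
  f.cent ▸ hGroup_le_fullGroup f.γ

theorem prodw_mem_fullGroup (γ : ℕ → G) {w : List ℕ} (hw : ∀ x ∈ w, x < 12) :
    prodw γ w ∈ fullGroup γ := by
  refine list_prod_mem fun x hx => ?_
  obtain ⟨v, hv, rfl⟩ := List.mem_map.1 hx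
  exact subset_closure ⟨v, hw v hv, rfl⟩

/-- The Sylow 2-subgroup of the centralizer. -/
def sGroup (γ : ℕ → G) : Subgroup G := closure {h | ∃ q ∈ sGens, h = prodw γ q}

theorem sWord_lt {t : ℕ} (ht : t < 64) : ∀ x ∈ sWord t, x < 10 := fun x hx => by
  simpa using List.all_eq_true.1 (List.all_eq_true.1 s_lt t (List.mem_range.2 ht)) x hx

theorem sGens_lt {q : List ℕ} (hq : q ∈ sGens) : ∀ x ∈ q, x < 10 := fun x hx => by
  simpa using List.all_eq_true.1 (List.all_eq_true.1 words_ok.2.2.1 q hq) x hx

theorem invW_lt {w : List ℕ} (hw : ∀ x ∈ w, x < 10) : ∀ x ∈ invW w, x < 10 :=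
  Closed.mem_invW (k := 5) h_closed hw

theorem lt_twelve {w : List ℕ} (hw : ∀ x ∈ w, x < 10) : ∀ x ∈ w, x < 12 := fun x hx => by
  have := hw x hx
  omega

theorem sGroup_le (γ : ℕ → G) : sGroup γ ≤ hGroup γ :=
  (closure_le _).2 fun _ ⟨_, hq, e⟩ => e ▸ prodw_mem_hGroup (sGens_lt hq)

variable (f : Fr G)

theorem exists_sWord {y : G} (hy : y ∈ sGroup f.γ) : ∃ t < 64, y = prodw f.γ (sWord t) := by
  have step : ∀ {t : ℕ} {w : List ℕ}, t < 64 → (∀ x ∈ w, x < 10) →
      sRows.any (Nat.beq (idx (sWord t ++ w))) = true →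
        ∃ t' < 64, prodw f.γ (sWord t) * prodw f.γ w = prodw f.γ (sWord t') := by
    intro t w ht hw h
    obtain ⟨i, hi, hie⟩ := List.any_eq_true.1 h
    obtain ⟨t', ht', rfl⟩ := List.mem_map.1 hi
    rw [List.mem_range] at ht'
    refine ⟨t', ht', ?_⟩
    rw [← prodw_append, prodw_eq_el f.satH (fun x hx =>
      (List.mem_append.1 hx).elim (sWord_lt ht x) (hw x)), Nat.eq_of_beq_eq_true hie,
      prodw_eq_el f.satH (sWord_lt ht')]
  induction hy using closure_induction_right with
  | one => exact ⟨0, by norm_num, rfl⟩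
  | mul_right x _ y hy ih =>
    obtain ⟨q, hq, rfl⟩ := hy
    obtain ⟨t, ht, rfl⟩ := ih
    have h := List.all_eq_true.1 (List.all_eq_true.1 s_closed t (List.mem_range.2 ht)) q hq
    exact step ht (sGens_lt hq) ((Bool.and_eq_true _ _).mp h).1
  | mul_inv_cancel x _ y hy ih =>
    obtain ⟨q, hq, rfl⟩ := hy
    obtain ⟨t, ht, rfl⟩ := ih
    have h := List.all_eq_true.1 (List.all_eq_true.1 s_closed t (List.mem_range.2 ht)) q hq
    rw [← prodw_invW_of_sat f.satH q (lt_twelve (sGens_lt hq))]
    exact step ht (invW_lt (sGens_lt hq)) ((Bool.and_eq_true _ _).mp h).2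

theorem prodw_sWord_mem {t : ℕ} (_ht : t < 64) : prodw f.γ (sWord t) ∈ sGroup f.γ := by
  have hm : ∀ q ∈ sGens, prodw f.γ q ∈ sGroup f.γ := fun q hq => subset_closure ⟨q, hq, rfl⟩
  have h1 : ∀ (v n : ℕ), [v] ∈ sGens → prodw f.γ (List.replicate n v) ∈ sGroup f.γ := by
    intro v n hv
    induction n with
    | zero => exact one_mem _
    | succ n ih =>
      rw [List.replicate_succ, show v :: List.replicate n v = [v] ++ List.replicate n v from rfl,
        prodw_append]
      exact mul_mem (hm _ hv) ih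
  have h2 : ∀ (q : List ℕ) (n : ℕ), q ∈ sGens →
      prodw f.γ (List.replicate n q).flatten ∈ sGroup f.γ := by
    intro q n hq
    induction n with
    | zero => exact one_mem _
    | succ n ih =>
      rw [List.replicate_succ, List.flatten_cons, prodw_append]
      exact mul_mem (hm _ hq) ih
  rw [sWord, prodw_append, prodw_append, prodw_append, prodw_append]
  exact mul_mem (mul_mem (mul_mem (mul_mem (h1 0 _ (by decide)) (h1 2 _ (by decide)))
    (h2 jW _ (by decide))) (h2 bW _ (by decide))) (h1 8 _ (by decide))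

theorem z_mem_sGroup : prodw f.γ zW ∈ sGroup f.γ := by
  rw [show zW = [0] ++ [0] from rfl, prodw_append]
  exact mul_mem (subset_closure ⟨[0], by decide, rfl⟩) (subset_closure ⟨[0], by decide, rfl⟩)

theorem isPGroup_sGroup : IsPGroup 2 (sGroup f.γ) := fun y => by
  refine ⟨4, Subtype.ext ?_⟩
  obtain ⟨t, ht, he⟩ := exists_sWord f y.2
  have h := prodw_eq_of_sameB f.satH (List.all_eq_true.1 s_exp t (List.mem_range.2 ht))
  rw [Subgroup.coe_pow, he, Subgroup.coe_one]
  have e : ∀ n : ℕ, prodw f.γ (List.replicate n (sWord t)).flatten = prodw f.γ (sWord t) ^ n := by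
    intro n
    induction n with
    | zero => simp [prodw]
    | succ n ih => rw [List.replicate_succ, List.flatten_cons, prodw_append, ih, pow_succ']
  rw [e] at h
  exact h

theorem card_sGroup [Finite G] : Nat.card (sGroup f.γ) = 64 := by
  haveI : Fact (Nat.Prime 2) := ⟨Nat.prime_two⟩
  have hge : 64 ≤ Nat.card (sGroup f.γ) := by
    have hinj : Function.Injective (fun t : Fin 64 =>
        (⟨prodw f.γ (sWord t), prodw_sWord_mem f t.2⟩ : sGroup f.γ)) := by
      intro a b e
      have h1 : el f.γ (idx (sWord a)) = el f.γ (idx (sWord b)) := by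
        rw [← prodw_eq_el f.satH (sWord_lt a.2), ← prodw_eq_el f.satH (sWord_lt b.2)]
        exact congrArg Subtype.val e
      have h2 := el_inj f.satH f.z_ne (idx_lt (sWord_lt a.2)) (idx_lt (sWord_lt b.2)) h1
      have hn : ((List.range 64).map fun t => idx (sWord t)).Nodup := s_nodup
      exact Fin.ext (List.inj_on_of_nodup_map hn (List.mem_range.2 a.2) (List.mem_range.2 b.2) h2)
    simpa using Nat.card_le_card_of_injective _ hinj
  obtain ⟨k, hk⟩ := IsPGroup.iff_card.1 (isPGroup_sGroup f)
  have hd : 2 ^ k ∣ 576 := by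
    rw [← hk, ← card_hGroup f.satH f.z_ne]
    exact card_dvd_of_le (sGroup_le f.γ)
  have hk6 : k ≤ 6 := by
    by_contra h
    have : 2 ^ 7 ∣ 576 := (pow_dvd_pow 2 (by omega)).trans hd
    norm_num at this
  rw [hk] at hge ⊢
  have := Nat.pow_le_pow_right two_pos hk6
  omega

/-- Only `1` and `z` in the centralizer of `z` commute with the Sylow 2-subgroup. -/
theorem eq_z_of_central {u : G} (hu : u ∈ hGroup f.γ) (hc : ∀ y ∈ sGroup f.γ, Commute u y) :
    u = 1 ∨ u = prodw f.γ zW := by
  obtain ⟨i, hi, rfl⟩ := (mem_hGroup f.satH).1 hu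
  have hm := List.all_eq_true.1 h_moved i (List.mem_range.2 hi)
  simp only [Bool.or_eq_true, Nat.beq_eq, List.any_eq_true, Bool.and_eq_true,
    Bool.not_eq_true'] at hm
  rcases hm with (hm | hm) | ⟨q, hq, hne, -⟩
  · exact Or.inl (by rw [hm, el_zero f.satH])
  · exact Or.inr (by rw [hm, ← prodw_eq_el f.satH zW_lt])
  exfalso
  have hq' : q ∈ sGens := List.mem_append_left _ hq
  have h1 := prodw_eq_el f.satH (commW_lt (hWord_spec hi).2 (sGens_lt hq'))
  rw [prodw_commW f.satH (lt_twelve (hWord_spec hi).2) (lt_twelve (sGens_lt hq'))] at h1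
  have hcq : Commute (el f.γ i) (prodw f.γ q) := hc _ (subset_closure ⟨q, hq', rfl⟩)
  rw [show prodw f.γ (hWord i) = el f.γ i from rfl, hcq.eq, mul_inv_cancel_right,
    mul_inv_cancel] at h1
  have h0 := eq_zero_of_el_eq_one f.satH f.z_ne (idx_lt (commW_lt (hWord_spec hi).2 (sGens_lt hq')))
    h1.symm
  rw [h0] at hne
  simp at hne

variable [Finite G]

omit [Finite G] in
theorem orderOf_z : orderOf (prodw f.γ zW) = 2 := by
  haveI : Fact (Nat.Prime 2) := ⟨Nat.prime_two⟩
  refine orderOf_eq_prime ?_ f.z_ne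
  rw [pow_two, ← prodw_append]
  exact prodw_eq_of_sameB f.satH (v := [0, 0, 0, 0]) (w := []) words_ok.2.2.2

/-- The Sylow 2-subgroup of the centralizer is one of every group containing it. -/
theorem eq_of_le_twoGroup {K : Subgroup G} (hK : IsPGroup 2 K) (hle : sGroup f.γ ≤ K) :
    sGroup f.γ = K := by
  haveI : Fact (Nat.Prime 2) := ⟨Nat.prime_two⟩
  by_contra hne
  haveI := hK.isNilpotent
  set S' := (sGroup f.γ).subgroupOf K
  have hlt : S' < ⊤ := lt_top_iff_ne_top.2 fun h =>
    hne (le_antisymm hle (subgroupOf_eq_top.1 h))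
  obtain ⟨n, hn, hnS⟩ := SetLike.exists_of_lt (Group.normalizerCondition_of_isNilpotent S' hlt)
  have hnG : (n : G) ∈ normalizer (sGroup f.γ : Set G) := by
    rw [mem_normalizer_iff]
    intro y
    constructor
    · intro hy
      have := (mem_normalizer_iff.1 hn ⟨y, hle hy⟩).1 (mem_subgroupOf.2 hy)
      simpa [S', mem_subgroupOf] using this
    · intro hy
      have hyK : y ∈ K := by
        have := mul_mem (mul_mem (inv_mem n.2) (hle hy)) n.2
        simpa [mul_assoc] using this
      exact mem_subgroupOf.1 ((mem_normalizer_iff.1 hn ⟨y, hyK⟩).2 (mem_subgroupOf.2 hy))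
  -- the normalizer of `sGroup` centralizes `z`
  have hN : ∀ {c : G}, c ∈ normalizer (sGroup f.γ : Set G) → c ∈ hGroup f.γ := by
    intro c hc
    have hzS : c * prodw f.γ zW * c⁻¹ ∈ sGroup f.γ := (mem_normalizer_iff.1 hc _).1 (z_mem_sGroup f)
    have hcomm : ∀ y ∈ sGroup f.γ, Commute (c * prodw f.γ zW * c⁻¹) y := by
      intro y hy
      have h1 : c⁻¹ * y * c ∈ centralizer ({prodw f.γ zW} : Set G) := by
        rw [f.cent]
        refine sGroup_le f.γ ?_
        have := (mem_normalizer_iff.1 (inv_mem hc) y).1 hy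
        rwa [inv_inv] at this
      have h2 : Commute (prodw f.γ zW) (c⁻¹ * y * c) :=
        (mem_centralizer_singleton_iff.1 h1).symm
      have h3 := h2.map (MulAut.conj c).toMonoidHom
      simpa [mul_assoc] using h3
    rcases eq_z_of_central f (sGroup_le f.γ hzS) hcomm with h | h
    · exact absurd (conj_eq_one_iff.1 h) f.z_ne
    · rw [← f.cent, mem_centralizer_singleton_iff]
      exact mul_inv_eq_iff_eq_mul.1 h
  have hsup : sGroup f.γ < sGroup f.γ ⊔ zpowers (n : G) :=
    lt_of_le_of_ne le_sup_left fun h => hnS (mem_subgroupOf.2 (h ▸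
      mem_sup_right (mem_zpowers _)))
  have hle2 : sGroup f.γ ⊔ zpowers (n : G) ≤ K ⊓ hGroup f.γ :=
    sup_le (le_inf hle (sGroup_le f.γ)) (zpowers_le.2 ⟨n.2, hN hnG⟩)
  obtain ⟨k, hk⟩ := IsPGroup.iff_card.1 (hK.to_le (inf_le_left : K ⊓ hGroup f.γ ≤ K))
  have hd : 2 ^ k ∣ 576 := by
    rw [← hk, ← card_hGroup f.satH f.z_ne]
    exact card_dvd_of_le inf_le_right
  have h64 : 64 < Nat.card ↥(K ⊓ hGroup f.γ) := by
    have h1 := card_sGroup f
    have h2 := Subgroup.card_le_of_le hle2
    have h3 : Nat.card (sGroup f.γ) < Nat.card ↥(sGroup f.γ ⊔ zpowers (n : G)) := by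
      by_contra h
      exact hsup.ne (eq_of_le_of_card_ge hsup.le (not_lt.1 h))
    omega
  rw [hk] at h64
  have hk7 : 7 ≤ k := by
    by_contra h
    have := Nat.pow_le_pow_right two_pos (show k ≤ 6 by omega)
    omega
  have : 2 ^ 7 ∣ 576 := (pow_dvd_pow 2 hk7).trans hd
  norm_num at this

omit [Finite G] in
theorem exists_conj_sRow {u : G} (hu : u ∈ sGroup f.γ) (ho : orderOf u = 2) :
    ∃ c ∈ fullGroup f.γ, c * u * c⁻¹ = prodw f.γ zW := by
  obtain ⟨t, ht, rfl⟩ := exists_sWord f hu
  have hg : prodw f.γ [10] ∈ fullGroup f.γ := prodw_mem_fullGroup _ (by decide)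
  have hgg : f.γ 10 * f.γ 10 = 1 := by simpa [prodw] using f.satG.rel [10, 10] (by decide)
  have hginv : (f.γ 10)⁻¹ = f.γ 10 := inv_eq_of_mul_eq_one_right hgg
  have h11 : f.γ 11 = f.γ 10 := by
    rw [show (11 : ℕ) = Nat.xor 10 1 by decide, f.sat.iv 10 (by norm_num), hginv]
  -- `g` moves `e1` to `z` and `inW` to `outW`
  have he1 : f.γ 10 * prodw f.γ e1W * (f.γ 10)⁻¹ = prodw f.γ zW := by
    have h := f.satG.rel [10, 0, 0, 10, 3, 1] (by decide)
    have h3 : f.γ 3 = (f.γ 2)⁻¹ := by rw [show (3 : ℕ) = Nat.xor 2 1 by decide, f.sat.iv 2 (by norm_num)]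
    have h1 : f.γ 1 = (f.γ 0)⁻¹ := by rw [show (1 : ℕ) = Nat.xor 0 1 by decide, f.sat.iv 0 (by norm_num)]
    simp only [prodw, List.map_cons, List.map_nil, List.prod_cons, List.prod_nil, mul_one, h1, h3] at h
    have h' : f.γ 10 * (f.γ 0 * f.γ 0) * f.γ 10 = f.γ 0 * f.γ 2 := by
      rw [← mul_inv_eq_one, mul_inv_rev, ← h]
      group
    rw [hginv]
    simp only [e1W, zW, prodw, List.map_cons, List.map_nil, List.prod_cons, List.prod_nil, mul_one]
    rw [← h', show f.γ 10 * (f.γ 10 * (f.γ 0 * f.γ 0) * f.γ 10) * f.γ 10 =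
      (f.γ 10 * f.γ 10) * (f.γ 0 * f.γ 0) * (f.γ 10 * f.γ 10) by group, hgg, one_mul, mul_one]
  have hout : f.γ 10 * prodw f.γ outW * (f.γ 10)⁻¹ = prodw f.γ inW := by
    have ha := f.satG.rel [10, 0, 10, 7, 5, 9] (by decide)
    have hb := f.satG.rel ([10] ++ e2W ++ [10] ++ invW e2W) (by decide)
    rw [show [10, 0, 10, 7, 5, 9] = [10, 0, 10] ++ invW [8, 4, 6] by decide, prodw_append,
      prodw_invW_of_sat f.sat _ (by decide), mul_inv_eq_one] at ha
    rw [prodw_append, prodw_invW_of_sat f.sat e2W (by decide), mul_inv_eq_one, prodw_append,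
      prodw_append] at hb
    simp only [prodw, List.map_cons, List.map_nil, List.prod_cons, List.prod_nil, mul_one] at ha
    have hb' : f.γ 10 * prodw f.γ e2W * f.γ 10 = prodw f.γ e2W := by
      simpa [prodw] using hb
    rw [hginv, outW, inW, prodw_append, prodw_append,
      show prodw f.γ [8, 4, 6] = f.γ 10 * f.γ 0 * f.γ 10 by
        simp only [prodw, List.map_cons, List.map_nil, List.prod_cons, List.prod_nil, mul_one]
        rw [← ha]; group,
      show prodw f.γ [0] = f.γ 0 by simp [prodw],
      show f.γ 10 * (f.γ 10 * f.γ 0 * f.γ 10 * prodw f.γ e2W) * f.γ 10 =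
        (f.γ 10 * f.γ 10) * f.γ 0 * (f.γ 10 * prodw f.γ e2W * f.γ 10) by group, hgg, hb', one_mul]
  have conjH : ∀ {i : ℕ} {v w : List ℕ}, i < 576 → (∀ x ∈ v, x < 10) →
      sameB (hWord i ++ v ++ invW (hWord i)) w = true →
      ∃ c ∈ fullGroup f.γ, c * prodw f.γ v * c⁻¹ = prodw f.γ w := by
    intro i v w hi _ h
    refine ⟨prodw f.γ (hWord i), prodw_mem_fullGroup _ (lt_twelve (hWord_spec hi).2), ?_⟩
    rw [← prodw_invW_of_sat f.satH _ (lt_twelve (hWord_spec hi).2), ← prodw_append, ← prodw_append,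
      prodw_eq_of_sameB f.satH h]
  have hm := List.all_eq_true.1 s_invol t (List.mem_range.2 ht)
  simp only [Bool.or_eq_true, List.any_eq_true, Bool.not_eq_true'] at hm
  rcases hm with ((hm | hm) | hm) | ⟨i, hi, hm⟩
  · exfalso
    have h2 : prodw f.γ (sWord t ++ sWord t) = prodw f.γ [] := by
      rw [prodw_append, ← pow_two, ← ho, pow_orderOf_eq_one]
      rfl
    have hl : ∀ x ∈ sWord t ++ sWord t, x < 10 := fun x hx =>
      (List.mem_append.1 hx).elim (sWord_lt ht x) (sWord_lt ht x)
    have h3 : idx (sWord t ++ sWord t) = idx [] :=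
      el_inj f.satH f.z_ne (idx_lt hl) (idx_lt (by simp))
        (by rw [← prodw_eq_el f.satH hl, ← prodw_eq_el f.satH (w := []) (by simp)]; exact h2)
    simp only [sameB, Bool.and_eq_false_iff] at hm
    rcases hm with hm | hm | hm
    · exact absurd (List.all_eq_true.2 fun x hx => Nat.blt_eq.mpr (hl x hx)) (by rw [hm]; simp)
    · simp at hm
    · rw [h3] at hm
      simp at hm
  · have := prodw_eq_of_sameB f.satH hm
    rw [this] at ho
    simp [prodw] at ho
  · exact ⟨1, one_mem _, by rw [one_mul, inv_one, mul_one, prodw_eq_of_sameB f.satH hm]⟩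
  · rw [List.mem_range] at hi
    rcases hm with hm | hm
    · obtain ⟨c, hc, e⟩ := conjH hi (sWord_lt ht) hm
      refine ⟨f.γ 10 * c, mul_mem (by simpa [prodw] using hg) hc, ?_⟩
      rw [← he1, ← e]
      group
    · obtain ⟨c, hc, e⟩ := conjH hi (sWord_lt ht) hm
      obtain ⟨i', hi', hm'⟩ := List.any_eq_true.1 in_invol
      obtain ⟨c', hc', e'⟩ := conjH (List.mem_range.1 hi') (by decide) hm'
      refine ⟨f.γ 10 * c' * f.γ 10 * c, mul_mem (mul_mem (mul_mem (by simpa [prodw] using hg) hc')
        (by simpa [prodw] using hg)) hc, ?_⟩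
      rw [← he1, ← e', ← hout, ← e]
      group

/-- All involutions of a group containing the generated subgroup are conjugate in it. -/
theorem exists_conj_z {K : Subgroup G} (hK : fullGroup f.γ ≤ K) {u : G} (hu : u ∈ K)
    (ho : orderOf u = 2) : ∃ c ∈ K, c * u * c⁻¹ = prodw f.γ zW := by
  haveI : Fact (Nat.Prime 2) := ⟨Nat.prime_two⟩
  have hSK : sGroup f.γ ≤ K := ((sGroup_le f.γ).trans (hGroup_le_fullGroup f.γ)).trans hK
  obtain ⟨P, hP⟩ := ((isPGroup_sGroup f).of_equiv
    (subgroupOfEquivOfLe hSK).symm).exists_le_sylow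
  have hPS : sGroup f.γ = (P : Subgroup K).map K.subtype :=
    eq_of_le_twoGroup f (P.isPGroup'.map _) fun y hy => ⟨⟨y, hSK hy⟩, hP hy, rfl⟩
  have hou : orderOf (⟨u, hu⟩ : K) = 2 := by rw [orderOf_mk]; exact ho
  obtain ⟨Q, hQ⟩ := (IsPGroup.of_card (n := 1) (by rw [Nat.card_zpowers, hou, pow_one]) :
    IsPGroup 2 (zpowers (⟨u, hu⟩ : K))).exists_le_sylow
  obtain ⟨c, hc⟩ := MulAction.exists_smul_eq K Q P
  have hmem : (c : G) * u * (c : G)⁻¹ ∈ sGroup f.γ := by
    have h1 : c * ⟨u, hu⟩ * c⁻¹ ∈ (c • Q : Sylow 2 K).toSubgroup :=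
      ⟨⟨u, hu⟩, hQ (mem_zpowers _), by simp⟩
    rw [hc] at h1
    rw [hPS]
    exact ⟨_, h1, rfl⟩
  obtain ⟨d, hd, he⟩ := exists_conj_sRow f hmem (by
    rw [← MulAut.conj_apply, MulEquiv.orderOf_eq, ho])
  exact ⟨d * c, mul_mem (hK hd) c.2, by rw [← he]; group⟩

omit [Finite G] in
/-- An automorphism inverting more than three quarters of a group makes it abelian. -/
theorem commute_of_many_inverted {D : Type*} [Group D] [Finite D] (α : D →* D) (T : Finset D)
    (hT : ∀ x ∈ T, α x = x⁻¹) (hbig : 3 * Nat.card D < 4 * T.card) : ∀ a b : D, Commute a b := by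
  classical
  haveI := Fintype.ofFinite D
  rw [Nat.card_eq_fintype_card] at hbig
  have hcen : ∀ x ∈ T, x ∈ center D := by
    intro x hx
    set U := T ∩ T.image (fun y => x⁻¹ * y)
    have hU : ∀ y ∈ U, y ∈ centralizer ({x} : Set D) := by
      intro y hy
      obtain ⟨h1, h2⟩ := Finset.mem_inter.1 hy
      obtain ⟨w, hw, rfl⟩ := Finset.mem_image.1 h2
      rw [mem_centralizer_singleton_iff]
      have h3 := hT _ hw
      rw [show w = x * (x⁻¹ * w) by group, map_mul, hT x hx, hT _ h1, mul_inv_rev x] at h3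
      have := congrArg (·⁻¹) h3
      simpa [mul_assoc] using this
    have hcard : Fintype.card D < 2 * U.card := by
      have h1 := Finset.card_union_add_card_inter T (T.image (fun y => x⁻¹ * y))
      have h2 := Finset.card_le_univ (T ∪ T.image (fun y => x⁻¹ * y))
      rw [Finset.card_image_of_injective _ (mul_right_injective x⁻¹)] at h1
      change (T ∪ T.image (fun y => x⁻¹ * y)).card + U.card = T.card + T.card at h1
      omega
    have htop : centralizer ({x} : Set D) = ⊤ := by
      refine eq_top_of_le_card _ ?_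
      have h1 : U.card ≤ Nat.card (centralizer ({x} : Set D)) := by
        rw [← Fintype.card_coe, ← Nat.card_eq_fintype_card]
        exact Nat.card_le_card_of_injective (fun y : U => (⟨y, hU y y.2⟩ : centralizer ({x} : Set D)))
          fun a b e => Subtype.ext (congrArg Subtype.val e : _)
      obtain ⟨q, hq⟩ := card_subgroup_dvd_card (centralizer ({x} : Set D))
      rw [Nat.card_eq_fintype_card] at hq ⊢
      rw [hq]
      rcases Nat.lt_or_ge q 2 with h | h
      · calc Nat.card (centralizer ({x} : Set D)) * q ≤ Nat.card (centralizer ({x} : Set D)) * 1 :=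
            Nat.mul_le_mul_left _ (by omega)
          _ = _ := mul_one _
      · have h2 := Nat.mul_le_mul_left (Nat.card (centralizer ({x} : Set D))) h
        omega
    exact mem_center_iff.2 fun y =>
      mem_centralizer_singleton_iff.1 (htop.symm ▸ mem_top y)
  have hZ : center D = ⊤ := by
    refine eq_top_of_le_card _ ?_
    have h1 : T.card ≤ Nat.card (center D) := by
      rw [← Fintype.card_coe, ← Nat.card_eq_fintype_card]
      exact Nat.card_le_card_of_injective (fun y : T => (⟨y, hcen y y.2⟩ : center D))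
        fun a b e => Subtype.ext (congrArg Subtype.val e : _)
    obtain ⟨q, hq⟩ := card_subgroup_dvd_card (center D)
    rw [Nat.card_eq_fintype_card] at hq ⊢
    rw [hq]
    rcases Nat.lt_or_ge q 2 with h | h
    · calc Nat.card (center D) * q ≤ Nat.card (center D) * 1 := Nat.mul_le_mul_left _ (by omega)
        _ = _ := mul_one _
    · have h2 := Nat.mul_le_mul_left (Nat.card (center D)) h
      omega
  intro a b
  exact (mem_center_iff.1 (hZ.symm ▸ mem_top a) b).symm

omit [Finite G] in
/-- The arithmetic of the Sylow 13-subgroups of a subgroup of odd order at least 7371. -/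
theorem card_eq_of_sylow {n c : ℕ} (hn : n ∣ 66339) (hbig : 7371 ≤ n) (hc : c = 13 ∨ c = 39)
    (hdvd : c ∣ n) (hmod : n / c % 13 = 1) : n = 9477 := by
  obtain ⟨k, hk⟩ := hn
  have hk9 : k ≤ 9 := by
    by_contra h
    have : 7371 * 10 ≤ n * k := Nat.mul_le_mul hbig (by omega)
    omega
  have hval : n = 66339 ∨ n = 22113 ∨ n = 9477 ∨ n = 7371 := by interval_cases k <;> omega
  rcases hc with rfl | rfl <;> rcases hval with rfl | rfl | rfl | rfl <;> omega

omit [Finite G] in
/-- `G₂(3)` has no subgroup of odd order at least 7371 with an automorphism inverting 7371 of its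
elements. -/
theorem false_of_inverted (D : Subgroup G2Three.G23) [Finite G2Three.G23] (hD : Odd (Nat.card D))
    (α : D →* D) (T : Finset D) (hT : ∀ x ∈ T, α x = x⁻¹) (hbig : 7371 ≤ T.card) : False := by
  classical
  haveI : Fact (Nat.Prime 13) := ⟨by norm_num⟩
  haveI := Fintype.ofFinite D
  have hge : 7371 ≤ Nat.card D := by
    rw [Nat.card_eq_fintype_card]
    exact hbig.trans (Finset.card_le_univ T)
  have hG : Nat.card G2Three.G23 = 4245696 := by
    rw [Cfsg.Agent.S1059.result (q := 3) (ZMod.card 3)]; norm_num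
  have hdvd : Nat.card D ∣ 66339 := by
    have h := card_subgroup_dvd_card D
    rw [hG, show 4245696 = 2 ^ 6 * 66339 by norm_num] at h
    exact ((Nat.coprime_two_right.2 hD).pow_right 6).dvd_of_dvd_mul_left h
  obtain ⟨k, hk⟩ := hdvd
  have hk9 : k ≤ 9 := by
    by_contra h
    have : 7371 * 10 ≤ Nat.card D * k := Nat.mul_le_mul hge (by omega)
    omega
  have hval : Nat.card D = 66339 ∨ Nat.card D = 22113 ∨ Nat.card D = 9477 ∨ Nat.card D = 7371 := by
    interval_cases k <;> omega
  let P : Sylow 13 D := default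
  have hfac : (Nat.card D).factorization 13 = 1 := by
    have key : ∀ {r : ℕ}, ¬ 13 ∣ r → (13 * r).factorization 13 = 1 := fun {r} h => by
      rw [Nat.factorization_mul (by norm_num) (fun h0 => h (by rw [h0]; exact dvd_zero 13)),
        Finsupp.add_apply, Nat.Prime.factorization_self Fact.out,
        Nat.factorization_eq_zero_of_not_dvd h]
    rcases hval with h | h | h | h <;> rw [h]
    · exact key (r := 5103) (by norm_num)
    · exact key (r := 1701) (by norm_num)
    · exact key (r := 729) (by norm_num)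
    · exact key (r := 567) (by norm_num)
  have hP : Nat.card (P : Subgroup D) = 13 := by
    rw [Sylow.card_eq_multiplicity, hfac, pow_one]
  -- an element centralizing `P` lies in it
  have hno : ∀ (y d : D), orderOf y = 13 → Commute d y → ∀ s : ℕ, s.Prime → s ≠ 13 →
      ¬ s ∣ orderOf d := by
    intro y d hy hc s hs hne hd
    have ho : orderOf (d ^ (orderOf d / s)) = s := orderOf_pow_orderOf_div (orderOf_pos d).ne' hd
    have h := ((hc.pow_left (orderOf d / s)).symm).orderOf_mul_eq_mul_orderOf_of_coprime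
      (by rw [hy, ho]; exact (Nat.coprime_primes Fact.out hs).2 (Ne.symm hne))
    rw [hy, ho] at h
    refine G2Three.no_edge (r := 13) (s := s) (Or.inr rfl) hs (Ne.symm hne)
      ⟨((y * d ^ (orderOf d / s) : D) : G2Three.G23), ?_⟩
    rw [orderOf_coe, h]
  obtain ⟨y, hy⟩ := exists_prime_orderOf_dvd_card' (G := (P : Subgroup D)) 13 (by rw [hP])
  have hy' : orderOf (y : D) = 13 := by rw [orderOf_coe, hy]
  set φ := normalizerMonoidHom (P : Subgroup D)
  have hkerle : φ.ker ≤ (P : Subgroup D).subgroupOf (normalizer ((P : Subgroup D) : Set D)) := by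
    intro d hd
    have hc : Commute (d : D) (y : D) := by
      have h := congrArg (fun ψ : MulAut (P : Subgroup D) => ((ψ y : (P : Subgroup D)) : D)) hd
      exact mul_inv_eq_iff_eq_mul.1 h
    have hcen : ∀ s : ℕ, s.Prime → s ∣ orderOf (d : D) → s = 13 := fun s hs hsd =>
      by_contra fun h => hno _ _ hy' hc s hs h hsd
    have hpd : IsPGroup 13 (zpowers (d : D)) := by
      refine IsPGroup.of_card (n := (orderOf (d : D)).primeFactorsList.length) ?_
      rw [Nat.card_zpowers]
      exact Nat.eq_prime_pow_of_unique_prime_dvd (orderOf_pos _).ne'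
        fun {s} hs hsd => hcen s hs hsd
    have hsup : IsPGroup 13 ((P : Subgroup D) ⊔ zpowers (d : D) : Subgroup D) :=
      P.isPGroup'.to_sup_of_normal_left' hpd (zpowers_le.2 d.2)
    have := P.is_maximal' hsup le_sup_left
    have hm : (d : D) ∈ (P : Subgroup D) ⊔ zpowers (d : D) := mem_sup_right (mem_zpowers _)
    rw [this] at hm
    exact mem_subgroupOf.2 hm
  have hcN : Nat.card (normalizer ((P : Subgroup D) : Set D)) = 13 ∨
      Nat.card (normalizer ((P : Subgroup D) : Set D)) = 39 := by
    haveI : IsCyclic (P : Subgroup D) := isCyclic_of_prime_card hP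
    have haut : Nat.card (MulAut (P : Subgroup D)) = 12 := by
      rw [IsCyclic.card_mulAut, hP, Nat.totient_prime Fact.out]
    have hr : Nat.card φ.range ∣ 12 := by
      have := card_subgroup_dvd_card φ.range
      rwa [haut] at this
    have hro : Odd (Nat.card φ.range) :=
      (hD.of_dvd_nat (card_subgroup_dvd_card (normalizer ((P : Subgroup D) : Set D)))).of_dvd_nat
        (card_range_dvd φ)
    have hkd : Nat.card φ.ker ∣ 13 := by
      have := card_dvd_of_le hkerle
      rwa [Nat.card_congr (subgroupOfEquivOfLe (le_normalizer : (P : Subgroup D) ≤ _)).toEquiv, hP]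
        at this
    have hmul := φ.ker.card_mul_index
    rw [index_ker] at hmul
    have h13 : 13 ∣ Nat.card (normalizer ((P : Subgroup D) : Set D)) := by
      have := card_dvd_of_le (le_normalizer : (P : Subgroup D) ≤ _)
      rwa [hP] at this
    rcases (Nat.dvd_prime Fact.out).1 hkd with h | h <;> rw [h] at hmul
    · exfalso
      rw [one_mul] at hmul
      have := Nat.le_of_dvd (by norm_num) hr
      have := Nat.le_of_dvd Nat.card_pos h13
      obtain ⟨q, hq⟩ := h13
      omega
    · obtain ⟨q, hq⟩ := hr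
      have := Nat.le_of_dvd (by norm_num) ⟨q, hq⟩
      rw [Nat.odd_iff] at hro
      interval_cases (Nat.card φ.range) <;> omega
  have hidx := (normalizer ((P : Subgroup D) : Set D)).card_mul_index
  have hsn : Nat.card (Sylow 13 D) = (normalizer ((P : Subgroup D) : Set D)).index :=
    P.card_eq_index_normalizer
  rw [← hsn] at hidx
  have hmod := card_sylow_modEq_one 13 D
  rw [Nat.ModEq] at hmod
  have hcd : Nat.card D = 9477 := by
    refine card_eq_of_sylow ⟨k, hk⟩ hge hcN (Dvd.intro _ hidx) ?_
    rw [← hidx, Nat.mul_div_cancel_left _ Nat.card_pos]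
    exact hmod
  -- `D` is abelian and has an element of order `39`
  have hab := commute_of_many_inverted α T hT (by rw [hcd]; omega)
  haveI : Fact (Nat.Prime 3) := ⟨Nat.prime_three⟩
  obtain ⟨d, hd⟩ := exists_prime_orderOf_dvd_card' (G := D) 3 (by rw [hcd]; norm_num)
  exact hno _ d hy' (hab d y) 3 Nat.prime_three (by norm_num) (by rw [hd])

/-- The generated subgroup, a copy of `G₂(3)`, is the whole group. -/
theorem fullGroup_eq_top {G : Type*} [Group G] [Finite G] (f : Fr G) (F : Type) [Field F]
    [Fintype F] (hF : Fintype.card F = 3) (e : fullGroup f.γ ≃* Cfsg.Lie.chevG2.group F) :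
    fullGroup f.γ = ⊤ := by
  classical
  let e' : fullGroup f.γ ≃* G2Three.G23 :=
    e.trans (GTwoFour.groupEquiv (ZMod.ringEquivOfPrime F Nat.prime_three hF)).symm
  haveI : Finite G2Three.G23 := Finite.of_equiv _ e'.toEquiv
  have hcardK : Nat.card (fullGroup f.γ) = 4245696 := by
    rw [Nat.card_congr e.toEquiv, Cfsg.Agent.S1059.result hF]
    norm_num
  set H := fullGroup f.γ with hH
  set z := prodw f.γ zW with hzdef
  have hz := orderOf_z f
  have hC : centralizer ({z} : Set G) ≤ H := centralizer_le_fullGroup f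
  have hcard : Nat.card (centralizer ({z} : Set G)) = 576 := by
    rw [hzdef, f.cent, card_hGroup f.satH f.z_ne]
  by_contra hne
  have hzH : z ∈ H := hC (mem_centralizer_singleton_iff.2 rfl)
  have hone : ∀ x : G, orderOf x = 2 → ∃ c, c * x * c⁻¹ = z := fun x hx => by
    obtain ⟨c, -, hc⟩ := exists_conj_z f (K := ⊤) le_top (mem_top x) hx
    exact ⟨c, hc⟩
  -- centralizers of involutions of `H` lie in `H`
  have hCt : ∀ t ∈ H, orderOf t = 2 → centralizer ({t} : Set G) ≤ H := by
    intro t ht ot c hc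
    obtain ⟨h, hh, e1⟩ := exists_conj_z f le_rfl ht ot
    have hm : h * c * h⁻¹ ∈ centralizer ({z} : Set G) := mem_centralizer_singleton_iff.2 (by
      rw [show z = h * t * h⁻¹ from e1.symm]
      calc h * c * h⁻¹ * (h * t * h⁻¹) = h * (c * t) * h⁻¹ := by group
        _ = h * (t * c) * h⁻¹ := by rw [mem_centralizer_singleton_iff.1 hc]
        _ = _ := by group)
    have := mul_mem (mul_mem (inv_mem hh) (hC hm)) hh
    simpa [mul_assoc] using this
  -- the involutions
  have hcount : ∀ (K : Subgroup G), centralizer ({z} : Set G) ≤ K →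
      (∀ x ∈ K, orderOf x = 2 → ∃ c ∈ K, c * x * c⁻¹ = z) →
      Nat.card {x : K // orderOf x = 2} * 576 = Nat.card K := by
    intro K hCK hK
    have hzK : z ∈ K := hCK (mem_centralizer_singleton_iff.2 rfl)
    have h1 : (centralizer ({(⟨z, hzK⟩ : K)} : Set K)).index =
        Nat.card {x : K // orderOf x = 2} := by
      have h2 : (centralizer ({(⟨z, hzK⟩ : K)} : Set K)).index =
          Nat.card (MulAction.orbit (ConjAct K) (⟨z, hzK⟩ : K)) := by
        rw [Nat.card_coe_set_eq, ← MulAction.index_stabilizer]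
        congr 1
        ext s
        rw [mem_centralizer_singleton_iff]
        show _ ↔ ConjAct.toConjAct s • _ = _
        rw [ConjAct.smul_def, ConjAct.ofConjAct_toConjAct, mul_inv_eq_iff_eq_mul]
      rw [h2]
      refine Nat.card_congr (Equiv.subtypeEquivRight fun x => ?_)
      rw [ConjAct.mem_orbit_conjAct]
      constructor
      · intro hx
        obtain ⟨c, hc⟩ := isConj_iff.1 hx
        have : orderOf (c * x * c⁻¹) = 2 := by rw [hc, orderOf_mk, hz]
        rwa [← MulAut.conj_apply, MulEquiv.orderOf_eq] at this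
      · intro hx
        obtain ⟨c, hc, hcx⟩ := hK x x.2 (by rw [orderOf_coe, hx])
        exact isConj_iff.2 ⟨⟨c, hc⟩, Subtype.ext hcx⟩
    have h3 : Nat.card (centralizer ({(⟨z, hzK⟩ : K)} : Set K)) = 576 := by
      rw [← hcard, ← card_map_of_injective K.subtype_injective]
      congr 2
      ext x
      simp only [mem_map, mem_centralizer_singleton_iff, coe_subtype]
      refine ⟨?_, fun hx => ⟨⟨x, hCK (mem_centralizer_singleton_iff.2 hx)⟩, Subtype.ext hx, rfl⟩⟩
      rintro ⟨y, hy, rfl⟩
      exact congrArg Subtype.val hy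
    rw [← h1, mul_comm, ← h3]
    exact card_mul_index _
  set I := {x : G // orderOf x = 2}
  have hI : Nat.card I * 576 = Nat.card G := by
    have h := hcount ⊤ le_top fun x _ hx => by
      obtain ⟨c, hc⟩ := hone x hx
      exact ⟨c, mem_top c, hc⟩
    have e2 : {x : (⊤ : Subgroup G) // orderOf x = 2} ≃ I :=
      (topEquiv (G := G)).toEquiv.subtypeEquiv fun x => by
        show orderOf x = 2 ↔ orderOf (topEquiv x) = 2
        rw [MulEquiv.orderOf_eq]
    rwa [card_top, Nat.card_congr e2] at h
  have hHI : Nat.card {x : H // orderOf x = 2} = 7371 := by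
    have h := hcount H hC fun x hx ox => exists_conj_z f le_rfl hx ox
    rw [hcardK] at h
    omega
  have hG : Nat.card I = H.index * 7371 := by
    have h := H.card_mul_index
    rw [hcardK] at h
    omega
  -- a coset with many involutions
  obtain ⟨q, hq, hbig⟩ : ∃ q : G ⧸ H, q ≠ ((1 : G) : G ⧸ H) ∧
      7371 ≤ Nat.card {x : I // ((x : G) : G ⧸ H) = q} := by
    by_contra hcon
    push Not at hcon
    haveI := Fintype.ofFinite (G ⧸ H)
    have hsum : Nat.card I = ∑ q : G ⧸ H, Nat.card {x : I // ((x : G) : G ⧸ H) = q} := by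
      rw [← Nat.card_sigma]
      exact (Nat.card_congr (Equiv.sigmaFiberEquiv fun x : I => ((x : G) : G ⧸ H))).symm
    have h1 : Nat.card {x : I // ((x : G) : G ⧸ H) = ((1 : G) : G ⧸ H)} = 7371 := by
      rw [← hHI]
      exact Nat.card_congr
        { toFun := fun x => ⟨⟨x.1.1, by
            have h := QuotientGroup.eq.1 x.2.symm
            simpa using h⟩, by rw [orderOf_mk]; exact x.1.2⟩
          invFun := fun x => ⟨⟨x.1, by rw [orderOf_coe]; exact x.2⟩, by
            refine (QuotientGroup.eq.2 ?_).symm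
            simp⟩
          left_inv := fun x => rfl
          right_inv := fun x => rfl }
    have hlt : ∑ q : G ⧸ H, Nat.card {x : I // ((x : G) : G ⧸ H) = q} < ∑ _q : G ⧸ H, 7371 := by
      refine Finset.sum_lt_sum (fun q _ => ?_) ?_
      · by_cases h : q = ((1 : G) : G ⧸ H)
        · rw [h, h1]
        · exact (hcon q h).le
      · obtain ⟨g, hg⟩ : ∃ g, g ∉ H := by
          by_contra h
          exact hne ((eq_top_iff' H).2 (not_exists_not.1 h))
        refine ⟨(g : G ⧸ H), Finset.mem_univ _, hcon _ fun h => hg ?_⟩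
        simpa using QuotientGroup.eq.1 h.symm
    rw [← hsum, Finset.sum_const, Finset.card_univ, ← Nat.card_eq_fintype_card, ← index_eq_card,
      smul_eq_mul, ← hG] at hlt
    exact lt_irrefl _ hlt
  haveI : Nonempty {x : I // ((x : G) : G ⧸ H) = q} := (Nat.card_pos_iff.1 (by omega)).1
  obtain ⟨⟨⟨u, hu⟩, huq⟩⟩ := ‹Nonempty {x : I // ((x : G) : G ⧸ H) = q}›
  have huH : u ∉ H := fun h => hq (by
    rw [← huq]
    exact (QuotientGroup.eq.2 (by simpa using h)).symm)
  have huu : u * u = 1 := by
    have := pow_orderOf_eq_one u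
    rwa [hu, pow_two] at this
  have huinv : u⁻¹ = u := inv_eq_of_mul_eq_one_right huu
  let D : Subgroup H := (H.comap (MulAut.conj u).toMonoidHom).subgroupOf H
  have hmemD : ∀ x : H, x ∈ D ↔ u * x * u ∈ H := fun x => by
    simp [D, mem_subgroupOf, huinv]
  let α : D →* D := MonoidHom.mk' (fun x => ⟨⟨u * ((x : H) : G) * u, (hmemD _).1 x.2⟩, (hmemD _).2 (by
      rw [show u * (u * ((x : H) : G) * u) * u = (u * u) * ((x : H) : G) * (u * u) by group, huu,
        one_mul, mul_one]
      exact (x : H).2)⟩) fun a b => Subtype.ext (Subtype.ext (by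
      show u * (((a : H) : G) * ((b : H) : G)) * u =
        u * ((a : H) : G) * u * (u * ((b : H) : G) * u)
      rw [show u * ((a : H) : G) * u * (u * ((b : H) : G) * u) =
        u * ((a : H) : G) * (u * u) * ((b : H) : G) * u by group, huu]
      group))
  -- `D` has odd order
  have hDodd : Odd (Nat.card D) := by
    rw [Nat.odd_iff]
    by_contra h
    haveI : Fact (Nat.Prime 2) := ⟨Nat.prime_two⟩
    obtain ⟨t, ht⟩ := exists_prime_orderOf_dvd_card' (G := D) 2 (Nat.dvd_of_mod_eq_zero (by omega))
    have ot : orderOf ((t : H) : G) = 2 := by rw [orderOf_coe, orderOf_coe, ht]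
    have ht' : u * ((t : H) : G) * u ∈ H := (hmemD _).1 t.2
    have ot' : orderOf (u * ((t : H) : G) * u) = 2 := by
      have : u * ((t : H) : G) * u = MulAut.conj u ((t : H) : G) := by
        rw [MulAut.conj_apply, huinv]
      rw [this, MulEquiv.orderOf_eq, ot]
    obtain ⟨c1, hc1, e1⟩ := exists_conj_z f le_rfl (t : H).2 ot
    obtain ⟨c2, hc2, e2⟩ := exists_conj_z f le_rfl ht' ot'
    have hm : c1⁻¹ * c2 * u ∈ centralizer ({((t : H) : G)} : Set G) :=
      mem_centralizer_singleton_iff.2 (by
        calc c1⁻¹ * c2 * u * (t : H) = c1⁻¹ * (c2 * (u * (t : H) * u) * c2⁻¹) * c2 * u := by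
              rw [show c1⁻¹ * (c2 * (u * (t : H) * u) * c2⁻¹) * c2 * u =
                c1⁻¹ * c2 * u * (t : H) * (u * u) by group, huu, mul_one]
          _ = c1⁻¹ * (c1 * (t : H) * c1⁻¹) * c2 * u := by rw [e1, e2]
          _ = (t : H) * (c1⁻¹ * c2 * u) := by group)
    exact huH (by
      simpa [mul_assoc] using mul_mem (mul_mem (inv_mem hc2) hc1) (hCt _ (t : H).2 ot hm))
  -- the elements `u x`
  have hux : ∀ x : {x : I // ((x : G) : G ⧸ H) = q}, u * x.1.1 ∈ H := fun x => by
    have h := QuotientGroup.eq.1 (huq.trans x.2.symm)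
    rwa [huinv] at h
  have hx2 : ∀ x : {x : I // ((x : G) : G ⧸ H) = q}, x.1.1 * x.1.1 = 1 := fun x => by
    have := pow_orderOf_eq_one x.1.1
    rwa [x.1.2, pow_two] at this
  have hinvol : ∀ x : {x : I // ((x : G) : G ⧸ H) = q}, u * (u * x.1.1) * u = (u * x.1.1)⁻¹ :=
    fun x => by
      rw [← mul_assoc u u, huu, one_mul, mul_inv_rev, inv_eq_of_mul_eq_one_right (hx2 x), huinv]
  let j : {x : I // ((x : G) : G ⧸ H) = q} → D := fun x => ⟨⟨u * x.1.1, hux x⟩, (hmemD _).2 (by
    show u * (u * x.1.1) * u ∈ H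
    rw [hinvol x]
    exact inv_mem (hux x))⟩
  have hjinj : Function.Injective j := fun x y h => Subtype.ext (Subtype.ext
    (mul_left_cancel (congrArg (fun d : D => ((d : H) : G)) h)))
  haveI := Fintype.ofFinite {x : I // ((x : G) : G ⧸ H) = q}
  let T : Finset D := Finset.univ.image j
  have hT : ∀ x ∈ T, α x = x⁻¹ := fun x hx => by
    obtain ⟨y, -, rfl⟩ := Finset.mem_image.1 hx
    exact Subtype.ext (Subtype.ext (hinvol y))
  -- transport to `G₂(3)`
  let eD : D ≃* D.map e'.toMonoidHom := D.equivMapOfInjective _ e'.injective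
  refine false_of_inverted (D.map e'.toMonoidHom) ?_
    ((eD.toMonoidHom.comp α).comp eD.symm.toMonoidHom) (T.map eD.toEquiv.toEmbedding) ?_ ?_
  · rw [← Nat.card_congr eD.toEquiv]
    exact hDodd
  · intro x hx
    obtain ⟨y, hy, rfl⟩ := Finset.mem_map.1 hx
    show eD (α (eD.symm (eD y))) = (eD y)⁻¹
    rw [eD.symm_apply_apply, hT y hy, map_inv]
  · rw [Finset.card_map, Finset.card_image_of_injective _ hjinj, Finset.card_univ,
      ← Nat.card_eq_fintype_card]
    exact hbig

end

end CfsgLib.G2Rec
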