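import Cfsg.Agent.G2Rec.Cases
import Cfsg.Agent.G2Rec.KTable
import Cfsg.Agent.G2Rec.Model
import Cfsg.Agent.G2Rec.Whole

/-!
A configuration in which the centralizer of `q` escapes the centralizer of `z` is `G₂(3)`.
-/

set_option autoImplicit false

namespace CfsgLib.G2Rec

theorem tableRels_sub : tableRels.all (fun R => R.all (fun w => modelRels.contains w) &&
    (hRels ++ gRels).all (fun w => R.contains w)) = true := by decide +kernel

variable {G : Type*} [Group G] [Finite G]

theorem Fr.nonempty_mulEquiv_model (f : Fr G)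
    (hq : ¬ Subgroup.centralizer ({f.γ 6} : Set G) ≤ hGroup f.γ) (F : Type) [Field F] [Fintype F]
    (hF : Fintype.card F = 3) : Nonempty (G ≃* Cfsg.Lie.chevG2.group F) := by
  obtain ⟨δ, hδ, htop⟩ := exists_model F hF
  obtain ⟨hs, hc⟩ := isSimple_and_card F hF
  haveI : Finite (Cfsg.Lie.chevG2.group F) := Nat.finite_of_card_ne_zero (by omega)
  obtain ⟨R, hR, hγ⟩ := f.exists_tableRels hq
  have h := List.all_eq_true.1 tableRels_sub R hR
  simp only [Bool.and_eq_true, List.all_eq_true, List.contains_iff_mem] at h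
  have hδR : Sat δ R := hδ.mono h.1
  simp only [tableRels, List.mem_cons, List.not_mem_nil, or_false] at hR
  obtain ⟨e⟩ : Nonempty (fullGroup f.γ ≃* Cfsg.Lie.chevG2.group F) := by
    rcases hR with rfl | rfl | rfl | rfl
    · exact nonempty_mulEquiv fA_closed h.2 hγ hδR hc hs htop f.z_ne
    · exact nonempty_mulEquiv fB_closed h.2 hγ hδR hc hs htop f.z_ne
    · exact nonempty_mulEquiv fD_closed h.2 hγ hδR hc hs htop f.z_ne
    · exact nonempty_mulEquiv fE_closed h.2 hγ hδR hc hs htop f.z_ne
  exact ⟨Subgroup.topEquiv.symm.trans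
    ((MulEquiv.subgroupCongr (fullGroup_eq_top f F hF e).symm).trans e)⟩

end CfsgLib.G2Rec
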