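import Cfsg.Agent.S0215

/-!
An involution `z` which is isolated in the centralizer `C` of an element `q` of order three, with
an involution `x` centralizing `z` and inverting `q`: unless `C` centralizes `z`, some element of
`C` is inverted by `z` and centralized by `x`.
-/

set_option autoImplicit false

namespace CfsgLib.G2Rec

open Subgroup

theorem eq_one_of_mul_self {G : Type*} [Group G] {d : G} (h3 : d ^ 3 = 1) (h : d * d = 1) :
    d = 1 := by
  simpa [pow_three, h] using h3

variable {G : Type*} [Group G] [Finite G]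

theorem exists_sylow_isolated {q z : G} (hz : orderOf z = 2) (hzq : Commute z q)
    (huniq : ∀ u : G, Commute u q → Commute u z → orderOf u = 2 → u = z) :
    ∃ N : Subgroup G, N ≤ centralizer {q} ∧ Odd (Nat.card N) ∧
      (∀ c ∈ centralizer ({q} : Set G), ∀ y ∈ N, c * y * c⁻¹ ∈ N) ∧
      ∀ c ∈ centralizer ({q} : Set G), z * c * z⁻¹ * c⁻¹ ∈ N := by
  haveI : Fact (Nat.Prime 2) := ⟨Nat.prime_two⟩
  set C := centralizer ({q} : Set G)
  let zc : C := ⟨z, mem_centralizer_singleton_iff.2 hzq.eq⟩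
  have hzc : orderOf zc = 2 := by rw [← orderOf_injective C.subtype C.subtype_injective]; exact hz
  obtain ⟨P, hP⟩ := (IsPGroup.of_card (n := 1) (by rw [Nat.card_zpowers, hzc, pow_one]) :
    IsPGroup 2 (zpowers zc)).exists_le_sylow
  have hzP : zc ∈ P := hP (mem_zpowers zc)
  haveI : Nontrivial (P : Subgroup C) := by
    refine ⟨⟨⟨zc, hzP⟩, 1, fun h => ?_⟩⟩
    have : zc = 1 := congrArg Subtype.val h
    simp [this] at hzc
  haveI := P.isPGroup'.center_nontrivial
  obtain ⟨w, hw⟩ := exists_prime_orderOf_dvd_card' 2 (G := center (P : Subgroup C))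
    ((P.isPGroup'.to_subgroup _).card_eq_or_dvd.resolve_left (fun h =>
      absurd (Nat.card_eq_one_iff_unique.1 h).1 (not_subsingleton _)))
  have hw2 : orderOf (((w : P) : C) : G) = 2 := by
    rw [show (((w : P) : C) : G) = (C.subtype.comp ((P : Subgroup C).subtype.comp
        (center (P : Subgroup C)).subtype)) w from rfl,
      orderOf_injective (C.subtype.comp ((P : Subgroup C).subtype.comp
        (center (P : Subgroup C)).subtype))
        (C.subtype_injective.comp (Subtype.val_injective.comp Subtype.val_injective))]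
    exact hw
  have hwz : ((w : P) : C) = zc := by
    refine Subtype.ext (huniq _ ?_ ?_ hw2)
    · exact mem_centralizer_singleton_iff.1 ((w : P) : C).2
    · exact (congrArg (fun p : P => ((p : C) : G)) (mem_center_iff.1 w.2 ⟨zc, hzP⟩)).symm
  obtain ⟨N, hN, hodd, hc⟩ := Cfsg.Agent.S0215.result P zc hzc hzP fun g hg => by
    refine Subtype.ext (huniq _ ?_ ?_ ?_)
    · exact mem_centralizer_singleton_iff.1 (g * zc * g⁻¹).2
    · have h1 := congrArg (fun p : P => ((p : C) : G)) (mem_center_iff.1 w.2 ⟨_, hg⟩)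
      have h2 : (((w : P) : C) : G) = z := congrArg Subtype.val hwz
      simp only [Subgroup.coe_mul] at h1
      rw [h2] at h1
      exact h1
    · rw [← hz]
      exact (MulAut.conj (g : G)).orderOf_eq z
  refine ⟨N.map C.subtype, map_subtype_le N, ?_, ?_, fun c hc' => ?_⟩
  · rwa [card_map_of_injective C.subtype_injective]
  · rintro c hc' _ ⟨y, hy, rfl⟩
    exact ⟨⟨c, hc'⟩ * y * ⟨c, hc'⟩⁻¹, hN.conj_mem y hy _, rfl⟩
  · exact ⟨_, hc ⟨c, hc'⟩, rfl⟩

/-- An element inverted by `z` and centralized by `x` in the centralizer of `q`. -/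
theorem exists_inverted {z q x h₀ i : G} (hz : orderOf z = 2) (hq3 : q ^ 3 = 1)
    (hzq : Commute z q) (hx : x * x = 1) (hxq : x * q * x = q⁻¹) (hxz : Commute x z)
    (h₀q : Commute h₀ q) (h₀x : h₀ * x * h₀⁻¹ = x * z)
    (hiq : Commute i q)
    (huniq : ∀ u : G, Commute u q → Commute u z → orderOf u = 2 → u = z)
    (hodd : ∀ y : G, Commute y q → Commute y z → Odd (orderOf y) →
      Odd (orderOf (i * y * i⁻¹ * y⁻¹)) → y ∈ zpowers q)
    (hne : ∃ c, Commute c q ∧ ¬ Commute c z) :
    ∃ n : G, Commute n q ∧ n ≠ 1 ∧ Commute n x ∧ z * n * z = n⁻¹ ∧ Odd (orderOf n) ∧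
      ∀ h : G, Commute h q → n * (h * n * h⁻¹) * n⁻¹ * (h * n * h⁻¹)⁻¹ ∈ zpowers q := by
  obtain ⟨M, hMC, hMo, hMn, hMc⟩ := exists_sylow_isolated hz hzq huniq
  have hzz : z * z = 1 := by rw [← pow_two, ← hz, pow_orderOf_eq_one]
  have hxi : x⁻¹ = x := inv_eq_of_mul_eq_one_right hx
  have hzi : z⁻¹ = z := inv_eq_of_mul_eq_one_right hzz
  have memC : ∀ {c : G}, c ∈ centralizer ({q} : Set G) ↔ Commute c q := fun {c} =>
    mem_centralizer_singleton_iff
  have xC : ∀ {c : G}, Commute c q → Commute (x * c * x) q := fun {c} hc => by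
    have h1 : x * q * x⁻¹ = q⁻¹ := by rw [hxi]; exact hxq
    have h2 := (hc.inv_right).map (MulAut.conj x).toMonoidHom
    simp only [MulEquiv.coe_toMonoidHom, map_inv, MulAut.conj_apply, h1, inv_inv] at h2
    rwa [hxi] at h2
  set K := M ⊓ M.comap (MulAut.conj x).toMonoidHom with hK
  have memK : ∀ {y : G}, y ∈ K ↔ y ∈ M ∧ x * y * x ∈ M := fun {y} => by
    simp [hK, hxi]
  have hKC : ∀ {y : G}, y ∈ K → Commute y q := fun hy => memC.1 (hMC (memK.1 hy).1)
  have hKx : ∀ {y : G}, y ∈ K → x * y * x ∈ K := fun {y} hy => memK.2 ⟨(memK.1 hy).2, by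
    rw [show x * (x * y * x) * x = (x * x) * y * (x * x) by group, hx, one_mul, mul_one]
    exact (memK.1 hy).1⟩
  have hKn : ∀ {c y : G}, Commute c q → y ∈ K → c * y * c⁻¹ ∈ K := fun {c y} hc hy =>
    memK.2 ⟨hMn c (memC.2 hc) y (memK.1 hy).1, by
      have := hMn _ (memC.2 (xC hc)) _ (memK.1 hy).2
      rw [show x * c * x * (x * y * x) * (x * c * x)⁻¹ = x * c * (x * x) * y * (x * x⁻¹) * c⁻¹ * x⁻¹
        by group, hx, mul_inv_cancel, mul_one, mul_one, hxi] at this
      simpa [mul_assoc] using this⟩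
  have hKz : ∀ {c : G}, Commute c q → z * c * z * c⁻¹ ∈ K := fun {c} hc => memK.2 ⟨by
    simpa [hzi] using hMc c (memC.2 hc), by
    have := hMc _ (memC.2 (xC hc))
    rw [hzi, mul_inv_rev, mul_inv_rev, hxi] at this
    convert this using 1
    have e : x * z * x = z := by rw [hxz.eq, mul_assoc, hx, mul_one]
    calc x * (z * c * z * c⁻¹) * x = (x * z) * c * z * c⁻¹ * x := by group
      _ = (z * x) * c * (x * z * x) * c⁻¹ * x := by rw [e, hxz.eq]
      _ = _ := by group⟩
  have hKo : ∀ {y : G}, y ∈ K → Odd (orderOf y) := fun {y} hy =>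
    hMo.of_dvd_nat (Subgroup.orderOf_dvd_natCard _ (memK.1 hy).1)
  set D := (K ⊓ centralizer {z}) with hD
  have hDq : ∀ {y : G}, y ∈ D → y ∈ zpowers q := fun {y} hy => by
    obtain ⟨hy, hyz⟩ := mem_inf.1 hy
    exact hodd y (hKC hy) (mem_centralizer_singleton_iff.1 hyz) (hKo hy)
      (hKo (mul_mem (hKn hiq hy) (inv_mem hy)))
  have hD3 : ∀ {d : G}, d ∈ D → d ^ 3 = 1 := fun {d} hd => by
    obtain ⟨k, rfl⟩ := mem_zpowers_iff.1 (hDq hd)
    show (q ^ k) ^ 3 = 1
    rw [← zpow_natCast, zpow_comm, zpow_natCast, hq3, one_zpow]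
  have hDc : ∀ {d y : G}, d ∈ D → Commute y q → Commute d y := fun {d y} hd hy => by
    obtain ⟨k, rfl⟩ := mem_zpowers_iff.1 (hDq hd)
    exact (hy.symm.zpow_left k)
  have hDx : ∀ {d : G}, d ∈ D → x * d * x = d⁻¹ := fun {d} hd => by
    obtain ⟨k, rfl⟩ := mem_zpowers_iff.1 (hDq hd)
    have h2 := map_zpow (MulAut.conj x) q k
    simp only [MulAut.conj_apply, hxi, hxq, inv_zpow] at h2
    exact h2
  have hzK : ∀ {y : G}, y ∈ K → z * y * z ∈ K := fun {y} hy => by
    simpa [hzi] using hKn hzq hy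
  let D' := D.subgroupOf K
  haveI : D'.Normal := ⟨fun d hd g => by
    have hd' : (d : G) ∈ D := hd
    show (g : G) * d * (g : G)⁻¹ ∈ D
    rwa [← (hDc hd' (hKC g.2)).eq, mul_inv_cancel_right]⟩
  let φ : K →* K := MonoidHom.mk' (fun y => ⟨z * y * z, hzK y.2⟩) fun a b => Subtype.ext (by
    show z * ((a : G) * b) * z = z * a * z * (z * b * z)
    rw [show z * (a : G) * z * (z * b * z) = z * a * (z * z) * b * z by group, hzz]
    group)
  let ψ : K ⧸ D' →* K ⧸ D' := QuotientGroup.map D' D' φ fun d hd => by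
    show z * (d : G) * z ∈ D
    have hd' : (d : G) ∈ D := hd
    rwa [← mem_centralizer_singleton_iff.1 (mem_inf.1 hd').2, mul_assoc, hzz, mul_one]
  have hfree : MonoidHom.FixedPointFree ψ := fun g hg => by
    induction g using QuotientGroup.induction_on with
    | _ y =>
      rw [QuotientGroup.map_mk, QuotientGroup.eq] at hg
      have hd : (z * (y : G) * z)⁻¹ * y ∈ D := hg
      set d := (z * (y : G) * z)⁻¹ * y with hd'
      have hy : z * (y : G) * z * d = y := by rw [hd']; group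
      have hdz : z * d = d * z := (mem_centralizer_singleton_iff.1 (mem_inf.1 hd).2).symm
      have h2 : (y : G) * d * d = y := by
        calc (y : G) * d * d = (z * z) * y * (d * (z * z)) * d := by rw [hzz, one_mul, mul_one]
          _ = z * (z * y * (d * z)) * z * d := by group
          _ = z * (z * y * z * d) * z * d := by rw [← hdz]; group
          _ = y := by rw [hy, hy]
      have hd1 : d = 1 := eq_one_of_mul_self (hD3 hd) (by
        rw [mul_assoc] at h2
        exact mul_left_cancel (h2.trans (mul_one _).symm))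
      rw [hd1, mul_one] at hy
      rw [QuotientGroup.eq_one_iff]
      refine mem_inf.2 ⟨y.2, mem_centralizer_singleton_iff.2 ?_⟩
      calc (y : G) * z = z * y * z * z := by rw [hy]
        _ = z * y := by rw [mul_assoc, hzz, mul_one]
  have hinv : Function.Involutive ψ := fun g => by
    induction g using QuotientGroup.induction_on with
    | _ y =>
      rw [QuotientGroup.map_mk, QuotientGroup.map_mk]
      congr 1
      refine Subtype.ext ?_
      show z * (z * (y : G) * z) * z = y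
      rw [show z * (z * (y : G) * z) * z = z * z * y * (z * z) by group, hzz, one_mul, mul_one]
  have hzinv : ∀ {y : G}, y ∈ K → z * y * z * y ∈ D := fun {y} hy => by
    have h := congrFun (hfree.coe_eq_inv_of_involutive hinv) ((⟨y, hy⟩ : K) : K ⧸ D')
    rw [QuotientGroup.map_mk, ← mul_eq_one_iff_eq_inv, ← QuotientGroup.mk_mul,
      QuotientGroup.eq_one_iff] at h
    exact h
  have hcomm : ∀ {y y' : G}, y ∈ K → y' ∈ K → y * y' * y⁻¹ * y'⁻¹ ∈ D := fun {y y'} hy hy' => by
    have h := (hfree.commute_all_of_involutive hinv ((⟨y, hy⟩ : K) : K ⧸ D')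
      ((⟨y', hy'⟩ : K) : K ⧸ D')).commutator_eq
    rw [commutatorElement_def, ← QuotientGroup.mk_mul, ← QuotientGroup.mk_inv,
      ← QuotientGroup.mk_mul, ← QuotientGroup.mk_inv, ← QuotientGroup.mk_mul,
      QuotientGroup.eq_one_iff] at h
    exact h
  obtain ⟨c, hcq, hcz⟩ := hne
  set y₀ := z * c * z * c⁻¹ with hy₀
  have hy₀K : y₀ ∈ K := hKz hcq
  have hy₀D : y₀ ∉ D := fun h => by
    have hzy := mem_centralizer_singleton_iff.1 (mem_inf.1 h).2
    have h1 : y₀ * y₀ = 1 := by
      have : z * y₀ * z = y₀⁻¹ := by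
        rw [hy₀, show z * (z * c * z * c⁻¹) * z = (z * z) * c * z * c⁻¹ * z by group, hzz]
        simp [hzi, mul_assoc]
      rw [← hzy, mul_assoc, hzz, mul_one] at this
      exact eq_inv_iff_mul_eq_one.1 this
    have h2 := eq_one_of_mul_self (hD3 h) h1
    refine hcz ?_
    rw [hy₀, mul_inv_eq_one] at h2
    show c * z = z * c
    calc c * z = z * c * z * z := by rw [h2]
      _ = z * c := by rw [mul_assoc, hzz, mul_one]
  obtain ⟨y, hy, hyD, d, hd, hxy⟩ : ∃ y, y ∈ K ∧ y ∉ D ∧ ∃ d ∈ D, x * y * x = d * y := by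
    by_cases h1 : y₀ * (x * y₀ * x) ∈ D
    · have hd₂ := hzinv hy₀K
      have hc₀ : Commute h₀⁻¹ q := h₀q.inv_left
      refine ⟨h₀⁻¹ * y₀ * h₀, by simpa using hKn hc₀ hy₀K, fun h => hy₀D ?_,
        (z * y₀ * z * y₀)⁻¹ * (y₀ * (x * y₀ * x))⁻¹, mul_mem (inv_mem hd₂) (inv_mem h1), ?_⟩
      · have := hDc h h₀q
        rwa [show y₀ = h₀ * (h₀⁻¹ * y₀ * h₀) * h₀⁻¹ by group, ← this.eq, mul_inv_cancel_right]
      set d₁ := y₀ * (x * y₀ * x) with hd₁
      set d₂ := z * y₀ * z * y₀ with hd₂'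
      have e1 : x * h₀⁻¹ = h₀⁻¹ * (x * z) := by rw [← h₀x]; group
      have e2 : h₀ * x = x * z * h₀ := by rw [← h₀x]; group
      have e3 : x * (z * y₀ * z) * x = d₂⁻¹ * d₁⁻¹ * y₀ := by
        have e4 : x * (d₂ * y₀⁻¹) * x = (x * d₂ * x) * (x * y₀ * x)⁻¹ := by
          calc x * (d₂ * y₀⁻¹) * x = x * d₂ * (x * x⁻¹) * y₀⁻¹ * x := by group
            _ = x * d₂ * x * (x⁻¹ * y₀⁻¹ * x⁻¹) := by rw [hxi]; group
            _ = _ := by group
        rw [show z * y₀ * z = d₂ * y₀⁻¹ by rw [hd₂']; group, e4, hDx hd₂,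
          show x * y₀ * x = y₀⁻¹ * d₁ by rw [hd₁]; group]
        group
      calc x * (h₀⁻¹ * y₀ * h₀) * x = (x * h₀⁻¹) * y₀ * (h₀ * x) := by group
        _ = h₀⁻¹ * (x * (z * y₀ * z) * x) * h₀ := by
            rw [e1, e2, show x * (z * y₀ * z) * x = x * z * y₀ * (z * x) by group, ← hxz.eq]
            group
        _ = (h₀⁻¹ * (d₂⁻¹ * d₁⁻¹)) * y₀ * h₀ := by rw [e3]; group
        _ = _ := by
            rw [← (hDc (mul_mem (inv_mem hd₂) (inv_mem h1)) hc₀).eq]
            group
    · refine ⟨y₀ * (x * y₀ * x), mul_mem hy₀K (hKx hy₀K), h1,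
        _, hcomm (hKx hy₀K) hy₀K, ?_⟩
      rw [show x * (y₀ * (x * y₀ * x)) * x = x * y₀ * x * y₀ * (x * x) by group, hx]
      group
  have hn : d * d * y ∈ K := mul_mem (mul_mem (mem_inf.1 hd).1 (mem_inf.1 hd).1) hy
  have hnD : d * d * y ∉ D := fun h => hyD ((Subgroup.mul_mem_cancel_left D (mul_mem hd hd)).1 h)
  have hnx : x * (d * d * y) * x = d * d * y := by
    rw [show x * (d * d * y) * x = (x * d * x) * (x * d * x) * (x * y * x) by
      rw [show (x * d * x) * (x * d * x) * (x * y * x) = x * d * (x * x) * d * (x * x) * y * x by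
        group, hx]; group, hDx hd, hxy]
    have h3 := hD3 hd
    rw [pow_three] at h3
    have h4 : d⁻¹ = d * d := inv_eq_of_mul_eq_one_right h3
    rw [h4]
    calc d * d * (d * d) * (d * y) = (d * (d * d)) * (d * d * y) := by group
      _ = d * d * y := by rw [h3, one_mul]
  generalize hn' : d * d * y = n at hn hnD hnx
  refine ⟨n, hKC hn, fun h => hnD (h ▸ one_mem D), ?_, ?_, hKo hn, fun h hh => ?_⟩
  · show n * x = x * n
    calc n * x = x * n * x * x := by rw [hnx]
      _ = x * n := by rw [mul_assoc, hx, mul_one]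
  · have he := hzinv hn
    set e := z * n * z * n with he'
    have e1 : x * e * x = e := by
      rw [he']
      calc x * (z * n * z * n) * x = (x * z) * n * z * n * x := by group
        _ = z * (x * n * x) * (z * (x * n * x)) := by
            rw [hxz.eq]
            rw [show z * (x * n * x) * (z * (x * n * x)) = z * x * n * (x * z) * x * n * x by group,
              hxz.eq]
            rw [show z * x * n * (z * x) * x * n * x = z * x * n * z * (x * x) * n * x by group, hx]
            group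
        _ = _ := by rw [hnx]; group
    rw [hDx he] at e1
    have h1 : e = 1 := eq_one_of_mul_self (hD3 he) (inv_eq_iff_mul_eq_one.1 e1)
    exact eq_inv_of_mul_eq_one_left h1
  · exact hDq (hcomm hn (hKn hh hn))

end CfsgLib.G2Rec
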