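import Cfsg.Agent.G2Rec.MTable
import Cfsg.Agent.G2Rec.Transport

/-!
If the centralizer of `q` is not in the centralizer of `z`, one of twelve relators says that `q`
commutes with a conjugate of an element of order three inverted by the transported involution.
-/

set_option autoImplicit false
set_option linter.style.haveILetI false

namespace CfsgLib.G2Rec

open CfsgLib.CosetEnum CfsgLib.MTwelveUnique Subgroup
open CfsgLib.UFourType (Tab invW pathOf)

noncomputable section

/-- The representatives of the twelve transported elements up to inversion. -/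
def opts : List (List ℕ) := [[5, 7], [4, 7], [0, 5, 1, 7], [0, 5, 1, 6], [0, 2, 4, 0, 6, 2],
  [0, 2, 4, 0, 7, 2], [7], [2, 4, 7, 3], [2, 6, 3], [0, 4, 1], [5], [2, 4, 6, 3]]

theorem pow24_rows : (List.range 576).all (fun i =>
    sameB ((List.replicate 24 (hWord i)).flatten) []) = true := by decide +kernel

theorem uniq_rows : (List.range 576).all (fun i => !(sameB (hWord i ++ [6]) ([6] ++ hWord i)) ||
    !(sameB (hWord i ++ hWord i) []) || sameB (hWord i) [] || sameB (hWord i) zW) = true := by
  decide +kernel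

theorem odd_rows : (List.range 576).all (fun i => !(sameB (hWord i ++ [6]) ([6] ++ hWord i)) ||
    !(sameB (hWord i ++ hWord i ++ hWord i) []) ||
    !(sameB (commW [0] (hWord i) ++ commW [0] (hWord i) ++ commW [0] (hWord i)) []) ||
    sameB (hWord i) [] || sameB (hWord i) [6] || sameB (hWord i) [6, 6]) = true := by
  decide +kernel

theorem opt_rows : (List.range 576).all (fun i =>
    !(sameB (hWord i ++ hWord i ++ hWord i) []) || sameB (hWord i) [] ||
    !(sameB (z2W ++ hWord i ++ z2W ++ hWord i) []) ||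
    opts.any (fun o => sameB (hWord i) o || sameB (hWord i) (invW o))) = true := by
  decide +kernel

theorem opts_lt : opts.all (fun o => o.all (fun x => Nat.blt x 10)) = true := by decide

namespace Fr

variable {G : Type*} [Group G] (f : Fr G)

/-- The value of a word in the configuration. -/
def w (v : List ℕ) : G := prodw f.γ v

theorem w_append (u v : List ℕ) : f.w (u ++ v) = f.w u * f.w v := prodw_append _ u v

theorem w_single (x : ℕ) : f.w [x] = f.γ x := by simp [w, prodw]

theorem w_nil : f.w [] = 1 := rfl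

theorem w_invW (v : List ℕ) (hv : ∀ x ∈ v, x < 12) : f.w (invW v) = (f.w v)⁻¹ :=
  prodw_invW_of_sat f.sat v hv

theorem w_same {u v : List ℕ} (e : sameB u v = true) : f.w u = f.w v := prodw_eq_of_sameB f.satH e

theorem w_mSame {u v u' v' : List ℕ} (e : mSame u v = true) (hu : mSubst u = u')
    (hv : mSubst v = v') : f.w u' = f.w v' :=
  hu ▸ hv ▸ prodw_eq_of_mSame f.sat e

theorem mem_hGroup_iff {y : G} : y ∈ hGroup f.γ ↔ Commute y (f.w zW) := by
  rw [← f.cent]
  exact mem_centralizer_singleton_iff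

theorem exists_row_of_commute {y : G} (hy : Commute y (f.w zW)) :
    ∃ i, i < 576 ∧ f.w (hWord i) = y :=
  (mem_hGroup f.satH).1 (f.mem_hGroup_iff.2 hy)

theorem sameB_of_eq {u v : List ℕ} (hu : ∀ x ∈ u, x < 10) (hv : ∀ x ∈ v, x < 10)
    (e : f.w u = f.w v) : sameB u v = true := by
  have h : idx u = idx v := el_inj f.satH f.z_ne (idx_lt hu) (idx_lt hv)
    (by rw [← prodw_eq_el f.satH hu, ← prodw_eq_el f.satH hv]; exact e)
  simp [sameB, h]
  exact ⟨hu, hv⟩

theorem pow24 {y : G} (hy : Commute y (f.w zW)) : y ^ 24 = 1 := by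
  obtain ⟨i, hi, rfl⟩ := f.exists_row_of_commute hy
  have h := f.w_same (List.all_eq_true.1 pow24_rows i (List.mem_range.2 hi))
  rw [f.w_nil] at h
  rw [← h]
  show _ = prodw f.γ _
  clear h
  induction (24 : ℕ) with
  | zero => rw [pow_zero]; rfl
  | succ n ih => rw [List.replicate_succ, List.flatten_cons, prodw_append, ← ih, pow_succ']; rfl

theorem pow_three_of_odd {y : G} (hy : Commute y (f.w zW)) (ho : Odd (orderOf y)) : y ^ 3 = 1 := by
  refine orderOf_dvd_iff_pow_eq_one.1 ((Nat.Coprime.dvd_mul_left ?_).1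
    (orderOf_dvd_of_pow_eq_one (n := 2 ^ 3 * 3) (f.pow24 hy)))
  exact (Nat.coprime_two_right.2 ho).pow_right 3

theorem exists_transported [Finite G]
    (hq : ¬ centralizer ({f.γ 6} : Set G) ≤ hGroup f.γ) :
    ∃ o ∈ opts, prodw f.γ (qComm o) = 1 ∧ ∀ h : List ℕ, (∀ x ∈ h, x < 10) →
      sameB (h ++ [6]) ([6] ++ h) = true →
      ∃ e < 3, prodw f.γ (splitW o h e) = 1 := by
  set z := f.w zW with hz
  set q := f.w [6] with hq'
  set k := f.w kW with hk
  set x := f.w xW with hx'
  have hz2 : z * z = 1 := by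
    rw [hz, ← f.w_append, f.w_same (v := []) (by decide +kernel), f.w_nil]
  have hzo : orderOf z = 2 := orderOf_eq_prime (p := 2) (by rw [pow_two]; exact hz2) f.z_ne
  have comm_of : ∀ {u v : List ℕ}, sameB (u ++ v) (v ++ u) = true → Commute (f.w u) (f.w v) :=
    fun {u v} e => by
      show f.w u * f.w v = f.w v * f.w u
      rw [← f.w_append, ← f.w_append]
      exact f.w_same e
  have same_of : ∀ {u v : List ℕ}, (∀ a ∈ u, a < 10) → (∀ a ∈ v, a < 10) →
      Commute (f.w u) (f.w v) → sameB (u ++ v) (v ++ u) = true := fun {u v} hu hv e =>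
    f.sameB_of_eq (fun a ha => (List.mem_append.1 ha).elim (hu a) (hv a))
      (fun a ha => (List.mem_append.1 ha).elim (hv a) (hu a))
      (by rw [f.w_append, f.w_append]; exact e)
  have hq3 : q ^ 3 = 1 := by
    rw [pow_three, hq', ← f.w_append, ← f.w_append, f.w_same (v := []) (by decide +kernel), f.w_nil]
  have hx : x * x = 1 := by
    rw [hx', ← f.w_append, f.w_same (v := []) (by decide +kernel), f.w_nil]
  have hxq : x * q * x = q⁻¹ := by
    rw [hx', hq', ← f.w_invW [6] (by decide), ← f.w_append, ← f.w_append]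
    exact f.w_same (by decide +kernel)
  have hh0 : f.w [4, 0, 5] * x * (f.w [4, 0, 5])⁻¹ = x * z := by
    rw [hx', hz, ← f.w_invW [4, 0, 5] (by decide), ← f.w_append, ← f.w_append, ← f.w_append]
    exact f.w_same (by decide +kernel)
  -- the involution inverting `q` is `k z k⁻¹`
  have hgz : f.w ([10] ++ zW ++ [11]) = f.w e1W :=
    f.w_mSame (u := [10] ++ zW ++ [11]) (v := e1W) (by decide +kernel) (by decide) (by decide)
  have hkz : k * z * k⁻¹ = x := by
    rw [hk, hz, ← f.w_invW kW (by decide), ← f.w_append, ← f.w_append,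
      show kW ++ zW ++ invW kW = [8, 10, 4, 7] ++ ([10] ++ zW ++ [11]) ++ [6, 5, 11, 9] from rfl,
      f.w_append, f.w_append, hgz, ← f.w_append, ← f.w_append,
      show [8, 10, 4, 7] ++ e1W ++ [6, 5, 11, 9] = [8, 10] ++ ([4, 7] ++ e1W ++ [6, 5]) ++ [11, 9]
        from rfl,
      f.w_append, f.w_append, f.w_same (u := [4, 7] ++ e1W ++ [6, 5]) (v := [0, 7, 5, 0, 3, 4, 6]) (by decide +kernel),
      ← f.w_append, ← f.w_append, hx']
    exact f.w_mSame (u := [8, 10, 0, 5, 0, 3, 4, 11, 9]) (v := [0, 3, 4, 8]) (by decide +kernel)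
      (by decide) (by decide)
  have hk2 : k⁻¹ * z * k = f.w z2W := by
    rw [hk, hz, ← f.w_invW kW (by decide), ← f.w_append, ← f.w_append,
      show invW kW ++ zW ++ kW = [11, 6, 5, 11] ++ ([9] ++ zW ++ [8]) ++ [10, 4, 7, 10] from rfl,
      f.w_append, f.w_append, f.w_same (u := [9] ++ zW ++ [8]) (v := zW) (by decide +kernel), ← f.w_append, ← f.w_append,
      show [11, 6, 5, 11] ++ zW ++ [10, 4, 7, 10] = [11, 6, 5] ++ ([11] ++ zW ++ [10]) ++ [4, 7, 10]
        from rfl,
      f.w_append, f.w_append,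
      show f.w ([11] ++ zW ++ [10]) = f.w e1W from
        f.w_mSame (u := [11] ++ zW ++ [10]) (v := e1W) (by decide +kernel) (by decide) (by decide),
      ← f.w_append, ← f.w_append,
      show [11, 6, 5] ++ e1W ++ [4, 7, 10] = [11] ++ ([6, 5] ++ e1W ++ [4, 7]) ++ [10] from rfl,
      f.w_append, f.w_append, f.w_same (u := [6, 5] ++ e1W ++ [4, 7]) (v := [0, 4, 6, 0, 2, 7, 5]) (by decide +kernel),
      ← f.w_append, ← f.w_append]
    exact (f.w_mSame (u := [11, 0, 4, 0, 2, 5, 10]) (v := [0, 2, 4, 8, 5]) (by decide +kernel)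
      (by decide) rfl).trans (f.w_same (by decide +kernel))
  -- the group theoretical part
  obtain ⟨n, hnq, hn1, hnx, hnz, hno, hns⟩ := exists_inverted (i := f.w [0]) hzo hq3
    (comm_of (by decide +kernel)) hx hxq (comm_of (by decide +kernel))
    (comm_of (by decide +kernel)) hh0 (comm_of (by decide +kernel))
    (fun u huq huz hu => by
      obtain ⟨i, hi, rfl⟩ := f.exists_row_of_commute huz
      have hl := (hWord_spec hi).2
      have h := List.all_eq_true.1 uniq_rows i (List.mem_range.2 hi)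
      have h2 : sameB (hWord i ++ hWord i) [] = true := f.sameB_of_eq
        (fun a ha => (List.mem_append.1 ha).elim (hl a) (hl a)) (by simp) (by
          rw [f.w_append, f.w_nil, ← pow_two, ← hu, pow_orderOf_eq_one])
      rw [same_of hl (by decide) huq, h2] at h
      simp only [Bool.not_true, Bool.false_or, Bool.or_eq_true] at h
      rcases h with h | h
      · exact absurd (orderOf_eq_one_iff.2 (f.w_same h)) (by rw [hu]; norm_num)
      · exact f.w_same h)
    (fun y hyq hyz hy hyi => by
      obtain ⟨i, hi, rfl⟩ := f.exists_row_of_commute hyz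
      have hl := (hWord_spec hi).2
      have h := List.all_eq_true.1 odd_rows i (List.mem_range.2 hi)
      have hl3 : ∀ {v : List ℕ}, (∀ a ∈ v, a < 10) → ∀ a ∈ v ++ v ++ v, a < 10 := fun hv a ha =>
        (List.mem_append.1 ha).elim (fun ha => (List.mem_append.1 ha).elim (hv a) (hv a)) (hv a)
      have h2 : sameB (hWord i ++ hWord i ++ hWord i) [] = true :=
        f.sameB_of_eq (hl3 hl) (by simp) (by
          rw [f.w_append, f.w_append, f.w_nil, ← pow_three']
          exact f.pow_three_of_odd hyz hy)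
      have hc : f.w (commW [0] (hWord i)) =
          f.w [0] * f.w (hWord i) * (f.w [0])⁻¹ * (f.w (hWord i))⁻¹ :=
        prodw_commW f.sat (by decide) (fun a ha => by have := hl a ha; omega)
      have hiz : Commute (f.w [0]) z := comm_of (by decide +kernel)
      have h3 : sameB (commW [0] (hWord i) ++ commW [0] (hWord i) ++ commW [0] (hWord i)) [] = true :=
        f.sameB_of_eq (hl3 (commW_lt (by decide) hl)) (by simp) (by
          rw [f.w_append, f.w_append, f.w_nil, ← pow_three', hc]
          exact f.pow_three_of_odd (((hiz.mul_left hyz).mul_left hiz.inv_left).mul_left hyz.inv_left)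
            hyi)
      rw [same_of hl (by decide) hyq, h2, h3] at h
      simp only [Bool.not_true, Bool.false_or, Bool.or_eq_true] at h
      rcases h with (h | h) | h <;> rw [f.w_same h]
      · exact one_mem _
      · exact mem_zpowers _
      · show f.w ([6] ++ [6]) ∈ zpowers q
        rw [f.w_append [6] [6]]
        exact mul_mem (mem_zpowers _) (mem_zpowers _))
    (by
      obtain ⟨c, hc, hc'⟩ := SetLike.not_le_iff_exists.1 hq
      exact ⟨c, by rw [hq', w_single]; exact mem_centralizer_singleton_iff.1 hc,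
        fun h => hc' (f.mem_hGroup_iff.2 h)⟩)
  -- transport to the centralizer of `z`
  set m := k⁻¹ * n * k with hm
  have hmz : Commute m z := by
    have h1 : z = k⁻¹ * x * k := by rw [← hkz]; group
    rw [h1, hm]
    show k⁻¹ * n * k * (k⁻¹ * x * k) = k⁻¹ * x * k * (k⁻¹ * n * k)
    calc k⁻¹ * n * k * (k⁻¹ * x * k) = k⁻¹ * (n * x) * k := by group
      _ = k⁻¹ * (x * n) * k := by rw [hnx.eq]
      _ = _ := by group
  have hmi : f.w z2W * m * f.w z2W * m = 1 := by
    rw [← hk2, hm]
    calc k⁻¹ * z * k * (k⁻¹ * n * k) * (k⁻¹ * z * k) * (k⁻¹ * n * k)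
        = k⁻¹ * (z * n * z * n) * k := by group
      _ = 1 := by rw [hnz]; group
  have hmo : orderOf m = orderOf n := by
    rw [hm, show k⁻¹ * n * k = MulAut.conj k⁻¹ n by simp]
    exact MulEquiv.orderOf_eq _ n
  obtain ⟨i, hi, hmw⟩ := f.exists_row_of_commute hmz
  have hl := (hWord_spec hi).2
  have hz2l : ∀ a ∈ z2W, a < 10 := by decide
  have h := List.all_eq_true.1 opt_rows i (List.mem_range.2 hi)
  have h1 : sameB (hWord i ++ hWord i ++ hWord i) [] = true := f.sameB_of_eq
    (fun a ha => (List.mem_append.1 ha).elim (fun ha => (List.mem_append.1 ha).elim (hl a) (hl a))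
      (hl a)) (by simp) (by
      rw [f.w_append, f.w_append, f.w_nil, ← pow_three', hmw]
      exact f.pow_three_of_odd hmz (hmo ▸ hno))
  have h2 : sameB (z2W ++ hWord i ++ z2W ++ hWord i) [] = true := f.sameB_of_eq
    (fun a ha => (List.mem_append.1 ha).elim (fun ha => (List.mem_append.1 ha).elim
      (fun ha => (List.mem_append.1 ha).elim (hz2l a) (hl a)) (hz2l a)) (hl a)) (by simp) (by
      rw [f.w_append, f.w_append, f.w_append, f.w_nil, hmw]
      exact hmi)
  rw [h1, h2] at h
  simp only [Bool.not_true, Bool.false_or, Bool.or_eq_true, List.any_eq_true] at h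
  rcases h with (h | h) | ⟨o, ho, h⟩
  · refine absurd ?_ hn1
    have hm1 : m = 1 := by rw [← hmw, f.w_same h, f.w_nil]
    rw [show n = k * m * k⁻¹ by rw [hm]; group, hm1]
    group
  · exact absurd h Bool.false_ne_true
  have hol : ∀ a ∈ o, a < 10 := fun a ha => by
    simpa using List.all_eq_true.1 (List.all_eq_true.1 opts_lt o ho) a ha
  have hol12 : ∀ a ∈ o, a < 12 := fun a ha => by have := hol a ha; omega
  have hnl : ∀ a ∈ nW o, a < 12 := fun a ha => by
    simp only [nW, List.mem_append] at ha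
    rcases ha with (ha | ha) | ha
    · exact (show ∀ a ∈ kW, a < 12 by decide) a ha
    · exact hol12 a ha
    · exact (show ∀ a ∈ invW kW, a < 12 by decide) a ha
  have hnv : f.w (nW o) = k * f.w o * k⁻¹ := by
    rw [nW, f.w_append, f.w_append, f.w_invW kW (by decide)]
  have hN : f.w (nW o) = n ∨ f.w (nW o) = n⁻¹ := by
    rcases h with h | h
    · left
      rw [hnv, ← f.w_same h, hmw, hm]
      group
    · right
      have e := f.w_same h
      rw [hmw, f.w_invW o hol12] at e
      rw [hnv, ← inv_inv (f.w o), ← e, hm]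
      group
  have hNq : Commute (f.w (nW o)) q := by
    rcases hN with e | e <;> rw [e]
    exacts [hnq, hnq.inv_left]
  refine ⟨o, ho, ?_, fun v hv hvq => ?_⟩
  · show prodw f.γ (commW [6] (nW o)) = 1
    rw [prodw_commW f.sat (by decide) hnl]
    show q * f.w (nW o) * q⁻¹ * (f.w (nW o))⁻¹ = 1
    rw [← hNq.eq, mul_inv_cancel_right, mul_inv_cancel]
  have hvq' : Commute (f.w v) q := comm_of hvq
  set b := f.w v * n * (f.w v)⁻¹ with hb
  have hbq : Commute b q := (hvq'.mul_left hnq).mul_left hvq'.inv_left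
  have hcen : f.w (nW o) * (f.w v * f.w (nW o) * (f.w v)⁻¹) * (f.w (nW o))⁻¹ *
      (f.w v * f.w (nW o) * (f.w v)⁻¹)⁻¹ ∈ zpowers q := by
    have hc := hns _ hvq'
    rcases hN with e | e <;> rw [e]
    · exact hc
    obtain ⟨j, hj⟩ := mem_zpowers_iff.1 hc
    rw [← hb] at hj
    have hcb : Commute b (q ^ j) := hbq.zpow_right j
    have hcn : Commute n (q ^ j) := hnq.zpow_right j
    refine mem_zpowers_iff.2 ⟨j, ?_⟩
    have e1 : n * b = q ^ j * (b * n) := by rw [hj]; group
    rw [show f.w v * n⁻¹ * (f.w v)⁻¹ = b⁻¹ by rw [hb]; group, inv_inv, inv_inv]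
    calc q ^ j = n⁻¹ * b⁻¹ * (b * (n * q ^ j)) := by group
      _ = n⁻¹ * b⁻¹ * (b * q ^ j * n) := by rw [hcn.eq, mul_assoc b]
      _ = n⁻¹ * b⁻¹ * (q ^ j * (b * n)) := by rw [hcb.eq]; group
      _ = n⁻¹ * b⁻¹ * (n * b) := by rw [← e1]
      _ = _ := by group
  have hcw : f.w (commW (nW o) (v ++ nW o ++ invW v)) ∈ zpowers q := by
    have hv12 : ∀ a ∈ v, a < 12 := fun a ha => by have := hv a ha; omega
    show prodw f.γ _ ∈ _
    rw [prodw_commW f.sat hnl fun a ha => ?_]
    · show f.w (nW o) * f.w _ * (f.w (nW o))⁻¹ * (f.w _)⁻¹ ∈ _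
      rw [f.w_append, f.w_append, f.w_invW v hv12]
      exact hcen
    · rcases List.mem_append.1 ha with ha | ha
      · exact (List.mem_append.1 ha).elim (hv12 a) (hnl a)
      · exact Closed.mem_invW (k := 6) m_closed hv12 a ha
  have hq7 : f.w [7] = q⁻¹ := (f.w_invW [6] (by decide))
  obtain ⟨j, hj⟩ := mem_zpowers_iff.1 hcw
  have hj3 : q ^ j = q ^ (j % 3) := zpow_eq_zpow_emod' j hq3
  have : j % 3 = 0 ∨ j % 3 = 1 ∨ j % 3 = 2 := by omega
  rcases this with e | e | e <;> rw [hj3, e] at hj
  · exact ⟨0, by norm_num, by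
      show f.w (commW _ _ ++ []) = 1
      rw [List.append_nil, ← hj, zpow_zero]⟩
  · exact ⟨1, by norm_num, by
      show f.w (commW _ _ ++ [7]) = 1
      rw [f.w_append, ← hj, hq7, zpow_one, mul_inv_cancel]⟩
  · exact ⟨2, by norm_num, by
      show f.w (commW _ _ ++ [6]) = 1
      rw [f.w_append, ← hj, ← hq', show q ^ (2 : ℤ) * q = q ^ 3 by group, hq3]⟩

end Fr

end

end CfsgLib.G2Rec
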