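import Cfsg.Agent.G2Rec.HTable

/-!
An escape of the centralizer of one element of order three of `SL(2,3)` gives one for every other.
-/

set_option autoImplicit false
set_option linter.style.haveILetI false

namespace CfsgLib.G2Rec

open Subgroup CfsgLib.CosetEnum
open scoped Pointwise

theorem card_slTwoThree :
    Nat.card (Matrix.SpecialLinearGroup (Fin 2) (ZMod 3)) = 24 := by
  rw [Nat.card_eq_fintype_card]; rfl

variable {G : Type*} [Group G] [Finite G]

theorem not_le_transfer {H H₁ : Subgroup G} (h1 : H₁ ≤ H)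
    (e : H₁ ≃* Matrix.SpecialLinearGroup (Fin 2) (ZMod 3)) {s s' : G} (hs : s ∈ H₁)
    (hs' : s' ∈ H₁) (ho : orderOf s = 3) (ho' : orderOf s' = 3)
    (hne : ¬ centralizer ({s} : Set G) ≤ H) : ¬ centralizer ({s'} : Set G) ≤ H := by
  haveI : Fact (Nat.Prime 3) := ⟨Nat.prime_three⟩
  have hc : Nat.card H₁ = 24 := (Nat.card_congr e.toEquiv).trans card_slTwoThree
  have hf : (Nat.card H₁).factorization 3 = 1 := by
    rw [hc, show (24 : ℕ) = 8 * 3 by norm_num, Nat.factorization_mul (by norm_num) (by norm_num),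
      Finsupp.add_apply, Nat.Prime.factorization_self Fact.out,
      Nat.factorization_eq_zero_of_not_dvd (by norm_num)]
  have card3 : ∀ {y : G} (hy : y ∈ H₁), orderOf y = 3 →
      Nat.card (zpowers (⟨y, hy⟩ : H₁)) = 3 ^ (Nat.card H₁).factorization 3 := fun {y} hy h => by
    rw [hf, pow_one, Nat.card_zpowers, orderOf_mk]
    exact h
  obtain ⟨g, hg⟩ := MulAction.exists_smul_eq H₁ (Sylow.ofCard _ (card3 hs ho))
    (Sylow.ofCard _ (card3 hs' ho'))
  have hmem : (⟨s', hs'⟩ : H₁) ∈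
      (zpowers (⟨s, hs⟩ : H₁)).map (MulAut.conj g).toMonoidHom := by
    have h := congrArg (fun P : Sylow 3 H₁ => (P : Subgroup H₁)) hg
    simp only [Sylow.coe_subgroup_smul, Sylow.coe_ofCard] at h
    have h2 : (MulAut.conj g) • zpowers (⟨s, hs⟩ : H₁) = zpowers ⟨s', hs'⟩ := h
    rw [show (zpowers (⟨s, hs⟩ : H₁)).map (MulAut.conj g).toMonoidHom =
      (MulAut.conj g) • zpowers (⟨s, hs⟩ : H₁) from rfl, h2]
    exact mem_zpowers _
  obtain ⟨v, hv, hvs⟩ := hmem
  obtain ⟨k, rfl⟩ := mem_zpowers_iff.1 hv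
  have hs'eq : s' = (g : G) * s ^ k * (g : G)⁻¹ := (congrArg Subtype.val hvs).symm
  intro hle
  obtain ⟨c, hc', hcH⟩ := SetLike.not_le_iff_exists.1 hne
  have hcs : Commute c (s ^ k) := Commute.zpow_right (mem_centralizer_singleton_iff.1 hc') k
  have hm : (g : G) * c * (g : G)⁻¹ ∈ H := hle (mem_centralizer_singleton_iff.2 (by
    rw [hs'eq]
    calc (g : G) * c * (g : G)⁻¹ * ((g : G) * s ^ k * (g : G)⁻¹)
        = (g : G) * (c * s ^ k) * (g : G)⁻¹ := by group
      _ = (g : G) * (s ^ k * c) * (g : G)⁻¹ := by rw [hcs.eq]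
      _ = _ := by group))
  refine hcH ?_
  have hgH := h1 g.2
  simpa [mul_assoc] using H.mul_mem (H.mul_mem (H.inv_mem hgH) hm) hgH

/-- In a configuration the letters `4` and `6` have order three. -/
theorem Fr.orderOf_letter (f : Fr G) {v : ℕ} (hv : v = 4 ∨ v = 6) : orderOf (f.γ v) = 3 := by
  haveI : Fact (Nat.Prime 3) := ⟨Nat.prime_three⟩
  have h3 : sameB [v, v, v] [] = true ∧ ¬ idx [v] = idx [] ∧ v < 10 := by
    rcases hv with rfl | rfl <;> decide +kernel
  refine orderOf_eq_prime ?_ fun h => h3.2.1 ?_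
  · simpa [prodw, pow_three] using prodw_eq_of_sameB f.satH h3.1
  · have hl : ∀ x ∈ [v], x < 10 := by simpa using h3.2.2
    refine el_inj f.satH f.z_ne (idx_lt hl) (idx_lt (by simp)) ?_
    rw [← prodw_eq_el f.satH hl, ← prodw_eq_el f.satH (w := []) (by simp)]
    simpa [prodw] using h

end CfsgLib.G2Rec
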