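import Cfsg.Agent.G2Rec.Defs

/-!
Soundness of closed coset tables, for any subgroup containing the values of the subgroup words.
-/

set_option autoImplicit false
set_option linter.unusedSectionVars false

namespace CfsgLib.G2Rec

open CfsgLib.CosetEnum CfsgLib.MTwelveUnique
open CfsgLib.UFourType (Tab invW pathOf)

/-- The entries are below `n`, odd columns invert the even ones, and the words `word` lead from the
first row to their rows, in letters below `2 * k`. -/
def rowsOK (T : Tab) (k n : ℕ) (word : ℕ → List ℕ) : Bool :=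
  Nat.beq (ext T.reps 0) 0 && (Nat.beq T.n n && (List.range n).all fun i =>
    Nat.beq (T.walk 0 (word i)) i && ((word i).all (fun x => Nat.blt x (2 * k)) &&
      (List.range k).all (fun x => Nat.blt (ext (T.tab (2 * x + 1)) i) n &&
        (Nat.beq (ext (T.tab (2 * x)) (ext (T.tab (2 * x + 1)) i)) i &&
          Nat.beq (ext (T.tab (2 * x + 1)) (ext (T.tab (2 * x)) i)) i))))

theorem xor_even {x : ℕ} (hx : x < 6) : Nat.xor (2 * x) 1 = 2 * x + 1 := by
  interval_cases x <;> decide

theorem xor_lt {x k : ℕ} (hk : k ≤ 6) (hx : x < 2 * k) : Nat.xor x 1 < 2 * k := by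
  interval_cases k <;> interval_cases x <;> decide

variable {G : Type*} [Group G] {γ : ℕ → G} {T : Tab} {k n : ℕ} {word : ℕ → List ℕ}
  {R W : List (List ℕ)} {K : Subgroup G}

/-- The representative of a row. -/
def rowRep (γ : ℕ → G) (T : Tab) (i : ℕ) : G := crOf γ T.cert.parN T.cert.parX (ext T.reps i)

/-- The hypotheses on a closed table. -/
structure Closed (T : Tab) (k n : ℕ) (word : ℕ → List ℕ) (R W : List (List ℕ)) : Prop where
  le : k ≤ 6
  pos : 0 < n
  rows : rowsOK T k n word = true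
  ok : T.cert.ok R W = true
  derived : T.Derived k

namespace Closed

variable (c : Closed T k n word R W)
include c

theorem n_eq : T.n = n := by
  have h := c.rows
  simp only [rowsOK, Bool.and_eq_true, Nat.beq_eq] at h
  exact h.2.1

theorem rowRep_zero : rowRep γ T 0 = 1 := by
  have h := c.rows
  simp only [rowsOK, Bool.and_eq_true, Nat.beq_eq] at h
  rw [rowRep, h.1, crOf_zero]

theorem word_spec {i : ℕ} (hi : i < n) : T.walk 0 (word i) = i ∧ ∀ x ∈ word i, x < 2 * k := by
  have h := c.rows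
  simp only [rowsOK, Bool.and_eq_true, Nat.beq_eq, List.all_eq_true, Nat.blt_eq] at h
  exact ⟨(h.2.2 i (List.mem_range.2 hi)).1, (h.2.2 i (List.mem_range.2 hi)).2.1⟩

theorem inv_entry {i x : ℕ} (hi : i < n) (hx : x < k) :
    ext (T.tab (2 * x + 1)) i < n ∧ ext (T.tab (2 * x)) (ext (T.tab (2 * x + 1)) i) = i ∧
      ext (T.tab (2 * x + 1)) (ext (T.tab (2 * x)) i) = i := by
  have h := c.rows
  simp only [rowsOK, Bool.and_eq_true, Nat.beq_eq, List.all_eq_true, Nat.blt_eq] at h
  exact (h.2.2 i (List.mem_range.2 hi)).2.2 x (List.mem_range.2 hx)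

theorem edge_lt {i x : ℕ} (hi : i < n) (hx : x < 2 * k) : ext (T.tab x) i < n := by
  obtain ⟨y, rfl | rfl⟩ := Nat.even_or_odd' x
  · obtain ⟨p, hp⟩ := c.derived y (by omega) i (c.n_eq.symm ▸ hi)
    simp only [Tab.edgeP, Bool.and_eq_true, Nat.blt_eq] at hp
    exact c.n_eq ▸ hp.1
  · exact (c.inv_entry hi (by omega)).1

theorem walk_lt : ∀ {w : List ℕ}, (∀ x ∈ w, x < 2 * k) → ∀ {i}, i < n → T.walk i w < n := by
  intro w
  induction w with
  | nil => intro _ i hi; exact hi
  | cons x w ih =>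
    intro hw i hi
    exact ih (fun y hy => hw y (List.mem_cons_of_mem x hy)) (c.edge_lt hi (hw x List.mem_cons_self))

theorem edge_mem (h : Sat γ R) (hW : ∀ w ∈ W, prodw γ w ∈ K) {i x : ℕ} (hi : i < n)
    (hx : x < 2 * k) : rowRep γ T i * γ x * (rowRep γ T (ext (T.tab x) i))⁻¹ ∈ K := by
  have even : ∀ {i y : ℕ}, i < n → y < k →
      rowRep γ T i * γ (2 * y) * (rowRep γ T (ext (T.tab (2 * y)) i))⁻¹ ∈ K := by
    intro i y hi hy
    obtain ⟨p, hp⟩ := c.derived y hy i (c.n_eq.symm ▸ hi)
    simp only [Tab.edgeP, Bool.and_eq_true, Nat.blt_eq] at hp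
    have hm := Cert.mem_of_reads (H := K) h.iv h.eps h.rel hW c.ok hp.2
    simpa [prodw, rowRep] using hm
  obtain ⟨y, rfl | rfl⟩ := Nat.even_or_odd' x
  · exact even hi (by omega)
  · have hy : y < k := by omega
    obtain ⟨h1, h2, -⟩ := c.inv_entry hi hy
    have e := K.inv_mem (even h1 hy)
    rw [h2] at e
    have e' : γ (2 * y + 1) = (γ (2 * y))⁻¹ := by
      have := h.iv (2 * y) (by have := c.le; omega)
      rwa [xor_even (by have := c.le; omega)] at this
    rw [e']
    simpa [mul_assoc] using e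

theorem walk_mem (h : Sat γ R) (hW : ∀ w ∈ W, prodw γ w ∈ K) : ∀ (w : List ℕ),
    (∀ x ∈ w, x < 2 * k) → ∀ i, i < n →
      rowRep γ T i * prodw γ w * (rowRep γ T (T.walk i w))⁻¹ ∈ K := by
  intro w
  induction w with
  | nil => intro _ i _; simp [prodw, Tab.walk]
  | cons x w ih =>
    intro hw i hi
    have h1 := c.edge_mem h hW hi (hw x List.mem_cons_self)
    have h2 := ih (fun y hy => hw y (List.mem_cons_of_mem x hy)) _ (c.edge_lt hi (hw x List.mem_cons_self))
    have := K.mul_mem h1 h2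
    rw [prodw_cons]
    simpa [Tab.walk, mul_assoc] using this

theorem mem_invW {w : List ℕ} (hw : ∀ x ∈ w, x < 2 * k) : ∀ x ∈ invW w, x < 2 * k := by
  intro x hx
  simp only [invW, List.mem_reverse, List.mem_map] at hx
  obtain ⟨y, hy, rfl⟩ := hx
  exact xor_lt c.le (hw y hy)

theorem walk_cancel : ∀ (w : List ℕ), (∀ x ∈ w, x < 2 * k) → ∀ i, i < n →
    T.walk i (invW w ++ w) = i := by
  intro w
  induction w with
  | nil => intro _ i _; rfl
  | cons x w ih =>
    intro hw i hi
    have hwt : ∀ y ∈ w, y < 2 * k := fun y hy => hw y (List.mem_cons_of_mem x hy)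
    have hlt := c.walk_lt (c.mem_invW hwt) hi
    rw [show invW (x :: w) ++ x :: w = (invW w ++ [Nat.xor x 1, x]) ++ w by simp [invW],
      Tab.walk_append, Tab.walk_append]
    have hc : T.walk (T.walk i (invW w)) [Nat.xor x 1, x] = T.walk i (invW w) := by
      have hx := hw x List.mem_cons_self
      have hle := c.le
      obtain ⟨y, rfl | rfl⟩ := Nat.even_or_odd' x <;>
        obtain ⟨-, e1, e2⟩ := c.inv_entry hlt (x := y) (by omega)
      · rw [xor_even (by omega)]
        exact e1
      · rw [show Nat.xor (2 * y + 1) 1 = 2 * y by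
          have hy : y < 6 := by omega
          interval_cases y <;> decide]
        exact e2
    rw [hc, ← Tab.walk_append]
    exact ih hwt i hi

/-- Over the trivial subgroup a word has the value of its row. -/
theorem prodw_eq_word (h : Sat γ R) (hW : W = []) {w : List ℕ} (hw : ∀ x ∈ w, x < 2 * k) :
    prodw γ w = prodw γ (word (T.walk 0 w)) := by
  have hW' : ∀ v ∈ W, prodw γ v ∈ (⊥ : Subgroup G) := by rw [hW]; simp
  have hl := c.walk_lt hw c.pos
  have h1 := c.walk_mem h hW' w hw 0 c.pos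
  have h2 := c.walk_mem h hW' _ (c.word_spec hl).2 0 c.pos
  rw [(c.word_spec hl).1, Subgroup.mem_bot, mul_inv_eq_one] at h2
  rw [Subgroup.mem_bot, mul_inv_eq_one] at h1
  rw [c.rowRep_zero, one_mul] at h1 h2
  rw [h1, h2]

end Closed

/-- A refuted case: the word lies in the subgroup. -/
theorem mem_of_cert {C : Cert} {R W : List (List ℕ)} (hok : C.ok R W = true) {w : List ℕ} {S : ℕ}
    (hr : C.reads w 0 0 S = true) (h : Sat γ R) (hW : ∀ v ∈ W, prodw γ v ∈ K) :
    prodw γ w ∈ K := by
  simpa [crOf_zero] using Cert.mem_of_reads h.iv h.eps h.rel hW hok hr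

theorem prodw_invW_of_sat {R : List (List ℕ)} (h : Sat γ R) (w : List ℕ) (hw : ∀ x ∈ w, x < 12) :
    prodw γ (invW w) = (prodw γ w)⁻¹ :=
  prodw_rev_iv γ 12 (fun y => Nat.xor y 1) (fun x hx _ => h.iv x hx) w fun x hx => ⟨hw x hx, by
    have := hw x hx
    interval_cases x <;> decide⟩

theorem prodw_commW {R : List (List ℕ)} (h : Sat γ R) {v w : List ℕ} (hv : ∀ x ∈ v, x < 12)
    (hw : ∀ x ∈ w, x < 12) :
    prodw γ (commW v w) = prodw γ v * prodw γ w * (prodw γ v)⁻¹ * (prodw γ w)⁻¹ := by
  rw [commW, prodw_append, prodw_append, prodw_append, prodw_invW_of_sat h v hv,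
    prodw_invW_of_sat h w hw]

end CfsgLib.G2Rec
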