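import Cfsg.Agent.UFourType.CertLib

set_option autoImplicit false
set_option maxRecDepth 20000

/-! Words of the recognition of `G₂(3)` from two 2-locals. The letters `0 2 4 6 8 10` stand for
generators `i a s q x g`, odd letters for their inverses: `i, s` generate the first `SL(2,3)` and
`a, q` the second, `x` is an involution inverting both and `g` interchanges `z = i²` and `i a`. -/

namespace CfsgLib.G2Rec

open CfsgLib.UFourType

/-- The central involution. -/
def zW : List ℕ := [0, 0]

/-- The first vector of the four group. -/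
def e1W : List ℕ := [0, 2]

/-- The second vector of the four group. -/
def e2W : List ℕ := [4, 6, 0, 2, 7, 5]

/-- The product of the three basis vectors. -/
def z12W : List ℕ := [0, 0, 0, 2, 4, 6, 0, 2, 7, 5]

/-- The conjugate of `i` under the diagonal element of order three. -/
def jW : List ℕ := [4, 6, 0, 7, 5]

/-- The conjugate of `a` under the diagonal element of order three. -/
def bW : List ℕ := [4, 6, 2, 7, 5]

/-- The diagonal element of order three. -/
def tW : List ℕ := [4, 6]

/-- Relators of the centralizer of `z`. -/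
def hRels : List (List ℕ) := [
    [0, 0, 0, 0],
    [4, 4, 4],
    [6, 6, 6],
    [2, 2, 1, 1],
    [0, 2, 1, 3],
    [0, 6, 1, 7],
    [4, 2, 5, 3],
    [4, 6, 5, 7],
    [4, 0, 5, 0, 4, 1, 5, 0],
    [6, 2, 7, 2, 6, 3, 7, 2],
    [4, 4, 0, 5, 5, 4, 1, 5, 1],
    [6, 6, 2, 7, 7, 6, 3, 7, 3],
    [8, 8],
    [8, 0, 8, 4, 1, 5],
    [8, 2, 8, 6, 3, 7],
    [8, 4, 8, 4, 1],
    [8, 6, 8, 6, 3]]

/-- Relators with `g`. -/
def gRels : List (List ℕ) := [
    [10, 10],
    [10, 0, 0, 10, 3, 1],
    [10, 4, 6, 0, 2, 7, 5, 10, 4, 6, 3, 1, 7, 5],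
    [10, 0, 10, 7, 5, 9],
    [10, 8, 10, 8, 10, 8, 4, 6, 3, 1, 7, 5, 3, 1, 1, 1],
    [10, 4, 6, 10, 4, 6, 10, 4, 6, 10, 4, 6, 10, 4, 6, 10, 4, 6, 10, 4, 6]]

/-- Relators of the centralizer of `z` in the second local subgroup, where `4` stands for the
diagonal element of order three and `6` for the identity. -/
def pRels : List (List ℕ) := [
    [0, 0, 0, 0],
    [2, 2, 1, 1],
    [0, 2, 1, 3],
    [0, 4, 6, 2, 7, 5, 1, 4, 6, 3, 7, 5],
    [4, 6, 4, 6, 4, 6],
    [4, 6, 0, 7, 5, 0, 4, 6, 1, 7, 5, 0],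
    [4, 6, 2, 7, 5, 2, 4, 6, 3, 7, 5, 2],
    [4, 6, 4, 6, 0, 7, 5, 7, 5, 4, 6, 1, 7, 5, 1],
    [4, 6, 4, 6, 2, 7, 5, 7, 5, 4, 6, 3, 7, 5, 3],
    [8, 8],
    [8, 0, 8, 4, 6, 1, 7, 5],
    [8, 2, 8, 4, 6, 3, 7, 5],
    [8, 4, 6, 8, 4, 6, 3, 1]]

/-- Relators of the second local subgroup. -/
def mRels : List (List ℕ) := [[6]] ++ pRels ++ gRels

/-- The relators with `g` known before normalisation. -/
def mBase : List (List ℕ) := [
    [10, 0, 0, 11, 3, 1],
    [10, 0, 2, 11, 1, 1],
    [10, 4, 6, 0, 2, 7, 5, 11, 4, 6, 3, 1, 7, 5],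
    [10, 4, 6, 10, 4, 6, 10, 4, 6, 10, 4, 6, 10, 4, 6, 10, 4, 6, 10, 4, 6]]

/-- The relators of a case in the second local subgroup: `g² = sq`, `(g x)³ = c`. -/
def mCase (sq c : List ℕ) : List (List ℕ) :=
  [[6]] ++ pRels ++ mBase ++
    [[10, 10] ++ invW sq, [10, 0, 11] ++ invW [8, 4, 6],
      [10, 8, 10, 8, 10, 8] ++ invW c]

/-- Generators of the centralizer. -/
def hSub : List (List ℕ) := [
    [0],
    [2],
    [4],
    [6],
    [8]]

/-- Generators of the second local subgroup. -/
def mSub : List (List ℕ) := [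
    [0],
    [2],
    [4, 6],
    [8],
    [10]]

/-- Conjugates `z` to the involution inverting `s` and `q`. -/
def kW : List ℕ := [8, 10, 4, 7, 10]

/-- The involution inverting `q`. -/
def xW : List ℕ := [0, 3, 4, 6, 8]

/-- The transported `z`. -/
def z2W : List ℕ := [0, 2, 4, 6, 8, 5, 7]

/-- The transported element of order three. -/
def nW (m : List ℕ) : List ℕ := kW ++ m ++ invW kW

/-- The commutator of two words. -/
def commW (v w : List ℕ) : List ℕ := v ++ w ++ invW v ++ invW w

/-- The relator saying that `q` commutes with the transported element. -/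
def qComm (m : List ℕ) : List ℕ := commW [6] (nW m)

/-- The relator saying that the transported element and its conjugate commute modulo `q`. -/
def splitW (m h : List ℕ) (e : ℕ) : List ℕ :=
  commW (nW m) (h ++ nW m ++ invW h) ++ [[], [7], [6]].getD e []

/-- The relators of a case. -/
def caseRels (m : List ℕ) : List (List ℕ) := hRels ++ gRels ++ [qComm m]

/-- The relators of a case split by a commutator. -/
def splitRels (m h : List ℕ) (e : ℕ) : List (List ℕ) := caseRels m ++ [splitW m h e]

end CfsgLib.G2Rec
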